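import Mathlib
import Cfsg.Agent.Lib.TwoGroups.RankOne
import Cfsg.Agent.Lib.CoprimeAction.Abelian

/-!
2-groups without a noncyclic abelian subgroup of order eight.
-/

set_option autoImplicit false
set_option linter.style.haveILetI false

open scoped commutatorElement

namespace CfsgLib.Minimal.SmallTwo

variable {G : Type*} [Group G]

/-- No noncyclic abelian subgroup of order eight lies in `W`. -/
def Small (W : Subgroup G) : Prop :=
  ∀ A : Subgroup G, A ≤ W → IsMulCommutative A → ¬ IsCyclic A → Nat.card A ≠ 8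

theorem Small.mono {W V : Subgroup G} (h : Small W) (hV : V ≤ W) : Small V :=
  fun A hA => h A (hA.trans hV)

/-- A four-group. -/
structure IsFour (U : Subgroup G) : Prop where
  card : Nat.card U = 4
  sq : ∀ x ∈ U, x * x = 1

theorem IsFour.comm {U : Subgroup G} (hU : IsFour U) {x y : G} (hx : x ∈ U) (hy : y ∈ U) :
    x * y = y * x := by
  calc x * y = x * ((x * y) * (x * y)) * y := by rw [hU.sq _ (mul_mem hx hy), mul_one]
    _ = (x * x) * (y * x) * (y * y) := by group
    _ = y * x := by rw [hU.sq x hx, hU.sq y hy, one_mul, mul_one]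

theorem not_isCyclic_of_sq {A : Subgroup G} (h4 : 2 < Nat.card A) {U : Subgroup G} (hUA : U ≤ A)
    (hU : IsFour U) : ¬ IsCyclic A := by
  intro h
  haveI : Finite A := (Nat.card_pos_iff.1 (by omega)).2
  haveI := Subgroup.isCyclic_of_le hUA
  obtain ⟨⟨g, hg⟩, hgen⟩ := IsCyclic.exists_ofOrder_eq_natCard (α := U)
  have h2 : orderOf (⟨g, hg⟩ : U) ∣ 2 := orderOf_dvd_of_pow_eq_one (Subtype.ext (by
    rw [SubmonoidClass.coe_pow, pow_two, hU.sq g hg]; rfl))
  rw [hgen, hU.card] at h2
  exact absurd (Nat.le_of_dvd two_pos h2) (by norm_num)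

/-- The four-group on two commuting involutions. -/
def fourOf {x y : G} (hx : x * x = 1) (hy : y * y = 1) (hxy : x * y = y * x) : Subgroup G where
  carrier := {1, x, y, x * y}
  one_mem' := Or.inl rfl
  mul_mem' := fun {a b} ha hb => by
    have e1 : ∀ t, x * (x * t) = t := fun t => by rw [← mul_assoc, hx, one_mul]
    have e2 : ∀ t, y * (y * t) = t := fun t => by rw [← mul_assoc, hy, one_mul]
    have e3 : ∀ t, y * (x * t) = x * (y * t) := fun t => by rw [← mul_assoc, ← hxy, mul_assoc]
    rcases ha with rfl | rfl | rfl | rfl <;> rcases hb with rfl | rfl | rfl | rfl <;>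
      simp [mul_assoc, e1, e2, e3, hx, hy, ← hxy]
  inv_mem' := fun {a} ha => by
    rcases ha with rfl | rfl | rfl | rfl
    · simp
    · rw [inv_eq_of_mul_eq_one_right hx]; exact Or.inr (Or.inl rfl)
    · rw [inv_eq_of_mul_eq_one_right hy]; exact Or.inr (Or.inr (Or.inl rfl))
    · rw [mul_inv_rev, inv_eq_of_mul_eq_one_right hx, inv_eq_of_mul_eq_one_right hy, ← hxy]
      exact Or.inr (Or.inr (Or.inr rfl))

theorem mem_fourOf {x y : G} (hx : x * x = 1) (hy : y * y = 1) (hxy : x * y = y * x) :
    x ∈ fourOf hx hy hxy ∧ y ∈ fourOf hx hy hxy :=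
  ⟨Or.inr (Or.inl rfl), Or.inr (Or.inr (Or.inl rfl))⟩

theorem fourOf_le {x y : G} (hx : x * x = 1) (hy : y * y = 1) (hxy : x * y = y * x) {W : Subgroup G}
    (h1 : x ∈ W) (h2 : y ∈ W) : fourOf hx hy hxy ≤ W := fun a ha => by
  rcases ha with rfl | rfl | rfl | rfl
  exacts [one_mem _, h1, h2, mul_mem h1 h2]

theorem isFour_fourOf {x y : G} (hx : x * x = 1) (hy : y * y = 1) (hxy : x * y = y * x) (hx1 : x ≠ 1)
    (hy1 : y ≠ 1) (hne : x ≠ y) : IsFour (fourOf hx hy hxy) := by
  refine ⟨?_, fun a ha => ?_⟩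
  · show Nat.card ({1, x, y, x * y} : Set G) = 4
    have h1 : x * y ≠ 1 := fun h => hne (by
      rw [← inv_eq_of_mul_eq_one_right h, inv_eq_of_mul_eq_one_right hx])
    rw [Nat.card_coe_set_eq, Set.ncard_eq_four]
    exact ⟨1, x, y, x * y, hx1.symm, hy1.symm, h1.symm, hne,
      fun h => hy1 (mul_eq_left.1 h.symm), fun h => hx1 (mul_eq_right.1 h.symm), rfl⟩
  · rcases ha with rfl | rfl | rfl | rfl
    · exact one_mul 1
    · exact hx
    · exact hy
    · rw [mul_assoc, ← mul_assoc y, ← hxy, mul_assoc x y y, hy, mul_one, hx]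

theorem exists_pow_boundary {P : ℕ → Prop} {n : ℕ} (h0 : ¬ P 0) (hn : P n) : ∃ j, ¬ P j ∧ P (j + 1) := by
  induction n with
  | zero => exact absurd hn h0
  | succ m ih => exact (em (P m)).elim ih fun h => ⟨m, h, hn⟩

variable [Finite G]

/-- A small 2-group with a central four-group equals it. -/
theorem eq_of_small_four {W U : Subgroup G} (hW : IsPGroup 2 W) (hS : Small W) (hU : IsFour U)
    (hUW : U ≤ W) (hcen : ∀ u ∈ U, ∀ w ∈ W, u * w = w * u) : W = U := by
  refine le_antisymm (fun w hw => ?_) hUW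
  by_contra hwU
  obtain ⟨n, hn⟩ := hW ⟨w, hw⟩
  have hn' : w ^ 2 ^ n = 1 := congrArg Subtype.val hn
  obtain ⟨j, hj, hj'⟩ := exists_pow_boundary (P := fun j => w ^ 2 ^ j ∈ U) (n := n)
    (by simpa using hwU) (by rw [hn']; exact one_mem _)
  set k := w ^ 2 ^ j with hk
  have hkk : k * k ∈ U := by rwa [hk, ← pow_add, ← two_mul, ← pow_succ']
  have hkW : k ∈ W := pow_mem hw _
  let K : Subgroup G :=
    { carrier := {a | a ∈ U ∨ a * k ∈ U}
      one_mem' := Or.inl (one_mem _)
      mul_mem' := fun {a b} ha hb => by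
        rcases ha with ha | ha <;> rcases hb with hb | hb
        · exact Or.inl (mul_mem ha hb)
        · exact Or.inr (by rw [mul_assoc]; exact mul_mem ha hb)
        · refine Or.inr ?_
          rw [mul_assoc, hcen b hb k hkW, ← mul_assoc]
          exact mul_mem ha hb
        · refine Or.inl ?_
          have h1 : a * b * (k * k) ∈ U := by
            have h2 := mul_mem ha hb
            rw [show a * k * (b * k) = a * (k * (b * k)) by group, ← hcen (b * k) hb k hkW] at h2
            simpa only [mul_assoc] using h2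
          simpa [mul_assoc] using mul_mem h1 (inv_mem hkk)
      inv_mem' := fun {a} ha => by
        rcases ha with ha | ha
        · exact Or.inl (inv_mem ha)
        · refine Or.inr ?_
          have h := hcen (a * k)⁻¹ (inv_mem ha) k hkW
          have : a⁻¹ * k = k * k * (a * k)⁻¹ := by
            calc a⁻¹ * k = k * (a * k)⁻¹ * k := by group
              _ = k * ((a * k)⁻¹ * k) := mul_assoc _ _ _
              _ = k * (k * (a * k)⁻¹) := by rw [h]
              _ = k * k * (a * k)⁻¹ := (mul_assoc _ _ _).symm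
          rw [this]
          exact mul_mem hkk (inv_mem ha) }
  have hkK : k ∈ K := Or.inr hkk
  have hUK : U ≤ K := fun a ha => Or.inl ha
  have hKW : K ≤ W := fun a ha => ha.elim (fun h => hUW h) fun h => by
    simpa [mul_assoc] using mul_mem (hUW h) (inv_mem hkW)
  have hKc : IsMulCommutative K := by
    refine ⟨⟨fun a b => Subtype.ext ?_⟩⟩
    have key : ∀ x ∈ K, ∀ u ∈ U, x * u = u * x := fun x hx u hu => (hcen u hu x (hKW hx)).symm
    show (a : G) * b = b * a
    rcases a.2 with h | h
    · exact (key _ b.2 _ h).symm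
    · rcases b.2 with h' | h'
      · exact key _ a.2 _ h'
      · have h1 : (a : G) = (a * k) * k⁻¹ := by group
        have h2 : (b : G) = (b * k) * k⁻¹ := by group
        have c1 : Commute ((a : G) * k) k := hcen _ h k hkW
        have c2 : Commute ((b : G) * k) k := hcen _ h' k hkW
        rw [h1, h2]
        exact ((show Commute ((a : G) * k) ((b : G) * k) from hU.comm h h').mul_right c1.inv_right).mul_left
          (c2.symm.inv_left.mul_right (Commute.refl k⁻¹))
  have hlt : 4 < Nat.card K := by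
    rw [← hU.card, ← SetLike.coe_sort_coe K, ← SetLike.coe_sort_coe U, Nat.card_coe_set_eq, Nat.card_coe_set_eq]
    exact Set.ncard_lt_ncard ⟨hUK, fun h => hj (h hkK)⟩ (Set.toFinite _)
  have hle : Nat.card K ≤ 8 := by
    have hinj : Nat.card K ≤ Nat.card (U ⊕ U) := by
      refine Nat.card_le_card_of_surjective
        (Sum.elim (fun u : U => (⟨u, hUK u.2⟩ : K))
          (fun u : U => ⟨(u : G) * k⁻¹, mul_mem (hUK u.2) (inv_mem hkK)⟩)) fun ⟨a, ha⟩ => ?_
      rcases ha with h | h
      · exact ⟨Sum.inl ⟨a, h⟩, rfl⟩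
      · exact ⟨Sum.inr ⟨a * k, h⟩, Subtype.ext (by simp)⟩
    rwa [Nat.card_sum, hU.card] at hinj
  haveI : Fact (Nat.Prime 2) := ⟨Nat.prime_two⟩
  obtain ⟨i, hi⟩ := IsPGroup.iff_card.1 (hW.to_le hKW)
  refine hS K hKW hKc (not_isCyclic_of_sq (by omega) hUK hU) ?_
  rw [hi] at hlt hle ⊢
  have h3 : i = 3 := by
    have h2 : 2 < i := (Nat.pow_lt_pow_iff_right one_lt_two).1 (show 2 ^ 2 < 2 ^ i from hlt)
    have h4 : i ≤ 3 := (Nat.pow_le_pow_iff_right one_lt_two).1 (show 2 ^ i ≤ 2 ^ 3 from hle)
    omega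
  rw [h3]; norm_num

/-- A small abelian noncyclic 2-group is a four-group. -/
theorem isFour_of_small_abelian {W : Subgroup G} (hW : IsPGroup 2 W) (hS : Small W)
    (hc : ∀ x ∈ W, ∀ y ∈ W, x * y = y * x) (hn : ¬ IsCyclic W) : IsFour W := by
  haveI : IsMulCommutative W := ⟨⟨fun a b => Subtype.ext (hc a a.2 b b.2)⟩⟩
  obtain ⟨p, x, y, hp, hx, hy, hxo, hyo, hyx⟩ := CfsgLib.CoprimeAction.exists_two_generators hn
  have hp2 : p = 2 := by
    haveI : Fact (Nat.Prime 2) := ⟨Nat.prime_two⟩
    obtain ⟨i, hi⟩ := IsPGroup.iff_card.1 hW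
    refine (Nat.prime_dvd_prime_iff_eq hp Nat.prime_two).1 (hp.dvd_of_dvd_pow (n := i) ?_)
    rw [← hi, ← hxo]
    exact W.orderOf_dvd_natCard hx
  subst hp2
  have ex : x * x = 1 := by rw [← pow_two, ← hxo, pow_orderOf_eq_one]
  have ey : y * y = 1 := by rw [← pow_two, ← hyo, pow_orderOf_eq_one]
  have hU : IsFour (fourOf ex ey (hc x hx y hy)) := isFour_fourOf ex ey _
    (fun h => by rw [h, orderOf_one] at hxo; norm_num at hxo)
    (fun h => by rw [h, orderOf_one] at hyo; norm_num at hyo)
    (fun h => hyx (h ▸ Subgroup.mem_zpowers x))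
  rw [eq_of_small_four hW hS hU (fourOf_le _ _ _ hx hy) fun u hu w hw => hc u (fourOf_le ex ey _ hx hy hu) w hw]
  exact hU

omit [Finite G] in
/-- Central elements of a noncyclic quaternion group square to one. -/
theorem quaternion_central_sq {n : ℕ} (hn : 2 ≤ n) {g : QuaternionGroup n}
    (hg : ∀ h, g * h = h * g) : g * g = 1 := by
  rcases g with i | i
  · have h := hg (QuaternionGroup.xa 0)
    rw [QuaternionGroup.a_mul_xa, QuaternionGroup.xa_mul_a] at h
    have h' : (0 : ZMod (2 * n)) - i = 0 + i := QuaternionGroup.xa.inj h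
    rw [zero_sub, zero_add] at h'
    rw [QuaternionGroup.a_mul_a, show i + i = 0 by rw [← h']; nth_rewrite 2 [h']; exact neg_add_cancel i,
      QuaternionGroup.a_zero]
  · exfalso
    have h := hg (QuaternionGroup.a 1)
    rw [QuaternionGroup.a_mul_xa, QuaternionGroup.xa_mul_a] at h
    have h' : i + (1 : ZMod (2 * n)) = i - 1 := QuaternionGroup.xa.inj h
    have h2 : ((2 : ℕ) : ZMod (2 * n)) = 0 := by
      push_cast
      linear_combination h'
    rw [ZMod.natCast_eq_zero_iff] at h2
    have := Nat.le_of_dvd two_pos h2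
    omega

/-- A small 2-group with a central element of order at least four is cyclic. -/
theorem isCyclic_of_small_central {W : Subgroup G} (hW : IsPGroup 2 W) (hS : Small W) {c : G}
    (hc : c ∈ W) (hcen : ∀ w ∈ W, c * w = w * c) (hc2 : c * c ≠ 1) : IsCyclic W := by
  haveI : Fact (Nat.Prime 2) := ⟨Nat.prime_two⟩
  obtain ⟨n, hn⟩ := hW ⟨c, hc⟩
  have hn' : c ^ 2 ^ n = 1 := congrArg Subtype.val hn
  obtain ⟨j, hj, hj'⟩ := exists_pow_boundary (P := fun j => (c ^ 2 ^ j) * (c ^ 2 ^ j) = 1) (n := n)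
    (by simpa using hc2) (by simp [hn'])
  set d := c ^ 2 ^ j with hd
  have hdd : d * d * (d * d) = 1 := by
    rw [pow_succ', two_mul, pow_add] at hj'
    exact hj'
  have hdW : d ∈ W := pow_mem hc _
  have hdc : ∀ w ∈ W, d * w = w * d := fun w hw => ((show Commute c w from hcen w hw).pow_left _).eq
  have hu1 : d * d ≠ 1 := hj
  have huniq : ∀ w ∈ W, orderOf w = 2 → w = d * d := by
    intro w hw ho
    by_contra hne
    have hw2 : w * w = 1 := by rw [← pow_two, ← ho, pow_orderOf_eq_one]
    have hwd : Commute d w := hdc w hw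
    let V := Subgroup.closure ({d, w} : Set G)
    have hVW : V ≤ W := (Subgroup.closure_le _).2 (by rintro a (rfl | rfl) <;> assumption)
    haveI : IsMulCommutative V := Subgroup.isMulCommutative_closure (by
      rintro a (rfl | rfl) b (rfl | rfl) <;> first | rfl | exact hwd.eq | exact hwd.eq.symm)
    have hc' : ∀ a ∈ V, ∀ b ∈ V, a * b = b * a := fun a ha b hb =>
      congrArg Subtype.val ((inferInstance : IsMulCommutative V).is_comm.comm ⟨a, ha⟩ ⟨b, hb⟩)
    have hdV : d ∈ V := Subgroup.subset_closure (Or.inl rfl)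
    have hwV : w ∈ V := Subgroup.subset_closure (Or.inr rfl)
    have hcom : (d * d) * w = w * (d * d) := (hwd.mul_left hwd).eq
    have hU : IsFour (fourOf hdd hw2 hcom) := isFour_fourOf hdd hw2 hcom hu1
      (fun h => by rw [h, orderOf_one] at ho; norm_num at ho) (fun h => hne h.symm)
    have hle : fourOf hdd hw2 hcom ≤ V := fourOf_le _ _ _ (mul_mem hdV hdV) hwV
    have h := eq_of_small_four (hW.to_le hVW) (hS.mono hVW) hU hle fun u hu b hb => hc' u (hle hu) b hb
    exact hu1 (hU.sq d (h ▸ hdV))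
  have hone : CfsgLib.TwoGroups.UniqueOrderP 2 W := by
    rw [CfsgLib.TwoGroups.uniqueOrderP_iff_unique_involution]
    intro a b ha hb
    rw [← Subgroup.orderOf_coe] at ha hb
    exact Subtype.ext ((huniq a a.2 ha).trans (huniq b b.2 hb).symm)
  rcases CfsgLib.TwoGroups.isCyclic_or_quaternion hW hone with h | ⟨-, m, hm, ⟨e⟩⟩
  · exact h
  · exfalso
    have h2m : 2 ≤ 2 ^ m := by
      calc 2 = 2 ^ 1 := rfl
        _ ≤ 2 ^ m := Nat.pow_le_pow_right two_pos hm
    have h := quaternion_central_sq h2m (g := e ⟨c, hc⟩) fun h => by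
      obtain ⟨w, rfl⟩ := e.surjective h
      rw [← map_mul, ← map_mul]
      exact congrArg e (Subtype.ext (hcen w w.2))
    rw [← map_mul, MulEquiv.map_eq_one_iff] at h
    exact hc2 (congrArg Subtype.val h)

/-- A small nonabelian 2-group with squares and commutators in a central subgroup of order two has order 8. -/
theorem card_eq_eight {W : Subgroup G} (hW : IsPGroup 2 W) (hS : Small W) {z : G} (hz2 : z * z = 1)
    (hz1 : z ≠ 1) (hzW : z ∈ W) (hzc : ∀ w ∈ W, z * w = w * z)
    (hsq : ∀ w ∈ W, w * w = 1 ∨ w * w = z)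
    (hcom : ∀ a ∈ W, ∀ b ∈ W, a * b = b * a ∨ a * b = z * (b * a))
    {x y : G} (hx : x ∈ W) (hy : y ∈ W) (hxy : x * y ≠ y * x) : Nat.card W = 8 := by
  classical
  haveI : Fact (Nat.Prime 2) := ⟨Nat.prime_two⟩
  let Z := Subgroup.closure ({z, x} : Set G)
  have hcentral : ∀ c ∈ W, c * x = x * c → c ∈ ({1, z, x, z * x} : Set G) := by
    intro c hc hcx
    let V := Subgroup.closure ({z, x, c} : Set G)
    have hVW : V ≤ W := (Subgroup.closure_le _).2 (by rintro a (rfl | rfl | rfl) <;> assumption)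
    haveI : IsMulCommutative V := Subgroup.isMulCommutative_closure (by
      rintro a (rfl | rfl | rfl) b (rfl | rfl | rfl) <;>
        first | rfl | exact hzc _ hx | exact (hzc _ hx).symm | exact hzc _ hc | exact (hzc _ hc).symm |
          exact hcx | exact hcx.symm)
    have hc' : ∀ a ∈ V, ∀ b ∈ V, a * b = b * a := fun a ha b hb =>
      congrArg Subtype.val ((inferInstance : IsMulCommutative V).is_comm.comm ⟨a, ha⟩ ⟨b, hb⟩)
    have hV4 : Nat.card V ≤ 4 := by
      by_cases hcy : IsCyclic V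
      · obtain ⟨⟨g, hg⟩, hgo⟩ := IsCyclic.exists_ofOrder_eq_natCard (α := V)
        rw [← hgo]
        refine Nat.le_of_dvd (by norm_num) (orderOf_dvd_of_pow_eq_one (Subtype.ext ?_))
        show g ^ (2 + 2) = 1
        rw [pow_add, pow_two]
        rcases hsq g (hVW hg) with h | h <;> simp [h, hz2]
      · exact (isFour_of_small_abelian (hW.to_le hVW) (hS.mono hVW) hc' hcy).card.le
    have hmz : z ∈ V := Subgroup.subset_closure (Or.inl rfl)
    have hmx : x ∈ V := Subgroup.subset_closure (Or.inr (Or.inl rfl))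
    have hmc : c ∈ V := Subgroup.subset_closure (Or.inr (Or.inr rfl))
    have hx1 : x ≠ 1 := fun h => hxy (by rw [h, one_mul, mul_one])
    have hxz : x ≠ z := fun h => hxy (h ▸ hzc y hy)
    have hzx : z * x ≠ 1 := fun h => hxz (by
      rw [← inv_eq_of_mul_eq_one_right h, inv_eq_of_mul_eq_one_right hz2])
    by_contra hcn
    have hsub : insert c ({1, z, x, z * x} : Set G) ⊆ V := by
      rintro a (rfl | rfl | rfl | rfl | rfl)
      exacts [hmc, one_mem _, hmz, hmx, mul_mem hmz hmx]
    have h4 : ({1, z, x, z * x} : Set G).ncard = 4 :=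
      Set.ncard_eq_four.2 ⟨1, z, x, z * x, hz1.symm, hx1.symm, hzx.symm, hxz.symm,
        fun h => hx1 (mul_eq_left.1 h.symm), fun h => hz1 (mul_eq_right.1 h.symm), rfl⟩
    have h := Set.ncard_le_ncard hsub (Set.toFinite _)
    rw [Set.ncard_insert_of_notMem hcn (Set.toFinite _), h4, ← Nat.card_coe_set_eq] at h
    simp only [SetLike.coe_sort_coe] at h
    omega
  have hle : Nat.card W ≤ 8 := by
    have hsub : (W : Set G) ⊆ {1, z, x, z * x} ∪ (fun t => t * y) '' {1, z, x, z * x} := by
      intro w hw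
      rcases hcom w hw x hx with h | h
      · exact Or.inl (hcentral w hw h)
      · refine Or.inr ⟨w * y⁻¹, hcentral _ (mul_mem hw (inv_mem hy)) ?_, by simp⟩
        have h2 : y * x = z * (x * y) := (hcom y hy x hx).resolve_left fun e => hxy e.symm
        have hyz : y⁻¹ * z = z * y⁻¹ := (hzc y⁻¹ (inv_mem hy)).symm
        have h4 : y⁻¹ * x = z * (x * y⁻¹) := by
          have h5 : x = y⁻¹ * (z * (x * y)) := by rw [← h2]; group
          have h6 : x * y⁻¹ = z * (y⁻¹ * x) := by
            conv_lhs => rw [h5]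
            rw [← mul_assoc, hyz]; group
          rw [h6, ← mul_assoc z z, hz2, one_mul]
        rw [mul_assoc, h4, ← mul_assoc w z, ← hzc w hw, mul_assoc z w, ← mul_assoc w x, h, ← mul_assoc z,
          ← mul_assoc z z, hz2, one_mul, mul_assoc]
    rw [← SetLike.coe_sort_coe, Nat.card_coe_set_eq]
    refine (Set.ncard_le_ncard hsub (Set.toFinite _)).trans ((Set.ncard_union_le _ _).trans ?_)
    have h4 : ({1, z, x, z * x} : Set G).ncard ≤ 4 := by
      refine (Set.ncard_insert_le _ _).trans ?_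
      refine (Nat.add_le_add_right (Set.ncard_insert_le _ _) 1).trans ?_
      refine (Nat.add_le_add_right (Nat.add_le_add_right (Set.ncard_insert_le _ _) 1) 1).trans ?_
      simp
    have h5 := Set.ncard_image_le (f := fun t => t * y) (s := ({1, z, x, z * x} : Set G)) (Set.toFinite _)
    omega
  obtain ⟨i, hi⟩ := IsPGroup.iff_card.1 hW
  rcases Nat.lt_or_ge i 3 with h | h
  · exfalso
    apply hxy
    have hcomm : ∀ a b : W, a * b = b * a := by
      interval_cases i
      · haveI := (Nat.card_eq_one_iff_unique.1 hi).1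
        exact fun a b => Subsingleton.elim _ _
      · haveI : IsCyclic W := isCyclic_of_prime_card (p := 2) hi
        exact fun a b => IsCyclic.isMulCommutative.is_comm.comm a b
      · haveI : IsMulCommutative W := IsPGroup.isMulCommutative_of_card_eq_prime_sq hi
        exact fun a b => (inferInstance : IsMulCommutative W).is_comm.comm a b
    exact congrArg Subtype.val (hcomm ⟨x, hx⟩ ⟨y, hy⟩)
  · rw [hi] at hle ⊢
    have : i ≤ 3 := (Nat.pow_le_pow_iff_right one_lt_two).1 (show 2 ^ i ≤ 2 ^ 3 from hle)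
    rw [show i = 3 by omega]; norm_num

end CfsgLib.Minimal.SmallTwo
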