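/-
Minimal: extraspecial 2-groups are determined by their order and number of involutions.
-/
import Cfsg.Agent.Lib.PGroups.Extraspecial

set_option autoImplicit false

namespace CfsgLib.Minimal.ExtraspecialTwo

open Cfsg CfsgLib.PGroups

universe u v

variable {E : Type u} [Group E]

/-- `E = {a, b} · C` with `a² = α`, `b² = β`, `b a = z a b`. -/
structure Frame (a b : E) (C : Subgroup E) (α β z : C) : Prop where
  sq_a : a * a = (α : E)
  sq_b : b * b = (β : E)
  swap : b * a = (z : E) * (a * b)
  zcen : ∀ x : E, (z : E) * x = x * (z : E)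
  acen : ∀ x : E, (α : E) * x = x * (α : E)
  bcen : ∀ x : E, (β : E) * x = x * (β : E)
  comm_a : ∀ c : C, (c : E) * a = a * c
  comm_b : ∀ c : C, (c : E) * b = b * c
  bij : Function.Bijective fun p : (Bool × Bool) × C =>
    (if p.1.1 then a else 1) * (if p.1.2 then b else 1) * (p.2 : E)

def psi (a b : E) (C : Subgroup E) (p : (Bool × Bool) × C) : E :=
  (if p.1.1 then a else 1) * (if p.1.2 then b else 1) * (p.2 : E)

def law {C : Subgroup E} (α β z : C) (p q : (Bool × Bool) × C) : (Bool × Bool) × C :=
  ((xor p.1.1 q.1.1, xor p.1.2 q.1.2),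
    (if p.1.1 && q.1.1 then α else 1) * (if p.1.2 && q.1.2 then β else 1) *
      (if p.1.2 && q.1.1 then z else 1) * p.2 * q.2)

theorem Frame.psi_law {a b : E} {C : Subgroup E} {α β z : C} (F : Frame a b C α β z)
    (p q : (Bool × Bool) × C) : psi a b C (law α β z p q) = psi a b C p * psi a b C q := by
  obtain ⟨⟨s, t⟩, c⟩ := p
  obtain ⟨⟨s', t'⟩, c'⟩ := q
  have haz : ∀ x, a * ((α : E) * x) = (α : E) * (a * x) := fun x => by
    rw [← mul_assoc, ← F.acen a, mul_assoc]
  have hbz : ∀ x, b * ((z : E) * x) = (z : E) * (b * x) := fun x => by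
    rw [← mul_assoc, ← F.zcen b, mul_assoc]
  have hazz : ∀ x, a * ((z : E) * x) = (z : E) * (a * x) := fun x => by
    rw [← mul_assoc, ← F.zcen a, mul_assoc]
  have habb : ∀ x, a * ((β : E) * x) = (β : E) * (a * x) := fun x => by
    rw [← mul_assoc, ← F.bcen a, mul_assoc]
  have hba : ∀ x, b * ((α : E) * x) = (α : E) * (b * x) := fun x => by
    rw [← mul_assoc, ← F.acen b, mul_assoc]
  have hbb : ∀ x, b * ((β : E) * x) = (β : E) * (b * x) := fun x => by
    rw [← mul_assoc, ← F.bcen b, mul_assoc]
  have hca : ∀ x, (c : E) * (a * x) = a * (c * x) := fun x => by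
    rw [← mul_assoc, F.comm_a c, mul_assoc]
  have hcb : ∀ x, (c : E) * (b * x) = b * (c * x) := fun x => by
    rw [← mul_assoc, F.comm_b c, mul_assoc]
  have hsw : ∀ x, b * (a * x) = (z : E) * (a * (b * x)) := fun x => by
    rw [← mul_assoc, F.swap]; simp only [mul_assoc]
  have hsa : ∀ x, a * (a * x) = (α : E) * x := fun x => by rw [← mul_assoc, F.sq_a]
  have hsb : ∀ x, b * (b * x) = (β : E) * x := fun x => by rw [← mul_assoc, F.sq_b]
  have hzc : ∀ x, (z : E) * ((α : E) * x) = (α : E) * (z * x) := fun x => by
    rw [← mul_assoc, F.zcen, mul_assoc]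
  have hzb : ∀ x, (z : E) * ((β : E) * x) = (β : E) * (z * x) := fun x => by
    rw [← mul_assoc, F.zcen, mul_assoc]
  have hzy : ∀ x, (β : E) * ((α : E) * x) = (α : E) * (β * x) := fun x => by
    rw [← mul_assoc, F.bcen, mul_assoc]
  cases s <;> cases t <;> cases s' <;> cases t' <;>
    simp [psi, law, mul_assoc, haz, hbz, hazz, habb, hba, hbb, hca, hcb, hsw, hsa, hsb, hzc,
      hzb, hzy]

/-- Two groups with frames whose subgroups correspond are isomorphic. -/
theorem Frame.nonempty_mulEquiv {E' : Type v} [Group E'] {a b : E} {C : Subgroup E} {α β z : C}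
    {a' b' : E'} {C' : Subgroup E'} {α' β' z' : C'}
    (F : Frame a b C α β z) (F' : Frame a' b' C' α' β' z') (e : C ≃* C')
    (hα : e α = α') (hβ : e β = β') (hz : e z = z') : Nonempty (E ≃* E') := by
  let ψ := Equiv.ofBijective (psi a b C) F.bij
  let ψ' := Equiv.ofBijective (psi a' b' C') F'.bij
  let Φ : E ≃ E' := ψ.symm.trans (((Equiv.refl _).prodCongr e.toEquiv).trans ψ')
  refine ⟨MulEquiv.mk' Φ fun x y => ?_⟩
  obtain ⟨p, rfl⟩ := ψ.surjective x
  obtain ⟨q, rfl⟩ := ψ.surjective y
  have h1 : ψ p * ψ q = ψ (law α β z p q) := (F.psi_law p q).symm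
  rw [h1]
  simp only [Φ, Equiv.trans_apply, Equiv.symm_apply_apply, Equiv.prodCongr_apply, Prod.map,
    Equiv.coe_refl, id]
  change psi a' b' C' _ = psi a' b' C' (_, e p.2) * psi a' b' C' (_, e q.2)
  rw [← F'.psi_law]
  congr 1
  obtain ⟨⟨s, t⟩, c⟩ := p
  obtain ⟨⟨s', t'⟩, c'⟩ := q
  cases s <;> cases t <;> cases s' <;> cases t' <;>
    simp [law, hα, hβ, hz, map_mul]

theorem exists_z (hE : IsExtraspecial 2 E) :
    ∃ z ∈ Subgroup.center E, z ≠ 1 ∧ z * z = 1 ∧ ∀ w ∈ Subgroup.center E, w = 1 ∨ w = z := by
  obtain ⟨z, hz1, huniq⟩ := (Nat.card_eq_two_iff' (1 : Subgroup.center E)).1 hE.2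
  have hall : ∀ w : Subgroup.center E, w = 1 ∨ w = z := fun w => by
    by_cases h : w = 1
    · exact Or.inl h
    · exact Or.inr (huniq w h)
  refine ⟨z, z.2, fun h => hz1 (Subtype.ext h), ?_, fun w hw => ?_⟩
  · rcases hall (z * z) with h | h
    · simpa using congrArg Subtype.val h
    · exact absurd (mul_eq_left.1 h) hz1
  · rcases hall ⟨w, hw⟩ with h | h
    · exact Or.inl (congrArg Subtype.val h)
    · exact Or.inr (congrArg Subtype.val h)

/-- The generator of the centre. -/
noncomputable def zE (hE : IsExtraspecial 2 E) : E := (exists_z hE).choose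

theorem zE_mem (hE : IsExtraspecial 2 E) : zE hE ∈ Subgroup.center E :=
  (exists_z hE).choose_spec.1

theorem zE_ne (hE : IsExtraspecial 2 E) : zE hE ≠ 1 := (exists_z hE).choose_spec.2.1

theorem zE_sq (hE : IsExtraspecial 2 E) : zE hE * zE hE = 1 := (exists_z hE).choose_spec.2.2.1

theorem zE_cases (hE : IsExtraspecial 2 E) {w : E} (hw : w ∈ Subgroup.center E) :
    w = 1 ∨ w = zE hE := (exists_z hE).choose_spec.2.2.2 w hw

theorem zE_comm (hE : IsExtraspecial 2 E) (x : E) : zE hE * x = x * zE hE :=
  (Subgroup.mem_center_iff.1 (zE_mem hE) x).symm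

variable [Finite E]

theorem sq_cases (hE : IsExtraspecial 2 E) (x : E) : x * x = 1 ∨ x * x = zE hE := by
  have := CfsgLib.PGroups.IsExtraspecial.pow_mem_center (P := E) hE x
  rw [pow_two] at this
  exact zE_cases hE this

omit [Finite E] in
theorem swap_eq (hE : IsExtraspecial 2 E) {a b : E} (hab : a * b ≠ b * a) :
    b * a = zE hE * (a * b) := by
  rcases zE_cases hE (CfsgLib.PGroups.IsExtraspecial.commutator_mem_center hE b a) with h | h
  · exact absurd (commutatorElement_eq_one_iff_mul_comm.1 h).symm hab
  · rw [commutatorElement_def] at h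
    rw [← h]; group

def pairCentralizer (a b : E) : Subgroup E :=
  Subgroup.centralizer ({a} : Set E) ⊓ Subgroup.centralizer ({b} : Set E)

omit [Finite E] in
theorem not_mem_center {x y : E} (h : x * y ≠ y * x) :
    x ∉ Subgroup.center E ∧ y ∉ Subgroup.center E :=
  ⟨fun h' => h (Subgroup.mem_center_iff.1 h' y).symm, fun h' => h (Subgroup.mem_center_iff.1 h' x)⟩

omit [Finite E] in
theorem mem_pairCentralizer {a b c : E} :
    c ∈ pairCentralizer a b ↔ c * a = a * c ∧ c * b = b * c := by
  simp [pairCentralizer, Subgroup.mem_inf, Subgroup.mem_centralizer_singleton_iff]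

omit [Finite E] in
theorem center_le_pairCentralizer (a b : E) : Subgroup.center E ≤ pairCentralizer a b :=
  fun c hc => mem_pairCentralizer.2
    ⟨(Subgroup.mem_center_iff.1 hc a).symm, (Subgroup.mem_center_iff.1 hc b).symm⟩

noncomputable def zC (hE : IsExtraspecial 2 E) (a b : E) : pairCentralizer a b :=
  ⟨zE hE, center_le_pairCentralizer a b (zE_mem hE)⟩

theorem pair_bijective (hE : IsExtraspecial 2 E) {a b : E} (hab : a * b ≠ b * a) :
    Function.Bijective fun p : (Bool × Bool) × pairCentralizer a b =>
      (if p.1.1 then a else 1) * (if p.1.2 then b else 1) * (p.2 : E) := by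
  set z := zE hE with hz
  have hsw := swap_eq hE hab
  constructor
  · rintro ⟨⟨s, t⟩, c⟩ ⟨⟨s', t'⟩, c'⟩ h
    simp only at h
    obtain ⟨hca, hcb⟩ := mem_pairCentralizer.1 c.2
    obtain ⟨hca', hcb'⟩ := mem_pairCentralizer.1 c'.2
    -- the coefficients are read off from commutation with `a` and `b`
    have hcomm : ∀ (s t : Bool) (c : E), c * a = a * c → c * b = b * c →
        ((if s then a else 1) * (if t then b else 1) * c) * a =
          (if t then z else 1) * (a * ((if s then a else 1) * (if t then b else 1) * c)) ∧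
        b * ((if s then a else 1) * (if t then b else 1) * c) =
          (if s then z else 1) * (((if s then a else 1) * (if t then b else 1) * c) * b) := by
      intro s t c ha hb
      have hza := zE_comm hE a
      have hzb := zE_comm hE b
      have hazx : ∀ x, a * (z * x) = z * (a * x) := fun x => by
        rw [← mul_assoc, ← hza, mul_assoc]
      have hsx : ∀ x, b * (a * x) = z * (a * (b * x)) := fun x => by
        rw [← mul_assoc, hsw]; simp only [mul_assoc, hz]
      cases s <;> cases t <;>
        simp [mul_assoc, ha, hb, hsw, hsx, hazx, ← hz]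
    obtain ⟨h1, h2⟩ := hcomm s t c hca hcb
    obtain ⟨h1', h2'⟩ := hcomm s' t' c' hca' hcb'
    rw [h] at h1 h2
    rw [h1'] at h1
    rw [h2'] at h2
    have ht : t = t' := by
      have := mul_right_cancel h1
      revert this
      cases t <;> cases t' <;> simp [zE_ne hE, (zE_ne hE).symm, hz]
    have hs : s = s' := by
      have := mul_right_cancel h2
      revert this
      cases s <;> cases s' <;> simp [zE_ne hE, (zE_ne hE).symm, hz]
    subst hs ht
    exact Prod.ext rfl (Subtype.ext (mul_left_cancel h))
  · intro x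
    classical
    set s : Bool := decide (x * b ≠ b * x) with hs
    set t : Bool := decide (x * a ≠ a * x) with ht
    set w := (if s then a else 1) * (if t then b else 1) with hw
    refine ⟨((s, t), ⟨w⁻¹ * x, mem_pairCentralizer.2 ⟨?_, ?_⟩⟩), by simp [hw, mul_assoc]⟩
    all_goals
      rw [mul_assoc, inv_mul_eq_iff_eq_mul, ← mul_assoc, ← mul_assoc]
    · have hxa : x * a = (if t then z else 1) * (a * x) := by
        by_cases h : x * a = a * x
        · simp [ht, h]
        · simp only [ht, h, ne_eq, not_false_eq_true, decide_true, if_true]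
          exact swap_eq hE (Ne.symm h)
      have hwa : w * a = (if t then z else 1) * (a * w) := by
        have hazx : ∀ y, a * (z * y) = z * (a * y) := fun y => by
          rw [← mul_assoc, ← zE_comm hE a, mul_assoc]
        rw [hw]; clear_value s t
        cases s <;> cases t <;> simp [mul_assoc, hsw, hazx, ← hz]
      rw [hxa, hwa]
      have : ∀ y : E, (if t then z else 1) * y = y * (if t then z else 1) := fun y => by
        split <;> simp [hz, zE_comm hE y]
      simp only [mul_assoc]
      rw [mul_inv_cancel_left]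
    · have hxb : b * x = (if s then z else 1) * (x * b) := by
        by_cases h : x * b = b * x
        · simp [hs, h]
        · simp only [hs, h, ne_eq, not_false_eq_true, decide_true, if_true]
          exact swap_eq hE h
      have hwb : b * w = (if s then z else 1) * (w * b) := by
        have hsx : ∀ y, b * (a * y) = z * (a * (b * y)) := fun y => by
          rw [← mul_assoc, hsw]; simp only [mul_assoc, hz]
        rw [hw]; clear_value s t
        cases s <;> cases t <;> simp [mul_assoc, hsw, hsx, ← hz]
      apply mul_left_cancel (a := (if s then z else 1))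
      rw [← hxb, show (if s then z else 1) * (w * b * w⁻¹ * x) =
        (if s then z else 1) * (w * b) * w⁻¹ * x by simp [mul_assoc], ← hwb, mul_inv_cancel_right]

/-- The frame attached to a noncommuting pair. -/
theorem frame_of_pair (hE : IsExtraspecial 2 E) {a b : E} (hab : a * b ≠ b * a)
    {α β : pairCentralizer a b} (hα : a * a = (α : E)) (hβ : b * b = (β : E)) :
    Frame a b (pairCentralizer a b) α β (zC hE a b) where
  sq_a := hα
  sq_b := hβ
  swap := swap_eq hE hab
  zcen := zE_comm hE
  acen x := by
    rw [← hα]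
    rcases sq_cases hE a with h | h <;> simp [h, zE_comm hE x]
  bcen x := by
    rw [← hβ]
    rcases sq_cases hE b with h | h <;> simp [h, zE_comm hE x]
  comm_a c := (mem_pairCentralizer.1 c.2).1
  comm_b c := (mem_pairCentralizer.1 c.2).2
  bij := pair_bijective hE hab

theorem card_eq_four_mul (hE : IsExtraspecial 2 E) {a b : E} (hab : a * b ≠ b * a) :
    Nat.card E = 4 * Nat.card (pairCentralizer a b) := by
  rw [← Nat.card_eq_of_bijective _ (pair_bijective hE hab), Nat.card_prod, Nat.card_prod]
  simp [Nat.card_eq_fintype_card]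

theorem eight_le_card (hE : IsExtraspecial 2 E) : 8 ≤ Nat.card E := by
  obtain ⟨a, b, hab⟩ := CfsgLib.PGroups.IsExtraspecial.exists_not_commute hE
  have := Subgroup.card_le_of_le (center_le_pairCentralizer a b)
  rw [hE.2] at this
  rw [card_eq_four_mul hE hab]
  omega

theorem extraspecial_pairCentralizer (hE : IsExtraspecial 2 E) {a b : E} (hab : a * b ≠ b * a)
    (h : 2 < Nat.card (pairCentralizer a b)) : IsExtraspecial 2 (pairCentralizer a b) := by
  set C := pairCentralizer a b with hC
  have hcen : Subgroup.center C = (Subgroup.center E).subgroupOf C := by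
    ext c
    rw [Subgroup.mem_subgroupOf, Subgroup.mem_center_iff, Subgroup.mem_center_iff]
    constructor
    · intro hc x
      obtain ⟨⟨⟨s, t⟩, d⟩, rfl⟩ := (pair_bijective hE hab).2 x
      obtain ⟨ha, hb⟩ := mem_pairCentralizer.1 c.2
      have hd : Commute (d : E) (c : E) := congrArg Subtype.val (hc d)
      refine ((Commute.mul_left (Commute.mul_left ?_ ?_) hd)).eq
      · cases s
        · exact Commute.one_left _
        · exact ha.symm
      · cases t
        · exact Commute.one_left _
        · exact hb.symm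
    · exact fun hc d => Subtype.ext (hc d)
  have hcard : Nat.card (Subgroup.center C) = 2 := by
    rw [hcen, Nat.card_congr (Subgroup.subgroupOfEquivOfLe (center_le_pairCentralizer a b)).toEquiv,
      hE.2]
  have hP : IsPGroup 2 C := hE.1.1.to_subgroup C
  have hcc : commutator C ≤ Subgroup.center C := by
    rw [commutator_def, Subgroup.commutator_le, hcen]
    intro x _ y _
    exact CfsgLib.PGroups.IsExtraspecial.commutator_mem_center hE (x : E) (y : E)
  have hceq : commutator C = Subgroup.center C := by
    refine Subgroup.eq_of_le_of_card_ge hcc ?_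
    rw [hcard]
    by_contra hlt
    have h1 : commutator C = ⊥ := Subgroup.eq_bot_of_card_le _ (by omega)
    have : Subgroup.center C = ⊤ := (commutator_eq_bot_iff_center_eq_top C).1 h1
    rw [this, Subgroup.card_top] at hcard
    omega
  refine ⟨⟨hP, le_antisymm (frattini_le_of (p := 2) hcc fun x => ?_)
    (hceq ▸ commutator_le_frattini hP), hceq⟩, hcard⟩
  rw [hcen, Subgroup.mem_subgroupOf, SubmonoidClass.coe_pow]
  exact CfsgLib.PGroups.IsExtraspecial.pow_mem_center hE _

/-- Number of elements squaring to `1`. -/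
noncomputable def numSq (G : Type*) [Group G] : ℕ := Nat.card {x : G // x ^ 2 = 1}

omit [Finite E] in
theorem numSq_of_card_two (h : Nat.card E = 2) : numSq E = 2 := by
  refine (Nat.card_congr (Equiv.subtypeUnivEquiv fun x => ?_)).trans h
  rw [← h]
  exact pow_card_eq_one'

theorem numSq_le (G : Type*) [Group G] [Finite G] : numSq G ≤ Nat.card G :=
  Nat.card_le_card_of_injective _ Subtype.val_injective

theorem numSq_eq_sum (hE : IsExtraspecial 2 E) {a b : E} (hab : a * b ≠ b * a)
    {α β : pairCentralizer a b} (hα : a * a = (α : E)) (hβ : b * b = (β : E)) :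
    numSq E = ∑ p : Bool × Bool, Nat.card {c : pairCentralizer a b //
      (if p.1 then α else 1) * (if p.2 then β else 1) *
        (if p.2 && p.1 then zC hE a b else 1) * c ^ 2 = 1} := by
  classical
  have F := frame_of_pair hE hab hα hβ
  let ψ := Equiv.ofBijective (psi a b (pairCentralizer a b)) F.bij
  rw [numSq, Nat.card_congr ((Equiv.subtypeEquiv ψ (p := fun x => (ψ x) ^ 2 = 1) (q := fun x : E => x ^ 2 = 1)
      (fun _ => Iff.rfl)).symm),
    Nat.card_congr (Equiv.subtypeProdEquivSigmaSubtype
      (fun p c => (ψ (p, c)) ^ 2 = 1)), Nat.card_sigma]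
  refine Finset.sum_congr rfl fun p _ => Nat.card_congr (Equiv.subtypeEquivRight fun c => ?_)
  obtain ⟨s, t⟩ := p
  rw [pow_two, show ψ ((s, t), c) * ψ ((s, t), c) = ψ (law α β (zC hE a b) ((s, t), c) ((s, t), c))
    from (F.psi_law _ _).symm]
  have h1 : (1 : E) = ψ ((false, false), 1) := by
    change (1 : E) = psi a b _ ((false, false), 1); simp [psi]
  rw [h1, ψ.injective.eq_iff]
  simp [law, pow_two, mul_assoc]

/-- Normal form: two noncommuting involutions, or order 8 with all noncentral elements of order 4. -/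
theorem normal_form (hE : IsExtraspecial 2 E) :
    (∃ a b : E, a * a = 1 ∧ b * b = 1 ∧ a * b ≠ b * a) ∨
      (Nat.card E = 8 ∧ ∀ x : E, x ∉ Subgroup.center E → x * x = zE hE) := by
  by_cases hinv : ∃ a : E, a ∉ Subgroup.center E ∧ a * a = 1
  · left
    obtain ⟨a, ha, ha1⟩ := hinv
    obtain ⟨b, hb⟩ : ∃ b, a * b ≠ b * a := by
      by_contra h
      push Not at h
      exact ha (Subgroup.mem_center_iff.2 fun g => (h g).symm)
    rcases sq_cases hE b with h | h
    · exact ⟨a, b, ha1, h, hb⟩
    · refine ⟨a, a * b, ha1, ?_, ?_⟩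
      · rw [show a * b * (a * b) = a * (b * a) * b by group, swap_eq hE hb,
          ← mul_assoc, ← mul_assoc, ← zE_comm hE a, mul_assoc (zE hE), ha1, mul_one, mul_assoc, h,
          zE_sq hE]
      · rw [mul_assoc a b a]
        exact fun h' => hb (mul_left_cancel h')
  · push Not at hinv
    have hall : ∀ x : E, x ∉ Subgroup.center E → x * x = zE hE := fun x hx =>
      (sq_cases hE x).resolve_left (hinv x hx)
    right
    refine ⟨?_, hall⟩
    obtain ⟨a, b, hab⟩ := CfsgLib.PGroups.IsExtraspecial.exists_not_commute hE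
    rw [card_eq_four_mul hE hab]
    suffices pairCentralizer a b = Subgroup.center E by rw [this, hE.2]
    refine le_antisymm (fun c hc => ?_) (center_le_pairCentralizer a b)
    by_contra hcn
    obtain ⟨hca, hcb⟩ := mem_pairCentralizer.1 hc
    have hac : a * c ∈ Subgroup.center E := by
      by_contra h
      have h1 := hall _ h
      have han : a ∉ Subgroup.center E := fun h' => hab (Subgroup.mem_center_iff.1 h' b).symm
      rw [show a * c * (a * c) = a * (c * a) * c by group, hca, ← mul_assoc, hall a han, mul_assoc,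
        hall c hcn, zE_sq hE] at h1
      exact zE_ne hE h1.symm
    refine hab (mul_right_cancel (b := c) ?_)
    calc a * b * c = a * c * b := by rw [mul_assoc, ← hcb, ← mul_assoc]
      _ = b * (a * c) := (Subgroup.mem_center_iff.1 hac b).symm
      _ = b * a * c := (mul_assoc _ _ _).symm

theorem numSq_step (hE : IsExtraspecial 2 E) {a b : E} (hab : a * b ≠ b * a)
    (ha : a * a = 1) (hb : b * b = 1) :
    numSq E = 2 * numSq (pairCentralizer a b) + Nat.card (pairCentralizer a b) := by
  classical
  set C := pairCentralizer a b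
  have h := numSq_eq_sum hE hab (α := 1) (β := 1) (by simp [ha]) (by simp [hb])
  rw [h, Fintype.sum_prod_type]
  simp only [Fintype.sum_bool, ite_self, Bool.and_self, Bool.and_true, Bool.and_false,
    Bool.false_eq_true, if_true, if_false, one_mul]
  have hcomp : Nat.card {c : C // zC hE a b * c ^ 2 = 1} = Nat.card {c : C // ¬ c ^ 2 = 1} := by
    refine Nat.card_congr (Equiv.subtypeEquivRight fun c => ⟨fun h1 h2 => ?_, fun h2 => ?_⟩)
    · rw [h2, mul_one] at h1
      exact zE_ne hE (congrArg Subtype.val h1)
    · rcases sq_cases hE (c : E) with h3 | h3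
      · exact absurd (Subtype.ext (by simpa [pow_two] using h3)) h2
      · apply Subtype.ext
        simp [pow_two, zC, h3, zE_sq hE]
  have hsum : Nat.card {c : C // c ^ 2 = 1} + Nat.card {c : C // ¬ c ^ 2 = 1} = Nat.card C := by
    rw [← Nat.card_sum, Nat.card_congr (Equiv.sumCompl _)]
  rw [hcomp, show numSq C = Nat.card {c : C // c ^ 2 = 1} from rfl]
  change Nat.card {c : C // ¬ c ^ 2 = 1} + Nat.card {c : C // c ^ 2 = 1} +
    (Nat.card {c : C // c ^ 2 = 1} + Nat.card {c : C // c ^ 2 = 1}) =
    2 * Nat.card {c : C // c ^ 2 = 1} + Nat.card C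
  omega

theorem numSq_eight_minus (hE : IsExtraspecial 2 E)
    (hall : ∀ x : E, x ∉ Subgroup.center E → x * x = zE hE) : numSq E = 2 := by
  refine (Nat.card_congr (Equiv.subtypeEquivRight fun x => ⟨fun hx => ?_, fun hx => ?_⟩)).trans hE.2
  · by_contra h
    exact zE_ne hE (((hall x h).symm.trans (pow_two x).symm).trans hx)
  · rw [pow_two]
    rcases zE_cases hE hx with rfl | rfl
    · exact mul_one 1
    · exact zE_sq hE

/-- Order and number of solutions of `x² = 1`. -/
theorem card_and_numSq (hE : IsExtraspecial 2 E) :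
    ∃ m : ℕ, 1 ≤ m ∧ Nat.card E = 2 ^ (2 * m + 1) ∧
      (numSq E = 2 ^ (2 * m) + 2 ^ m ∨ numSq E + 2 ^ m = 2 ^ (2 * m)) := by
  induction hn : Nat.card E using Nat.strong_induction_on generalizing E with
  | _ n ih =>
  rcases normal_form hE with ⟨a, b, ha, hb, hab⟩ | ⟨h8, hall⟩
  · have h4 := card_eq_four_mul hE hab
    have hs := numSq_step hE hab ha hb
    by_cases h2 : 2 < Nat.card (pairCentralizer a b)
    · obtain ⟨m, hm1, hmc, hm⟩ := ih _ (by omega) (extraspecial_pairCentralizer hE hab h2) rfl
      have e1 : 2 ^ (2 * (m + 1) + 1) = 4 * 2 ^ (2 * m + 1) := by ring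
      have e2 : 2 ^ (2 * (m + 1)) = 4 * 2 ^ (2 * m) := by ring
      have e3 : 2 ^ (m + 1) = 2 * 2 ^ m := by ring
      have e4 : 2 ^ (2 * m + 1) = 2 * 2 ^ (2 * m) := by ring
      exact ⟨m + 1, by omega, by omega, by omega⟩
    · have hle := Subgroup.card_le_of_le (center_le_pairCentralizer a b)
      rw [hE.2] at hle
      have hc : Nat.card (pairCentralizer a b) = 2 := by omega
      rw [hc] at h4 hs
      rw [numSq_of_card_two hc] at hs
      exact ⟨1, le_rfl, by omega, by omega⟩
  · have hs := numSq_eight_minus hE hall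
    exact ⟨1, le_rfl, by omega, by omega⟩

omit [Finite E] in
theorem map_zC {E' : Type v} [Group E'] [Finite E'] (hE : IsExtraspecial 2 E)
    (hE' : IsExtraspecial 2 E') {a b : E} {a' b' : E'} (hab' : a' * b' ≠ b' * a')
    (e : pairCentralizer a b ≃* pairCentralizer a' b') : e (zC hE a b) = zC hE' a' b' := by
  have hz : zC hE a b ∈ Subgroup.center (pairCentralizer a b) :=
    Subgroup.mem_center_iff.2 fun d => Subtype.ext ((zE_comm hE d).symm)
  have hez : ((e (zC hE a b)) : E') ∈ Subgroup.center E' := by
    refine Subgroup.mem_center_iff.2 fun x => ?_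
    obtain ⟨⟨⟨s, t⟩, d⟩, rfl⟩ := (pair_bijective hE' hab').2 x
    obtain ⟨ha, hb⟩ := mem_pairCentralizer.1 (e (zC hE a b)).2
    have hd : Commute (d : E') (e (zC hE a b) : E') := by
      have := congrArg e (Subgroup.mem_center_iff.1 hz (e.symm d))
      rw [map_mul, map_mul, e.apply_symm_apply] at this
      exact congrArg Subtype.val this
    refine (Commute.mul_left (Commute.mul_left ?_ ?_) hd).eq
    · cases s
      · exact Commute.one_left _
      · exact ha.symm
    · cases t
      · exact Commute.one_left _
      · exact hb.symm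
  rcases zE_cases hE' hez with h | h
  · exfalso
    have h1 : e (zC hE a b) = e 1 := by rw [map_one]; exact Subtype.ext h
    exact zE_ne hE (congrArg Subtype.val (e.injective h1))
  · exact Subtype.ext h

/-- Extraspecial 2-groups of the same order with equally many solutions of `x² = 1` are
isomorphic. -/
theorem nonempty_mulEquiv {E' : Type v} [Group E'] [Finite E'] (hE : IsExtraspecial 2 E)
    (hE' : IsExtraspecial 2 E') (hc : Nat.card E' = Nat.card E) (hq : numSq E' = numSq E) :
    Nonempty (E ≃* E') := by
  induction hn : Nat.card E using Nat.strong_induction_on generalizing E E' with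
  | _ n ih =>
  have two (a b : E) (h : ¬ 2 < Nat.card (pairCentralizer a b)) :
      Nat.card (pairCentralizer a b) = 2 := by
    have hle := Subgroup.card_le_of_le (center_le_pairCentralizer a b)
    rw [hE.2] at hle
    omega
  have hp : Fact (Nat.Prime 2) := ⟨Nat.prime_two⟩
  rcases normal_form hE with ⟨a, b, ha, hb, hab⟩ | ⟨h8, hall⟩ <;>
    rcases normal_form hE' with ⟨a', b', ha', hb', hab'⟩ | ⟨h8', hall'⟩
  · have h4 := card_eq_four_mul hE hab
    have h4' := card_eq_four_mul hE' hab'
    have hs := numSq_step hE hab ha hb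
    have hs' := numSq_step hE' hab' ha' hb'
    have hCC : Nat.card (pairCentralizer a' b') = Nat.card (pairCentralizer a b) := by omega
    obtain ⟨e⟩ : Nonempty (pairCentralizer a b ≃* pairCentralizer a' b') := by
      by_cases h2 : 2 < Nat.card (pairCentralizer a b)
      · exact ih _ (by omega) (extraspecial_pairCentralizer hE hab h2)
          (extraspecial_pairCentralizer hE' hab' (by omega)) hCC (by omega) rfl
      · exact ⟨mulEquivOfPrimeCardEq (p := 2) (two a b h2) (hCC.trans (two a b h2))⟩
    exact (frame_of_pair hE hab (α := 1) (β := 1) (by simp [ha]) (by simp [hb])).nonempty_mulEquiv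
      (frame_of_pair hE' hab' (α := 1) (β := 1) (by simp [ha']) (by simp [hb'])) e
      (map_one e) (map_one e) (map_zC hE hE' hab' e)
  · exfalso
    have := numSq_eight_minus hE' hall'
    have hs := numSq_step hE hab ha hb
    have : 2 ≤ Nat.card (pairCentralizer a b) := by
      have := Subgroup.card_le_of_le (center_le_pairCentralizer a b)
      rwa [hE.2] at this
    have : 0 < numSq (pairCentralizer a b) :=
      Nat.card_pos_iff.2 ⟨⟨⟨1, one_pow 2⟩⟩, inferInstance⟩
    omega
  · exfalso
    have := numSq_eight_minus hE hall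
    have hs := numSq_step hE' hab' ha' hb'
    have : 2 ≤ Nat.card (pairCentralizer a' b') := by
      have := Subgroup.card_le_of_le (center_le_pairCentralizer a' b')
      rwa [hE'.2] at this
    have : 0 < numSq (pairCentralizer a' b') :=
      Nat.card_pos_iff.2 ⟨⟨⟨1, one_pow 2⟩⟩, inferInstance⟩
    omega
  · obtain ⟨a, b, hab⟩ := CfsgLib.PGroups.IsExtraspecial.exists_not_commute hE
    obtain ⟨a', b', hab'⟩ := CfsgLib.PGroups.IsExtraspecial.exists_not_commute hE'
    have h4 := card_eq_four_mul hE hab
    have h4' := card_eq_four_mul hE' hab'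
    obtain ⟨e⟩ : Nonempty (pairCentralizer a b ≃* pairCentralizer a' b') :=
      ⟨mulEquivOfPrimeCardEq (p := 2) (by omega) (by omega)⟩
    exact (frame_of_pair hE hab (α := zC hE a b) (β := zC hE a b) (hall a (not_mem_center hab).1)
      (hall b (not_mem_center hab).2)).nonempty_mulEquiv
      (frame_of_pair hE' hab' (α := zC hE' a' b') (β := zC hE' a' b') (hall' a' (not_mem_center hab').1)
        (hall' b' (not_mem_center hab').2)) e (map_zC hE hE' hab' e) (map_zC hE hE' hab' e)
      (map_zC hE hE' hab' e)

end CfsgLib.Minimal.ExtraspecialTwo
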