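import Cfsg.Agent.Lib.Cores.Basic
import Cfsg.Prelude.Def_CaseTheorems
import Mathlib

/-!
Pairs of commuting non-abelian subgroups with centre of order 2 in a 2-group of bounded sectional rank.
-/

set_option autoImplicit false
set_option linter.style.haveILetI false

namespace CfsgLib.Minimal

variable {S : Type*} [Group S]

/-- A subgroup of `D` containing all squares of elements of `D` gives a section of exponent two. -/
theorem relIndex_le_of_squares {k : ℕ} (hr : Cfsg.SectionalPRankLE 2 k S) {D N : Subgroup S}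
    (hND : N ≤ D) (hsq : ∀ x ∈ D, x * x ∈ N) : N.relIndex D ≤ 2 ^ k := by
  haveI hn : (N.subgroupOf D).Normal := by
    refine ⟨fun n hn g => ?_⟩
    have h : g * n * g⁻¹ = (g * n) * (g * n) * n⁻¹ * (g⁻¹ * g⁻¹) := by group
    rw [h]
    exact mul_mem (mul_mem (hsq _ (g * n).2) (inv_mem hn)) (hsq _ (g⁻¹).2)
  have key : ∀ x : D ⧸ N.subgroupOf D, x * x = 1 := fun x => QuotientGroup.induction_on x fun a =>
    (QuotientGroup.eq_one_iff (a * a)).mpr (hsq _ a.2)
  have hinv : ∀ x : D ⧸ N.subgroupOf D, x⁻¹ = x := fun x => inv_eq_of_mul_eq_one_right (key x)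
  have hcomm : ∀ x y : D ⧸ N.subgroupOf D, x * y = y * x := fun x y => by
    rw [← hinv (x * y), mul_inv_rev, hinv, hinv]
  have h := hr D (N.subgroupOf D) ⊤ ⟨⟨fun a b => Subtype.ext (hcomm _ _)⟩⟩
    (fun a _ => by rw [pow_two]; exact key a)
  rwa [Subgroup.card_top] at h

theorem mem_sup_of_commute {X Y : Subgroup S} (h : ∀ x ∈ X, ∀ y ∈ Y, x * y = y * x) {z : S}
    (hz : z ∈ X ⊔ Y) : ∃ x ∈ X, ∃ y ∈ Y, x * y = z := by
  have hn : Y ≤ Subgroup.normalizer (X : Set S) := by
    refine le_trans ?_ (Subgroup.centralizer_le_normalizer _)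
    intro y hy
    exact Subgroup.mem_centralizer_iff.mpr fun x hx => h x hx y hy
  rw [← SetLike.mem_coe, Subgroup.coe_mul_of_right_le_normalizer_left X Y hn] at hz
  obtain ⟨x, hx, y, hy, rfl⟩ := hz
  exact ⟨x, hx, y, hy, rfl⟩

theorem card_sup_of_commute {X Y : Subgroup S} (h : ∀ x ∈ X, ∀ y ∈ Y, x * y = y * x)
    (hd : X ⊓ Y = ⊥) : Nat.card (X ⊔ Y : Subgroup S) = Nat.card X * Nat.card Y := by
  rw [← Nat.card_prod]
  refine (Nat.card_congr (Equiv.ofBijective
    (fun p : X × Y => (⟨(p.1 : S) * p.2, mul_mem (Subgroup.mem_sup_left p.1.2) (Subgroup.mem_sup_right p.2.2)⟩ :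
      (X ⊔ Y : Subgroup S))) ⟨?_, ?_⟩)).symm
  · intro p q hpq
    exact Subgroup.mul_injective_of_disjoint (disjoint_iff.mpr hd) (congrArg Subtype.val hpq)
  · rintro ⟨z, hz⟩
    obtain ⟨x, hx, y, hy, rfl⟩ := mem_sup_of_commute h hz
    exact ⟨(⟨x, hx⟩, ⟨y, hy⟩), rfl⟩

/-- The subgroup generated by the squares of `P`. -/
def squares (P : Subgroup S) : Subgroup S := Subgroup.closure ((fun x => x * x) '' (P : Set S))

theorem squares_le (P : Subgroup S) : squares P ≤ P :=
  (Subgroup.closure_le P).mpr (by rintro _ ⟨x, hx, rfl⟩; exact P.mul_mem hx hx)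

theorem sq_mem_squares {P : Subgroup S} {x : S} (hx : x ∈ P) : x * x ∈ squares P :=
  Subgroup.subset_closure ⟨x, hx, rfl⟩

theorem le_normalizer_squares (P : Subgroup S) : P ≤ Subgroup.normalizer (squares P : Set S) := by
  intro g hg
  rw [Subgroup.mem_normalizer_iff]
  have key : ∀ g ∈ P, ∀ n ∈ squares P, g * n * g⁻¹ ∈ squares P := by
    intro g hg n hn
    have h : g * n * g⁻¹ = (g * n) * (g * n) * n⁻¹ * (g⁻¹ * g⁻¹) := by group
    rw [h]
    exact mul_mem (mul_mem (sq_mem_squares (P.mul_mem hg (squares_le P hn))) (inv_mem hn))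
      (sq_mem_squares (P.inv_mem hg))
  refine fun n => ⟨key g hg n, fun h => ?_⟩
  simpa [mul_assoc] using key g⁻¹ (P.inv_mem hg) _ h

variable [Finite S]

/-- A non-trivial subgroup of a 2-group `P` normalised by `P` contains a centre of order two. -/
theorem center_le_of_normalized (h2 : IsPGroup 2 S) {P N : Subgroup S}
    (hZ : Nat.card (Subgroup.center P) = 2) (hNP : N ≤ P) (hn : P ≤ Subgroup.normalizer (N : Set S))
    (hN : N ≠ ⊥) : (Subgroup.center P).map P.subtype ≤ N := by
  haveI : (N.subgroupOf P).Normal := (Subgroup.normal_subgroupOf_iff_le_normalizer hNP).mpr hn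
  haveI : Fact (Nat.Prime 2) := ⟨Nat.prime_two⟩
  have hne : N.subgroupOf P ≠ ⊥ := by
    rw [Ne, Subgroup.subgroupOf_eq_bot, disjoint_iff, inf_eq_left.mpr hNP]
    exact hN
  haveI : Group.IsNilpotent P := (h2.to_subgroup P).isNilpotent
  have hmeet : N.subgroupOf P ⊓ Subgroup.center P ≠ ⊥ := by
    intro hb
    apply hne
    haveI : (2 : ℕ).Prime := Nat.prime_two
    rw [← Subgroup.card_eq_one]
    by_contra hc
    haveI : Nontrivial (N.subgroupOf P) := (Subgroup.nontrivial_iff_ne_bot _).mpr hne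
    -- count fixed points of the conjugation action
    have hp : IsPGroup 2 (ConjAct P) := (h2.to_subgroup P).of_equiv (ConjAct.toConjAct (G := P))
    have hdvd : 2 ∣ Nat.card (N.subgroupOf P) := by
      obtain ⟨k, hk⟩ := IsPGroup.iff_card.mp ((h2.to_subgroup P).to_subgroup (N.subgroupOf P))
      cases k with
      | zero => exact absurd (by simpa using hk) hc
      | succ k => rw [hk]; exact dvd_pow_self 2 (Nat.succ_ne_zero k)
    obtain ⟨b, hbfix, hb1⟩ := hp.exists_fixed_point_of_prime_dvd_card_of_fixed_point (N.subgroupOf P) hdvd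
      (a := 1) (fun g => smul_one g)
    apply hb1
    have : (b : P) ∈ N.subgroupOf P ⊓ Subgroup.center P := ⟨b.2, Subgroup.mem_center_iff.mpr fun g => by
      have := congrArg Subtype.val (hbfix (ConjAct.toConjAct g))
      rw [ConjAct.Subgroup.val_conj_smul, ConjAct.toConjAct_smul] at this
      exact mul_inv_eq_iff_eq_mul.mp this⟩
    rw [hb, Subgroup.mem_bot] at this
    exact (Subtype.ext this).symm
  have hle : Subgroup.center P ≤ N.subgroupOf P := by
    have h1 : N.subgroupOf P ⊓ Subgroup.center P = Subgroup.center P := by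
      refine Subgroup.eq_of_le_of_card_ge inf_le_right ?_
      rw [hZ]
      exact (Subgroup.one_lt_card_iff_ne_bot _).mpr hmeet
    exact h1 ▸ inf_le_left
  rintro _ ⟨x, hx, rfl⟩
  exact hle hx

theorem squares_ne_bot {P : Subgroup S} (hP : ¬ IsMulCommutative P) : squares P ≠ ⊥ := by
  intro h
  apply hP
  have key : ∀ x : P, x⁻¹ = x := fun x => inv_eq_of_mul_eq_one_right
    (Subtype.ext (by simpa [h, Subgroup.mem_bot] using sq_mem_squares x.2))
  exact ⟨⟨fun x y => by rw [← key (x * y), mul_inv_rev, key, key]⟩⟩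

/-- A non-abelian 2-group has at least four cosets of the subgroup generated by squares. -/
theorem four_le_relIndex_squares (h2 : IsPGroup 2 S) {P : Subgroup S} (hP : ¬ IsMulCommutative P) :
    4 ≤ (squares P).relIndex P := by
  haveI : Fact (Nat.Prime 2) := ⟨Nat.prime_two⟩
  obtain ⟨k, hk⟩ : ∃ k, (squares P).relIndex P = 2 ^ k :=
    (h2.to_subgroup P).index ((squares P).subgroupOf P)
  rcases le_or_gt 2 k with h | h
  · rw [hk]; exact le_trans (by norm_num) (Nat.pow_le_pow_right two_pos h)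
  exfalso
  apply hP
  let N := (squares P).subgroupOf P
  haveI : N.Normal := (Subgroup.normal_subgroupOf_iff_le_normalizer (squares_le P)).mpr (le_normalizer_squares P)
  have hfr : N ≤ frattini P := by
    refine le_iInf₂ fun M hM => ?_
    haveI : Group.IsNilpotent P := (h2.to_subgroup P).isNilpotent
    haveI : M.Normal := Subgroup.NormalizerCondition.normal_of_coatom M Group.normalizerCondition_of_isNilpotent hM
    have hsq : ∀ x : P, x * x ∈ M := by
      intro x
      haveI : Fact (M.index).Prime := ⟨by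
        obtain ⟨j, hj⟩ := (h2.to_subgroup P).index M
        rw [hj]
        have : j = 1 := by
          by_contra hj1
          have hj0 : j ≠ 0 := fun h0 => hM.1 (Subgroup.index_eq_one.mp (by rw [hj, h0, pow_zero]))
          have hd : 2 ∣ Nat.card (P ⧸ M) := by
            rw [← Subgroup.index, hj]; exact dvd_pow_self 2 hj0
          obtain ⟨q, hq⟩ := exists_prime_orderOf_dvd_card' (G := P ⧸ M) 2 hd
          have hne : (Subgroup.zpowers q).comap (QuotientGroup.mk' M) = ⊤ := by
            refine hM.2 _ (lt_of_le_of_ne (fun m hm => ?_) fun he => ?_)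
            · show QuotientGroup.mk' M m ∈ Subgroup.zpowers q
              rw [show QuotientGroup.mk' M m = 1 from (QuotientGroup.eq_one_iff m).mpr hm]
              exact one_mem _
            · obtain ⟨y, rfl⟩ := QuotientGroup.mk'_surjective M q
              have hy : y ∈ M := he ▸ (show y ∈ (Subgroup.zpowers _).comap (QuotientGroup.mk' M) from Subgroup.mem_zpowers _)
              rw [show QuotientGroup.mk' M y = 1 from (QuotientGroup.eq_one_iff y).mpr hy, orderOf_one] at hq
              omega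
          have h1 := congrArg Subgroup.index hne
          rw [Subgroup.index_comap_of_surjective _ (QuotientGroup.mk'_surjective M), Subgroup.index_top] at h1
          have h2' := Subgroup.card_mul_index (Subgroup.zpowers q)
          rw [h1, mul_one, Nat.card_zpowers, hq, ← Subgroup.index, hj] at h2'
          exact hj1 (Nat.pow_right_injective le_rfl (a₂ := 1) (h2'.symm.trans (pow_one 2).symm))
        rw [this, pow_one]
        exact Nat.prime_two⟩
      have hi : M.index = 2 := by
        obtain ⟨j, hj⟩ := (h2.to_subgroup P).index M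
        have := (Fact.out : (M.index).Prime)
        rw [hj] at this ⊢
        rw [Nat.Prime.eq_one_of_pow this, pow_one]
      exact Subgroup.mul_self_mem_of_index_two hi x
    have : (squares P).subgroupOf P ≤ M := by
      have h' : squares P ≤ M.map P.subtype := (Subgroup.closure_le _).mpr (by
        rintro _ ⟨x, hx, rfl⟩; exact ⟨⟨x, hx⟩ * ⟨x, hx⟩, hsq _, rfl⟩)
      intro y hy
      obtain ⟨m, hm, hmy⟩ := h' hy
      rwa [← Subtype.ext hmy]
    exact this
  haveI : Fintype (P ⧸ N) := Fintype.ofFinite _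
  obtain ⟨g, hg⟩ : ∃ g : P ⧸ N, ∀ x : P ⧸ N, x ∈ Subgroup.zpowers g := by
    have : IsCyclic (P ⧸ N) := by
      have hc : Nat.card (P ⧸ N) = 2 ^ k := hk
      interval_cases k
      · haveI : Subsingleton (P ⧸ N) := (Nat.card_eq_one_iff_unique.mp (by simpa using hc)).1
        infer_instance
      · exact isCyclic_of_prime_card (p := 2) (by simpa using hc)
    exact this.exists_generator
  obtain ⟨x, rfl⟩ := QuotientGroup.mk'_surjective N g
  have htop : Subgroup.zpowers x ⊔ N = ⊤ := by
    rw [eq_top_iff]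
    intro y _
    obtain ⟨i, hi⟩ := Subgroup.mem_zpowers_iff.mp (hg (QuotientGroup.mk' N y))
    rw [← map_zpow] at hi
    have hy : (x ^ i)⁻¹ * y ∈ N := (QuotientGroup.eq (s := N)).mp hi
    have := mul_mem (Subgroup.mem_sup_left (T := N) (Subgroup.zpow_mem_zpowers x i)) (Subgroup.mem_sup_right hy)
    simpa using this
  have hx : Subgroup.zpowers x = ⊤ :=
    frattini_nongenerating (top_le_iff.mp (htop.ge.trans (sup_le_sup_left hfr _)))
  haveI : IsCyclic P := ⟨⟨x, fun y => (hx ▸ Subgroup.mem_top y : y ∈ Subgroup.zpowers x)⟩⟩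
  exact ⟨⟨fun a b => mul_comm' a b⟩⟩

/-- Two subgroups with centres of order two that are normalised by a common overgroup centralising the
centres either have the same centre or commute and meet trivially. -/
theorem pair_disjoint (h2 : IsPGroup 2 S) {P Q S₀ : Subgroup S} (hPS : P ≤ S₀) (hQS : Q ≤ S₀)
    (hPn : S₀ ≤ Subgroup.normalizer (P : Set S)) (hQn : S₀ ≤ Subgroup.normalizer (Q : Set S))
    (hZP : Nat.card (Subgroup.center P) = 2) (hZQ : Nat.card (Subgroup.center Q) = 2)
    (hcP : (Subgroup.center P).map P.subtype ≤ Subgroup.centralizer (S₀ : Set S))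
    (hcQ : (Subgroup.center Q).map Q.subtype ≤ Subgroup.centralizer (S₀ : Set S))
    (hne : (Subgroup.center P).map P.subtype ≠ (Subgroup.center Q).map Q.subtype) :
    P ⊓ Q = ⊥ ∧ ∀ x ∈ P, ∀ y ∈ Q, x * y = y * x := by
  have hd : P ⊓ Q = ⊥ := by
    by_contra h
    have hn : ∀ R : Subgroup S, R ≤ S₀ → R ≤ Subgroup.normalizer ((P ⊓ Q : Subgroup S) : Set S) :=
      fun R hR => (le_inf (hR.trans hPn) (hR.trans hQn)).trans (Subgroup.inf_normalizer_le_normalizer_inf)
    have h1 := center_le_of_normalized h2 hZP inf_le_left (hn P hPS) h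
    have h2' := center_le_of_normalized h2 hZQ inf_le_right (hn Q hQS) h
    apply hne
    refine (Subgroup.eq_of_le_of_card_ge ?_ ?_).symm
    · intro x hx
      have hxP : x ∈ P := (h2' hx).1
      refine ⟨⟨x, hxP⟩, Subgroup.mem_center_iff.mpr fun y => Subtype.ext ?_, rfl⟩
      exact Subgroup.mem_centralizer_iff.mp (hcQ hx) y (hPS y.2)
    · rw [Subgroup.card_map_of_injective P.subtype_injective, Subgroup.card_map_of_injective Q.subtype_injective,
        hZP, hZQ]
  refine ⟨hd, fun x hx y hy => ?_⟩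
  have h1 : x * y * x⁻¹ * y⁻¹ ∈ Q :=
    Q.mul_mem ((Subgroup.mem_normalizer_iff.mp (hPS.trans hQn hx) y).mp hy) (Q.inv_mem hy)
  have h2' : x * y * x⁻¹ * y⁻¹ ∈ P := by
    rw [mul_assoc, mul_assoc]
    refine P.mul_mem hx ?_
    rw [← mul_assoc]
    exact (Subgroup.mem_normalizer_iff.mp (hQS.trans hPn hy) x⁻¹).mp (P.inv_mem hx)
  have : x * y * x⁻¹ * y⁻¹ = 1 := by
    rw [← Subgroup.mem_bot, ← hd]; exact ⟨h2', h1⟩
  exact mul_inv_eq_iff_eq_mul.mp (mul_inv_eq_one.mp this)

/-- In sectional rank at most 4 a commuting disjoint pair of non-abelian subgroups with centres of order two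
contains its centraliser. -/
theorem pair_centralizer (h2 : IsPGroup 2 S) (hr : Cfsg.SectionalPRankLE 2 4 S) {P Q : Subgroup S}
    (hP : ¬ IsMulCommutative P) (hQ : ¬ IsMulCommutative Q)
    (hZP : Nat.card (Subgroup.center P) = 2) (hZQ : Nat.card (Subgroup.center Q) = 2)
    (hd : P ⊓ Q = ⊥) (hc : ∀ x ∈ P, ∀ y ∈ Q, x * y = y * x) :
    Subgroup.centralizer ((P ⊔ Q : Subgroup S) : Set S) ≤ P ⊔ Q := by
  haveI : Fact (Nat.Prime 2) := ⟨Nat.prime_two⟩
  intro c₀ hc₀
  by_contra hne
  obtain ⟨i, hi, hi'⟩ : ∃ i, c₀ ^ 2 ^ i ∉ P ⊔ Q ∧ c₀ ^ 2 ^ (i + 1) ∈ P ⊔ Q := by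
    by_contra h
    push Not at h
    have : ∀ i, c₀ ^ 2 ^ i ∉ P ⊔ Q := fun i => by
      induction i with
      | zero => simpa using hne
      | succ i ih => exact h i ih
    obtain ⟨j, hj⟩ := h2 c₀
    exact this j (hj ▸ one_mem _)
  set c := c₀ ^ 2 ^ i with hcdef
  have hcC : c ∈ Subgroup.centralizer ((P ⊔ Q : Subgroup S) : Set S) := pow_mem hc₀ _
  have hcc : c * c ∈ P ⊔ Q := by rw [hcdef, ← pow_add, ← two_mul, ← pow_succ']; exact hi'
  have hcP : ∀ x ∈ P, x * c = c * x := fun x hx =>
    Subgroup.mem_centralizer_iff.mp hcC x (Subgroup.mem_sup_left hx)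
  have hcQ : ∀ x ∈ Q, x * c = c * x := fun x hx =>
    Subgroup.mem_centralizer_iff.mp hcC x (Subgroup.mem_sup_right hx)
  let N := squares P ⊔ squares Q
  have hccN : c * c ∈ N := by
    obtain ⟨p, hp, q, hq, hpq⟩ := mem_sup_of_commute hc hcc
    have hpz : p ∈ squares P := by
      refine center_le_of_normalized h2 hZP (squares_le P) (le_normalizer_squares P) (squares_ne_bot hP)
        ⟨⟨p, hp⟩, Subgroup.mem_center_iff.mpr fun x => Subtype.ext ?_, rfl⟩
      have e : p = c * c * q⁻¹ := by rw [← hpq]; group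
      show (x : S) * p = p * x
      rw [e]
      have a1 : Commute (x : S) c := hcP x x.2
      exact ((a1.mul_right a1).mul_right (Commute.inv_right (hc x x.2 q hq))).eq
    have hqz : q ∈ squares Q := by
      refine center_le_of_normalized h2 hZQ (squares_le Q) (le_normalizer_squares Q) (squares_ne_bot hQ)
        ⟨⟨q, hq⟩, Subgroup.mem_center_iff.mpr fun x => Subtype.ext ?_, rfl⟩
      have e : q = p⁻¹ * (c * c) := by rw [← hpq]; group
      show (x : S) * q = q * x
      rw [e]
      have a1 : Commute (x : S) c := hcQ x x.2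
      exact (Commute.mul_right (Commute.inv_right (Commute.symm (hc p hp x x.2))) (a1.mul_right a1)).eq
    rw [← hpq]
    exact mul_mem (Subgroup.mem_sup_left hpz) (Subgroup.mem_sup_right hqz)
  let D := (P ⊔ Q) ⊔ Subgroup.zpowers c
  have hcom : ∀ x ∈ P ⊔ Q, ∀ y ∈ Subgroup.zpowers c, x * y = y * x := by
    intro x hx y hy
    exact Subgroup.mem_centralizer_iff.mp ((Subgroup.zpowers_le.mpr hcC) hy) x hx
  have hND : N ≤ P ⊔ Q := sup_le_sup (squares_le P) (squares_le Q)
  have hbound := relIndex_le_of_squares hr (hND.trans (le_sup_left : P ⊔ Q ≤ D)) (fun x hx => by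
    obtain ⟨a, ha, y, hy, rfl⟩ := mem_sup_of_commute hcom hx
    obtain ⟨p, hp, q, hq, rfl⟩ := mem_sup_of_commute hc ha
    obtain ⟨n, rfl⟩ := Subgroup.mem_zpowers_iff.mp hy
    have h1 : Commute (p * q) (c ^ n) := hcom _ ha _ hy
    have e : p * q * c ^ n * (p * q * c ^ n) = (p * p) * (q * q) * (c * c) ^ n := by
      rw [h1.symm.mul_mul_mul_comm, Commute.mul_mul_mul_comm (Commute.symm (hc p hp q hq)),
        (Commute.refl c).mul_zpow]
    rw [e]
    exact mul_mem (mul_mem (Subgroup.mem_sup_left (sq_mem_squares hp)) (Subgroup.mem_sup_right (sq_mem_squares hq)))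
      (zpow_mem hccN n))
  rw [← Subgroup.relIndex_mul_relIndex N (P ⊔ Q) D hND le_sup_left] at hbound
  have hD : 2 ≤ (P ⊔ Q).relIndex D := by
    have h1 : (P ⊔ Q).relIndex D ≠ 1 := fun h =>
      hi (Subgroup.relIndex_eq_one.mp h (Subgroup.mem_sup_right (Subgroup.mem_zpowers c)))
    have h0 : (P ⊔ Q).relIndex D ≠ 0 := Subgroup.index_ne_zero_of_finite
    omega
  have hN : 16 ≤ N.relIndex (P ⊔ Q) := by
    have hd' : squares P ⊓ squares Q = ⊥ := le_bot_iff.mp ((inf_le_inf (squares_le P) (squares_le Q)).trans hd.le)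
    have h1 := Subgroup.card_mul_index (N.subgroupOf (P ⊔ Q))
    rw [Nat.card_congr (Subgroup.subgroupOfEquivOfLe hND).toEquiv, card_sup_of_commute
      (fun x hx y hy => hc x (squares_le P hx) y (squares_le Q hy)) hd', card_sup_of_commute hc hd] at h1
    have hp' := Subgroup.card_mul_index ((squares P).subgroupOf P)
    rw [Nat.card_congr (Subgroup.subgroupOfEquivOfLe (squares_le P)).toEquiv] at hp'
    have hq' := Subgroup.card_mul_index ((squares Q).subgroupOf Q)
    rw [Nat.card_congr (Subgroup.subgroupOfEquivOfLe (squares_le Q)).toEquiv] at hq'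
    rw [← hp', ← hq', mul_mul_mul_comm] at h1
    have h3 := Nat.eq_of_mul_eq_mul_left (Nat.mul_pos Nat.card_pos Nat.card_pos) h1
    show 16 ≤ (N.subgroupOf (P ⊔ Q)).index
    rw [h3]
    exact Nat.mul_le_mul (four_le_relIndex_squares h2 hP) (four_le_relIndex_squares h2 hQ)
  have := Nat.mul_le_mul hN hD
  omega

end CfsgLib.Minimal
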