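import Cfsg.Agent.Lib.TwoGroups.Taussky
import Cfsg.Agent.Lib.Minimal.CentralPairs

/-!
A 2-group of sectional rank at most two containing a non-abelian subgroup of order 8 has maximal class.
-/

set_option autoImplicit false
set_option linter.style.haveILetI false

namespace CfsgLib.Minimal

open scoped commutatorElement

/-- Dihedral, semidihedral or generalized quaternion, in the form used by the statements on 2-groups. -/
def DihSemiQuat (S : Type*) [Group S] : Prop :=
  (∃ k : ℕ, Nonempty (S ≃* DihedralGroup (2 ^ (k + 2)))) ∨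
    (∃ k : ℕ, Nat.card S = 2 ^ (k + 4) ∧ ∃ a b : S, orderOf a = 2 ^ (k + 3) ∧ orderOf b = 2 ∧
      b * a * b⁻¹ = a ^ (2 ^ (k + 2) - 1)) ∨
    (∃ k : ℕ, Nonempty (S ≃* QuaternionGroup (2 ^ (k + 1))))

/-- A cyclic subgroup of index two on which an outside element acts by an exponent `≡ -1 (mod 4)`. -/
def TwistData (T : Type*) [Group T] : Prop :=
  ∃ (n : ℕ) (c b : T) (r : ℤ), 2 ≤ n ∧ Nat.card T = 2 ^ (n + 1) ∧ orderOf c = 2 ^ n ∧
    b ∉ Subgroup.zpowers c ∧ b * c * b⁻¹ = c ^ r ∧ (4 : ℤ) ∣ r + 1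

theorem twistData_of_dihSemiQuat {T : Type*} [Group T] [Finite T] (h : DihSemiQuat T) : TwistData T := by
  rcases h with ⟨k, ⟨e⟩⟩ | ⟨k, hcard, a, b, ha, hb, hab⟩ | ⟨k, ⟨e⟩⟩
  · haveI : NeZero (2 ^ (k + 2)) := ⟨by positivity⟩
    refine ⟨k + 2, e.symm (DihedralGroup.r 1), e.symm (DihedralGroup.sr 0), -1, by omega, ?_,
      by rw [MulEquiv.orderOf_eq, DihedralGroup.orderOf_r_one], ?_, ?_, by norm_num⟩
    · rw [Nat.card_congr e.toEquiv, DihedralGroup.nat_card, pow_succ 2 (k + 2)]; ring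
    · intro h
      obtain ⟨i, hi⟩ := Subgroup.mem_zpowers_iff.mp h
      rw [← map_zpow] at hi
      have := e.symm.injective hi
      rw [DihedralGroup.r_one_zpow] at this
      exact absurd this (by simp)
    · rw [← map_inv, ← map_mul, ← map_mul, ← map_zpow]
      congr 1
      rw [zpow_neg_one, DihedralGroup.inv_sr, DihedralGroup.sr_mul_r, DihedralGroup.sr_mul_sr,
        DihedralGroup.inv_r]
      simp
  · refine ⟨k + 3, a, b, (2 ^ (k + 2) - 1 : ℤ), by omega, hcard, ha, ?_, ?_, ⟨2 ^ k, by ring⟩⟩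
    · intro h
      obtain ⟨i, hi⟩ := Subgroup.mem_zpowers_iff.mp h
      have h1 : b * a * b⁻¹ = a := by rw [← hi]; group
      rw [hab] at h1
      have h2 : a ^ (2 ^ (k + 2) - 2) = 1 := by
        have hpos : 2 ≤ 2 ^ (k + 2) := Nat.one_lt_two_pow (by omega)
        rw [show 2 ^ (k + 2) - 1 = (2 ^ (k + 2) - 2) + 1 by omega, pow_succ, mul_eq_right] at h1
        exact h1
      have h3 := Nat.le_of_dvd (by
        have : 4 ≤ 2 ^ (k + 2) := le_trans (by norm_num) (Nat.pow_le_pow_right two_pos (show 2 ≤ k + 2 by omega))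
        omega) (orderOf_dvd_of_pow_eq_one h2)
      rw [ha] at h3
      have : 2 ^ (k + 2) ≤ 2 ^ (k + 3) := Nat.pow_le_pow_right two_pos (by omega)
      have : 0 < 2 ^ (k + 2) := by positivity
      omega
    · rw [hab, ← zpow_natCast, Nat.cast_sub Nat.one_le_two_pow]
      push_cast
      rfl
  · haveI : NeZero (2 ^ (k + 1)) := ⟨by positivity⟩
    refine ⟨k + 2, e.symm (QuaternionGroup.a 1), e.symm (QuaternionGroup.xa 0), -1, by omega, ?_,
      by rw [MulEquiv.orderOf_eq, QuaternionGroup.orderOf_a_one]; ring, ?_, ?_, by norm_num⟩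
    · rw [Nat.card_congr e.toEquiv, Nat.card_eq_fintype_card, QuaternionGroup.card]; ring
    · intro h
      have h' : QuaternionGroup.xa (0 : ZMod (2 * 2 ^ (k + 1))) ∈
          Subgroup.zpowers (QuaternionGroup.a (1 : ZMod (2 * 2 ^ (k + 1)))) := by
        obtain ⟨i, hi⟩ := Subgroup.mem_zpowers_iff.mp h
        rw [← map_zpow] at hi
        exact Subgroup.mem_zpowers_iff.mpr ⟨i, e.symm.injective hi⟩
      obtain ⟨m, hm⟩ := (mem_powers_iff_mem_zpowers).mpr h'
      simp only [QuaternionGroup.a_one_pow] at hm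
      exact absurd hm (by simp)
    · rw [mul_inv_eq_iff_eq_mul, zpow_neg_one, ← map_inv, ← map_mul, ← map_mul]
      congr 1
      rw [QuaternionGroup.xa_mul_a]
      show _ = QuaternionGroup.a (-1 : ZMod (2 * 2 ^ (k + 1))) * QuaternionGroup.xa 0
      rw [QuaternionGroup.a_mul_xa]
      simp

theorem sectionalPRankLE_subgroup {p k : ℕ} {S : Type*} [Group S] (hr : Cfsg.SectionalPRankLE p k S)
    (M : Subgroup S) : Cfsg.SectionalPRankLE p k M := by
  intro H N _
  let e : H ≃* H.map M.subtype := H.equivMapOfInjective M.subtype M.subtype_injective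
  haveI : (N.map e.toMonoidHom).Normal := Subgroup.Normal.map inferInstance _ e.surjective
  have h := hr (H.map M.subtype) (N.map e.toMonoidHom)
  let f : H ⧸ N ≃* (H.map M.subtype) ⧸ N.map e.toMonoidHom := QuotientGroup.congr N _ e rfl
  intro A hA hA2
  rw [← Subgroup.card_map_of_injective (f := f.toMonoidHom) f.injective]
  refine h _ (Subgroup.map_isMulCommutative _ _) ?_
  rintro _ ⟨a, ha, rfl⟩
  rw [← map_pow, hA2 a ha, map_one]

theorem coprime_two_pow_of_odd {v : ℤ} (hv : Odd v) (n : ℕ) : IsCoprime v ((2 : ℤ) ^ n) := by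
  refine IsCoprime.pow_right ?_
  obtain ⟨t, rfl⟩ := hv
  exact ⟨1, -t, by ring⟩

section Twist

variable {S : Type*} [Group S] [Finite S] {n : ℕ} {c b : S} {r : ℤ}

theorem zpow_dvd_of_commute (hc : orderOf c = 2 ^ (n + 1)) (hb : b * c * b⁻¹ = c ^ r) (hr : (4 : ℤ) ∣ r + 1)
    {j : ℤ} (h : b * c ^ j = c ^ j * b) : (2 : ℤ) ^ n ∣ j := by
  have h1 : c ^ ((r - 1) * j) = 1 := by
    have e : b * c ^ j * b⁻¹ = c ^ j := by rw [h, mul_inv_cancel_right]
    rw [← conj_zpow, hb, ← zpow_mul] at e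
    rw [sub_mul, one_mul, zpow_sub, e, mul_inv_cancel]
  rw [← orderOf_dvd_iff_zpow_eq_one, hc] at h1
  obtain ⟨t, ht⟩ := hr
  push_cast at h1
  rw [show (r - 1) * j = ((2 * t - 1) * j) * 2 by linear_combination (j * ht), pow_succ] at h1
  exact (coprime_two_pow_of_odd ⟨t - 1, by ring⟩ n).symm.dvd_of_dvd_mul_left
    ((mul_dvd_mul_iff_right (two_ne_zero : (2 : ℤ) ≠ 0)).mp h1)

/-- The commutator factor group has order four one step above a twisted cyclic subgroup. -/
theorem commutator_index_eq_four (h2 : IsPGroup 2 S) (hr2 : Cfsg.SectionalPRankLE 2 2 S) (M : Subgroup S)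
    [M.Normal] (hM : M.index = 2) (hMcard : Nat.card M = 2 ^ (n + 2)) (hn : 1 ≤ n) (hcM : c ∈ M) (hbM : b ∈ M)
    (hc : orderOf c = 2 ^ (n + 1)) (hbc : b ∉ Subgroup.zpowers c) (hb : b * c * b⁻¹ = c ^ r)
    (hr : (4 : ℤ) ∣ r + 1) : (commutator S).index = 4 := by
  haveI : Fact (Nat.Prime 2) := ⟨Nat.prime_two⟩
  obtain ⟨t, ht⟩ := hr
  have hrr : r = 4 * t - 1 := by linarith
  have hCM : Subgroup.zpowers c ≤ M := Subgroup.zpowers_le.mpr hcM
  have hCi : ((Subgroup.zpowers c).subgroupOf M).index = 2 := by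
    have h1 := Subgroup.card_mul_index ((Subgroup.zpowers c).subgroupOf M)
    rw [Nat.card_congr (Subgroup.subgroupOfEquivOfLe hCM).toEquiv, Nat.card_zpowers, hc, hMcard,
      pow_succ 2 (n + 1)] at h1
    exact Nat.eq_of_mul_eq_mul_left (by positivity) h1
  have hMsplit : ∀ m ∈ M, m ∈ Subgroup.zpowers c ∨ m * b⁻¹ ∈ Subgroup.zpowers c := by
    intro m hm
    by_cases h : m ∈ Subgroup.zpowers c
    · exact Or.inl h
    refine Or.inr ?_
    have := (Subgroup.mul_mem_iff_of_index_two hCi (a := (⟨m, hm⟩ : M)) (b := ⟨b, hbM⟩⁻¹)).mpr (by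
      simp only [Subgroup.mem_subgroupOf, InvMemClass.coe_inv, inv_mem_iff]
      simp [h, hbc])
    simpa [Subgroup.mem_subgroupOf] using this
  set K := Subgroup.zpowers (c ^ 2) with hKdef
  have hKC : K ≤ Subgroup.zpowers c := Subgroup.zpowers_le.mpr (pow_mem (Subgroup.mem_zpowers c) 2)
  have hbb : b * b ∈ K := by
    rcases hMsplit _ (M.mul_mem hbM hbM) with h | h
    · obtain ⟨j, hj⟩ := Subgroup.mem_zpowers_iff.mp h
      obtain ⟨u, hu⟩ := zpow_dvd_of_commute hc hb ⟨t, ht⟩ (j := j) (by rw [hj]; group)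
      obtain ⟨n', rfl⟩ : ∃ n', n = n' + 1 := ⟨n - 1, by omega⟩
      refine Subgroup.mem_zpowers_iff.mpr ⟨2 ^ n' * u, ?_⟩
      rw [← hj, hu, ← zpow_natCast c 2, ← zpow_mul]
      congr 1
      push_cast; ring
    · rw [mul_inv_cancel_right] at h
      exact absurd h hbc
  have hsqM : ∀ m ∈ M, m * m ∈ K := by
    intro m hm
    rcases hMsplit m hm with h | h
    · obtain ⟨j, rfl⟩ := Subgroup.mem_zpowers_iff.mp h
      refine Subgroup.mem_zpowers_iff.mpr ⟨j, ?_⟩
      rw [← zpow_natCast c 2, ← zpow_mul, ← zpow_add]; congr 1; push_cast; ring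
    · obtain ⟨j, hj⟩ := Subgroup.mem_zpowers_iff.mp h
      have hm' : m = c ^ j * b := by rw [hj, inv_mul_cancel_right]
      have e : c ^ j * b * (c ^ j * b) = c ^ j * (b * c ^ j * b⁻¹) * (b * b) := by group
      rw [hm', e, ← conj_zpow, hb, ← zpow_mul, ← zpow_add]
      refine mul_mem ?_ hbb
      refine Subgroup.mem_zpowers_iff.mpr ⟨2 * t * j, ?_⟩
      rw [← zpow_natCast c 2, ← zpow_mul, hrr]; congr 1; push_cast; ring
  haveI hKn : K.Normal := by
    refine ⟨fun x hx s => ?_⟩
    obtain ⟨j, rfl⟩ := Subgroup.mem_zpowers_iff.mp hx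
    have h1 : s * c * s⁻¹ ∈ M := (inferInstance : M.Normal).conj_mem c hcM s
    have : s * (c ^ 2) ^ j * s⁻¹ = ((s * c * s⁻¹) * (s * c * s⁻¹)) ^ j := by
      rw [← conj_zpow]; congr 1; rw [pow_two]; group
    rw [this]
    exact zpow_mem (hsqM _ h1) j
  have hScard : Nat.card S = 2 ^ (n + 3) := by
    rw [← M.card_mul_index, hM, hMcard, pow_succ 2 (n + 2)]
  have hKcard : Nat.card K = 2 ^ n := by
    rw [hKdef, Nat.card_zpowers, orderOf_pow' c (by norm_num : (2 : ℕ) ≠ 0), hc,
      Nat.gcd_eq_right (dvd_pow_self 2 (Nat.succ_ne_zero n)), pow_succ, Nat.mul_div_cancel _ two_pos]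
  have hKidx : K.index = 8 := by
    have h1 := K.card_mul_index
    rw [hKcard, hScard, pow_add] at h1
    exact Nat.eq_of_mul_eq_mul_left (by positivity) h1
  have hKcomm : K ≤ commutator S := by
    rw [hKdef, Subgroup.zpowers_le]
    have h1 : ⁅b, c⁆ ∈ commutator S := Subgroup.commutator_mem_commutator (Subgroup.mem_top b) (Subgroup.mem_top c)
    rw [commutatorElement_def, hb, ← zpow_sub_one] at h1
    obtain ⟨u, w, huw⟩ := coprime_two_pow_of_odd (v := 2 * t - 1) ⟨t - 1, by ring⟩ (n + 1)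
    have h2' : c ^ (2 : ℕ) = (c ^ (r - 1)) ^ u := by
      rw [← zpow_natCast, ← zpow_mul, ← div_eq_one, div_eq_mul_inv, ← zpow_sub, ← orderOf_dvd_iff_zpow_eq_one, hc]
      refine ⟨2 * w, ?_⟩
      push_cast
      rw [hrr]
      linear_combination (-2 : ℤ) * huw
    rw [h2']
    exact zpow_mem h1 u
  have hQcard : Nat.card (S ⧸ K) = 8 := by rw [← Subgroup.index, hKidx]
  by_cases hab : IsMulCommutative (S ⧸ K)
  · exfalso
    have hmod : ∀ x y : S, x * y * x⁻¹ * y⁻¹ ∈ K := fun x y => by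
      rw [← QuotientGroup.eq_one_iff]
      simp only [QuotientGroup.mk_mul, QuotientGroup.mk_inv]
      rw [hab.is_comm.comm (x : S ⧸ K) (y : S ⧸ K)]
      group
    obtain ⟨s₀, hs₀⟩ : ∃ s, s ∉ M := by
      by_contra hcon
      push Not at hcon
      rw [(Subgroup.eq_top_iff' M).mpr hcon, Subgroup.index_top] at hM
      omega
    obtain ⟨i, hi⟩ := Subgroup.mem_zpowers_iff.mp (hmod s₀ b)
    obtain ⟨u, w, huw⟩ := coprime_two_pow_of_odd (v := 2 * t - 1) ⟨t - 1, by ring⟩ (n + 1)
    set s := c ^ (i * u) * s₀ with hsdef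
    have hsM : s ∉ M := fun h => hs₀ (by simpa [hsdef] using M.mul_mem (M.inv_mem (zpow_mem hcM (i * u))) h)
    have hsb : s * b * s⁻¹ = b := by
      have e : s * b * s⁻¹ = c ^ (i * u) * ((c ^ (2 : ℕ)) ^ i * b) * (c ^ (i * u))⁻¹ := by
        rw [hi, hsdef]; group
      have e2 : b * (c ^ (i * u))⁻¹ = c ^ (r * -(i * u)) * b := by
        rw [← zpow_neg, zpow_mul, ← hb, conj_zpow, inv_mul_cancel_right]
      rw [e, mul_assoc, mul_assoc, e2, ← mul_assoc, ← mul_assoc, ← zpow_natCast, ← zpow_mul, ← zpow_add, ← zpow_add,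
        mul_eq_right, ← orderOf_dvd_iff_zpow_eq_one, hc]
      refine ⟨2 * i * w, ?_⟩
      push_cast
      rw [hrr]
      linear_combination (-2 * i : ℤ) * huw
    have hss : s * s ∈ M := Subgroup.mul_self_mem_of_index_two hM s
    rcases hMsplit _ hss with h | h
    · -- every square lies in `K`
      obtain ⟨j, hj⟩ := Subgroup.mem_zpowers_iff.mp h
      have hbs : Commute b s := (mul_inv_eq_iff_eq_mul.mp hsb).symm
      obtain ⟨v, hv⟩ := zpow_dvd_of_commute hc hb ⟨t, ht⟩ (j := j) (by rw [hj]; exact (hbs.mul_right hbs).eq)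
      have hsK : s * s ∈ K := by
        obtain ⟨n', rfl⟩ : ∃ n', n = n' + 1 := ⟨n - 1, by omega⟩
        refine Subgroup.mem_zpowers_iff.mpr ⟨2 ^ n' * v, ?_⟩
        rw [← hj, hv, ← zpow_natCast c 2, ← zpow_mul]
        congr 1
        push_cast; ring
      have hall : ∀ x ∈ (⊤ : Subgroup S), x * x ∈ K := by
        intro x _
        by_cases hx : x ∈ M
        · exact hsqM x hx
        · have hm : x * s⁻¹ ∈ M := by
            rw [Subgroup.mul_mem_iff_of_index_two hM]
            simp [hx, hsM]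
          have hx2 : x = (x * s⁻¹) * s := by group
          rw [← QuotientGroup.eq_one_iff, hx2, QuotientGroup.mk_mul, QuotientGroup.mk_mul]
          rw [show ∀ a d : S ⧸ K, a * d * (a * d) = (a * a) * (d * d) from fun a d =>
            Commute.mul_mul_mul_comm (hab.is_comm.comm d a) a d]
          rw [← QuotientGroup.mk_mul, ← QuotientGroup.mk_mul,
            (QuotientGroup.eq_one_iff _).mpr (hsqM _ hm), (QuotientGroup.eq_one_iff _).mpr hsK, one_mul]
      have := relIndex_le_of_squares hr2 (D := ⊤) (N := K) le_top hall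
      rw [Subgroup.relIndex_top_right, hKidx] at this
      norm_num at this
    · -- `s * s` would act on `⟨c⟩` as `b`
      obtain ⟨j, hj⟩ := Subgroup.mem_zpowers_iff.mp h
      obtain ⟨l, hl⟩ := Subgroup.mem_zpowers_iff.mp (hmod s c)
      have hsc : s * c * s⁻¹ = c ^ (1 + 2 * l) := by
        calc s * c * s⁻¹ = (s * c * s⁻¹ * c⁻¹) * c := by group
          _ = c ^ (2 * l) * c := by
            rw [← hl, ← zpow_natCast c 2, ← zpow_mul]; push_cast; rfl
          _ = c ^ (1 + 2 * l) := by rw [← zpow_add_one, add_comm]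
      have h1 : (s * s) * c * (s * s)⁻¹ = c ^ ((1 + 2 * l) * (1 + 2 * l)) := by
        rw [show (s * s) * c * (s * s)⁻¹ = s * (s * c * s⁻¹) * s⁻¹ by group, hsc, ← conj_zpow, hsc, ← zpow_mul]
      have hss' : s * s = c ^ j * b := by rw [hj, inv_mul_cancel_right]
      rw [hss', show c ^ j * b * c * (c ^ j * b)⁻¹ = c ^ j * (b * c * b⁻¹) * (c ^ j)⁻¹ by group, hb,
        ← zpow_add, mul_inv_eq_iff_eq_mul, ← zpow_add] at h1
      rw [zpow_eq_zpow_iff_modEq, hc, Int.modEq_iff_dvd] at h1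
      have h4 : (4 : ℤ) ∣ ((2 ^ (n + 1) : ℕ) : ℤ) := by
        push_cast
        exact (show (4 : ℤ) = 2 ^ 2 by norm_num) ▸ pow_dvd_pow 2 (by omega)
      obtain ⟨q, hq⟩ := h4.trans h1
      rw [hrr] at hq
      have hq' : (4 : ℤ) * (q - l - l * l + t) = 2 := by linear_combination -hq
      omega
  · -- `S ⧸ K` non-abelian of order eight
    have hne : commutator (S ⧸ K) ≠ ⊥ := by
      intro h
      rw [commutator_def, Subgroup.commutator_eq_bot_iff_le_centralizer] at h
      exact hab ⟨⟨fun x y => Subgroup.mem_centralizer_iff.mp (h (Subgroup.mem_top y)) x (Subgroup.mem_top x)⟩⟩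
    have hpQ : IsPGroup 2 (S ⧸ K) := h2.to_quotient K
    haveI : Nontrivial (S ⧸ K) := Finite.one_lt_card_iff_nontrivial.mp (by rw [hQcard]; norm_num)
    haveI := hpQ.center_nontrivial
    have hZ : Nat.card (Subgroup.center (S ⧸ K)) = 2 := by
      have h1 := Subgroup.card_mul_index (Subgroup.center (S ⧸ K))
      rw [hQcard] at h1
      have hgt : 1 < Nat.card (Subgroup.center (S ⧸ K)) := Finite.one_lt_card
      obtain ⟨a, ha⟩ := IsPGroup.iff_card.mp (hpQ.to_subgroup (Subgroup.center (S ⧸ K)))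
      by_contra hne2
      have hidx : (Subgroup.center (S ⧸ K)).index = 1 ∨ (Subgroup.center (S ⧸ K)).index = 2 := by
        have ha2 : 2 ≤ a := by
          by_contra hlt
          interval_cases a <;> simp_all
        have h4 : 4 ≤ Nat.card (Subgroup.center (S ⧸ K)) :=
          ha ▸ le_trans (by norm_num) (Nat.pow_le_pow_right two_pos ha2)
        have hpos : (Subgroup.center (S ⧸ K)).index ≠ 0 := Subgroup.index_ne_zero_of_finite
        have := Nat.mul_le_mul_right (Subgroup.center (S ⧸ K)).index h4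
        omega
      haveI : IsCyclic ((S ⧸ K) ⧸ Subgroup.center (S ⧸ K)) := by
        rcases hidx with h | h
        · haveI : Subsingleton ((S ⧸ K) ⧸ Subgroup.center (S ⧸ K)) :=
            (Nat.card_eq_one_iff_unique.mp h).1
          infer_instance
        · exact isCyclic_of_prime_card (p := 2) h
      exact hab ⟨⟨fun x y => commutative_of_cyclic_center_quotient (QuotientGroup.mk' (Subgroup.center (S ⧸ K)))
        (by rw [QuotientGroup.ker_mk']) x y⟩⟩
    have hZi : (Subgroup.center (S ⧸ K)).index = 4 := by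
      have h1 := Subgroup.card_mul_index (Subgroup.center (S ⧸ K))
      rw [hQcard, hZ] at h1
      omega
    have hle : commutator (S ⧸ K) ≤ Subgroup.center (S ⧸ K) := by
      have hcomm := IsPGroup.commutative_of_card_eq_prime_sq (p := 2)
        (G := (S ⧸ K) ⧸ Subgroup.center (S ⧸ K)) (by rw [← Subgroup.index, hZi]; norm_num)
      rw [← Subgroup.Normal.quotient_commutative_iff_commutator_le]
      exact ⟨⟨hcomm⟩⟩
    have heq : commutator (S ⧸ K) = Subgroup.center (S ⧸ K) := by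
      refine Subgroup.eq_of_le_of_card_ge hle ?_
      rw [hZ]
      exact (Subgroup.one_lt_card_iff_ne_bot _).mpr hne
    have hmap : (commutator S).map (QuotientGroup.mk' K) = commutator (S ⧸ K) := by
      rw [commutator_def, commutator_def, Subgroup.map_commutator,
        Subgroup.map_top_of_surjective _ (QuotientGroup.mk'_surjective K)]
    rw [← hZi, ← heq, ← hmap]
    exact (Subgroup.index_map_eq _ (QuotientGroup.mk'_surjective K) (by rw [QuotientGroup.ker_mk']; exact hKcomm)).symm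

end Twist

theorem dihSemiQuat_aux : ∀ (N : ℕ) (S : Type*) [Group S] [Finite S], Nat.card S ≤ N → IsPGroup 2 S →
    Cfsg.SectionalPRankLE 2 2 S →
    (∃ H : Subgroup S, Nonempty (↥H ≃* DihedralGroup 4) ∨ Nonempty (↥H ≃* QuaternionGroup 2)) →
    DihSemiQuat S := by
  intro N
  induction N with
  | zero => intro S _ _ hN; exact absurd hN (not_le.mpr Nat.card_pos)
  | succ N ih =>
    intro S _ _ hN h2 hr hsub
    haveI : Fact (Nat.Prime 2) := ⟨Nat.prime_two⟩
    obtain ⟨H, hH⟩ := hsub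
    by_cases hHtop : H = ⊤
    · subst hHtop
      rcases hH with ⟨⟨e⟩⟩ | ⟨⟨e⟩⟩
      · exact Or.inl ⟨0, ⟨Subgroup.topEquiv.symm.trans e⟩⟩
      · exact Or.inr (Or.inr ⟨0, ⟨Subgroup.topEquiv.symm.trans e⟩⟩)
    obtain ⟨M, hM, hHM⟩ := (eq_top_or_exists_le_coatom H).resolve_left hHtop
    haveI : Group.IsNilpotent S := h2.isNilpotent
    haveI : M.Normal :=
      Subgroup.NormalizerCondition.normal_of_coatom M Group.normalizerCondition_of_isNilpotent hM
    have hMlt : Nat.card M < Nat.card S := by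
      refine lt_of_le_of_ne (Subgroup.card_le_card_group M) fun e => hM.1 (Subgroup.eq_top_of_card_eq M e)
    have hrM : Cfsg.SectionalPRankLE 2 2 M := CfsgLib.Minimal.sectionalPRankLE_subgroup hr M
    have hMd := ih M (by omega) (h2.to_subgroup M) hrM ⟨H.subgroupOf M,
      hH.imp (fun ⟨e⟩ => ⟨(Subgroup.subgroupOfEquivOfLe hHM).trans e⟩)
        (fun ⟨e⟩ => ⟨(Subgroup.subgroupOfEquivOfLe hHM).trans e⟩)⟩
    obtain ⟨m, c, b, r, hm, hcard, hc, hbc, hb, hr4⟩ := twistData_of_dihSemiQuat hMd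
    have hM2 : M.index = 2 := by
      obtain ⟨j, hj⟩ := h2.index M
      have h1 : j ≠ 0 := fun h => hM.1 (Subgroup.index_eq_one.mp (by rw [hj, h, pow_zero]))
      have hle : j ≤ 1 := by
        by_contra hgt
        obtain ⟨q, hq⟩ := exists_prime_orderOf_dvd_card' (G := S ⧸ M) 2
          (by rw [← Subgroup.index, hj]; exact dvd_pow_self 2 h1)
        obtain ⟨y, rfl⟩ := QuotientGroup.mk'_surjective M q
        have htop : (Subgroup.zpowers (QuotientGroup.mk' M y)).comap (QuotientGroup.mk' M) = ⊤ := by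
          refine hM.2 _ (lt_of_le_of_ne (fun x hx => ?_) fun he => ?_)
          · show QuotientGroup.mk' M x ∈ Subgroup.zpowers _
            rw [show QuotientGroup.mk' M x = 1 from (QuotientGroup.eq_one_iff x).mpr hx]
            exact one_mem _
          · have hy : y ∈ M := he ▸ (show y ∈ Subgroup.comap _ _ from Subgroup.mem_zpowers _)
            rw [show QuotientGroup.mk' M y = 1 from (QuotientGroup.eq_one_iff y).mpr hy, orderOf_one] at hq
            omega
        have h3 := congrArg Subgroup.index htop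
        rw [Subgroup.index_comap_of_surjective _ (QuotientGroup.mk'_surjective M), Subgroup.index_top] at h3
        have h4 := Subgroup.card_mul_index (Subgroup.zpowers (QuotientGroup.mk' M y))
        rw [h3, mul_one, Nat.card_zpowers, hq, ← Subgroup.index, hj] at h4
        have := Nat.pow_le_pow_right two_pos (show 2 ≤ j by omega)
        omega
      rw [hj, show j = 1 by omega, pow_one]
    obtain ⟨n, rfl⟩ : ∃ n, m = n + 1 := ⟨m - 1, by omega⟩
    have h4 : (commutator S).index = 4 := commutator_index_eq_four (c := (c : S)) (b := (b : S)) (r := r) h2 hr M hM2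
      hcard (by omega) c.2 b.2 (by rw [Subgroup.orderOf_coe, hc])
      (fun h => hbc (by
        obtain ⟨i, hi⟩ := Subgroup.mem_zpowers_iff.mp h
        exact Subgroup.mem_zpowers_iff.mpr ⟨i, Subtype.ext (by rw [Subgroup.coe_zpow]; exact hi)⟩))
      (by rw [← Subgroup.coe_zpow, ← hb]; rfl) hr4
    rcases CfsgLib.TwoGroups.taussky h2 h4 with h | h | ⟨k, hk, he⟩ | ⟨k, hk, he⟩ | ⟨k, hk, hcS, x, y, hx, hy, hxy⟩
    · exfalso
      have h1 := h.card_four
      have h2' := M.card_mul_index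
      rw [hM2, hcard, h1] at h2'
      have := Nat.pow_le_pow_right two_pos (show 3 ≤ n + 1 + 1 by omega)
      omega
    · exfalso
      apply hbc
      haveI : IsCyclic M := Subgroup.isCyclic M
      have hcomm : b * c * b⁻¹ = c := by rw [mul_comm' b c, mul_inv_cancel_right]
      rw [hb] at hcomm
      have hd : ((2 ^ (n + 1) : ℕ) : ℤ) ∣ r - 1 := by
        rw [← hc, orderOf_dvd_iff_zpow_eq_one, zpow_sub_one, hcomm, mul_inv_cancel]
      have h4' : (4 : ℤ) ∣ r - 1 := by
        refine Dvd.dvd.trans ?_ hd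
        push_cast
        exact (show (4 : ℤ) = 2 ^ 2 by norm_num) ▸ pow_dvd_pow 2 (by omega)
      obtain ⟨u, hu⟩ := hr4
      obtain ⟨v, hv⟩ := h4'
      omega
    · obtain ⟨k', rfl⟩ : ∃ k', k = k' + 2 := ⟨k - 2, by omega⟩
      exact Or.inl ⟨k', he⟩
    · obtain ⟨k', rfl⟩ : ∃ k', k = k' + 1 := ⟨k - 1, by omega⟩
      exact Or.inr (Or.inr ⟨k', he⟩)
    · obtain ⟨k', rfl⟩ : ∃ k', k = k' + 3 := ⟨k - 3, by omega⟩
      exact Or.inr (Or.inl ⟨k', hcS, x, y, hx, hy, hxy⟩)

/-- A 2-group of sectional rank at most two with a non-abelian subgroup of order 8 is dihedral, semidihedral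
or generalized quaternion. -/
theorem dihSemiQuat {S : Type*} [Group S] [Finite S] (h2 : IsPGroup 2 S) (hr : Cfsg.SectionalPRankLE 2 2 S)
    (hsub : ∃ H : Subgroup S, Nonempty (↥H ≃* DihedralGroup 4) ∨ Nonempty (↥H ≃* QuaternionGroup 2)) :
    DihSemiQuat S :=
  dihSemiQuat_aux _ S le_rfl h2 hr hsub

end CfsgLib.Minimal
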