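import Mathlib
import Cfsg.Agent.S0949
import Cfsg.Agent.Lib.TwoGroups.MetacyclicFusion
import Cfsg.Agent.Lib.NormalPComplement.Frobenius
import Cfsg.Agent.Lib.FusionBasics.Group
import Cfsg.Agent.Lib.Cores.Basic
import Cfsg.Agent.Lib.Cores.PCore

/-!
A group with a metacyclic Sylow 2-subgroup having a cyclic quotient of order more than two by a cyclic
normal subgroup is solvable, granted the solvability of groups of odd order.
-/

set_option autoImplicit false
set_option linter.style.haveILetI false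
set_option linter.unusedSimpArgs false

namespace CfsgLib.Minimal.MetacyclicSolvable

universe u

variable {D : Type*} [Group D] {C : Type*} [CommGroup C]

theorem sq_eq_one_dihedral {m : ℕ} (φ : DihedralGroup m →* C) (x : DihedralGroup m) : φ x ^ 2 = 1 := by
  have hs : ∀ i, φ (DihedralGroup.sr i) ^ 2 = 1 := fun i => by
    rw [← map_pow, pow_two, DihedralGroup.sr_mul_sr, sub_self, DihedralGroup.r_zero, map_one]
  rcases x with i | i
  · rw [show DihedralGroup.r i = DihedralGroup.sr (0 : ZMod m) * DihedralGroup.sr i by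
      rw [DihedralGroup.sr_mul_sr, sub_zero], map_mul, mul_pow, hs, hs, one_mul]
  · exact hs i

theorem sq_eq_one_quaternion {m : ℕ} (hm : Even m) (φ : QuaternionGroup m →* C) (x : QuaternionGroup m) :
    φ x ^ 2 = 1 := by
  have hinv : ∀ i, φ (QuaternionGroup.a i) ^ 2 = 1 := by
    intro i
    have h : QuaternionGroup.a i * QuaternionGroup.xa 0 * QuaternionGroup.a i = (QuaternionGroup.xa 0 : QuaternionGroup m) := by
      rw [QuaternionGroup.a_mul_xa, QuaternionGroup.xa_mul_a, zero_sub, neg_add_cancel]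
    have h' := congrArg φ h
    rw [map_mul, map_mul] at h'
    calc φ (QuaternionGroup.a i) ^ 2
        = φ (QuaternionGroup.a i) * φ (QuaternionGroup.xa 0) * φ (QuaternionGroup.a i) *
            (φ (QuaternionGroup.xa 0))⁻¹ := by rw [pow_two, mul_comm (φ (QuaternionGroup.a i)) (φ (QuaternionGroup.xa 0))]; simp [mul_assoc, mul_comm, mul_left_comm]
      _ = 1 := by rw [h', mul_inv_cancel]
  rcases x with i | i
  · exact hinv i
  · obtain ⟨k, hk⟩ := hm
    rw [← map_pow, QuaternionGroup.xa_sq, show (QuaternionGroup.a (m : ZMod (2 * m)) : QuaternionGroup m) =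
      QuaternionGroup.a (k : ZMod (2 * m)) ^ 2 by
        rw [pow_two, QuaternionGroup.a_mul_a, hk, Nat.cast_add], map_pow, hinv]

theorem sq_eq_one_quasiDihedral [Finite D] (hD : Cfsg.IsQuasiDihedral D) (φ : D →* C) (w : D) : φ w ^ 2 = 1 := by
  obtain ⟨n, hn, hcard, x, y, hx, hy, hrel⟩ := hD
  have hsame : φ x = φ x ^ (2 ^ (n - 1) - 1) := by
    rw [← map_pow, ← hrel, map_mul, map_mul, map_inv, mul_comm (φ y), mul_inv_cancel_right]
  have h1 : φ x ^ (2 ^ (n - 1) - 2) = 1 := by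
    have h4 : 4 ≤ 2 ^ (n - 1) := by
      calc 4 = 2 ^ 2 := rfl
        _ ≤ 2 ^ (n - 1) := Nat.pow_le_pow_right two_pos (by omega)
    apply mul_right_cancel (b := φ x)
    rw [← pow_succ, show 2 ^ (n - 1) - 2 + 1 = 2 ^ (n - 1) - 1 by omega, one_mul, ← hsame]
  have hx2 : φ x ^ 2 = 1 := by
    have hd : orderOf (φ x) ∣ 2 ^ n := hx ▸ orderOf_map_dvd φ x
    have hd' := orderOf_dvd_of_pow_eq_one h1
    obtain ⟨j, hj, hjeq⟩ := (Nat.dvd_prime_pow Nat.prime_two).1 hd
    apply orderOf_dvd_iff_pow_eq_one.1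
    rw [hjeq] at hd' ⊢
    rcases Nat.lt_or_ge j 2 with h | h
    · exact (Nat.pow_dvd_pow 2 (show j ≤ 1 by omega))
    · exfalso
      have h4 : 4 ∣ 2 ^ (n - 1) - 2 := (Nat.pow_dvd_pow 2 h).trans hd'
      have h4' : 4 ∣ 2 ^ (n - 1) := Nat.pow_dvd_pow 2 (show 2 ≤ n - 1 by omega)
      have := Nat.le_of_dvd (Nat.two_pow_pos _) h4'
      omega
  have hyx : y ∉ Subgroup.zpowers x := by
    intro h
    obtain ⟨i, rfl⟩ := Subgroup.mem_zpowers_iff.1 h
    have hc : x ^ i * x * (x ^ i)⁻¹ = x := by group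
    rw [hc] at hrel
    have h4 : 4 ≤ 2 ^ (n - 1) := by
      calc 4 = 2 ^ 2 := rfl
        _ ≤ 2 ^ (n - 1) := Nat.pow_le_pow_right two_pos (by omega)
    have h' : x ^ (2 ^ (n - 1) - 2) = 1 := by
      apply mul_right_cancel (b := x)
      rw [← pow_succ, show 2 ^ (n - 1) - 2 + 1 = 2 ^ (n - 1) - 1 by omega, one_mul, ← hrel]
    have hd := orderOf_dvd_of_pow_eq_one h'
    rw [hx] at hd
    have hlt : 2 ^ (n - 1) < 2 ^ n := Nat.pow_lt_pow_right one_lt_two (by omega)
    have := Nat.le_of_dvd (by omega) hd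
    omega
  have hidx : (Subgroup.zpowers x).index = 2 := by
    have h := Subgroup.card_mul_index (Subgroup.zpowers x)
    rw [Nat.card_zpowers, hx, hcard, pow_succ] at h
    exact Nat.eq_of_mul_eq_mul_left (Nat.two_pow_pos n) h
  have hy2 : φ y ^ 2 = 1 := by rw [← map_pow, ← hy, pow_orderOf_eq_one, map_one]
  have hz : ∀ i : ℤ, φ (x ^ i) ^ 2 = 1 := fun i => by
    rw [map_zpow, ← zpow_natCast, ← zpow_mul, mul_comm, zpow_mul, zpow_natCast, hx2, one_zpow]
  by_cases hw : w ∈ Subgroup.zpowers x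
  · obtain ⟨i, rfl⟩ := Subgroup.mem_zpowers_iff.1 hw
    exact hz i
  · have hm : w * y ∈ Subgroup.zpowers x := by
      rw [Subgroup.mul_mem_iff_of_index_two hidx]
      exact iff_of_false hw hyx
    obtain ⟨i, hi⟩ := Subgroup.mem_zpowers_iff.1 hm
    rw [show w = x ^ i * y⁻¹ by rw [hi, mul_inv_cancel_right], map_mul, mul_pow, hz, one_mul, map_inv, inv_pow, hy2, inv_one]

/-- The main reduction. -/
theorem isSolvable_of_metacyclic {G : Type u} [Group G] [Finite G]
    (hFT : ∀ (K : Type u) [Group K] [Finite K], Odd (Nat.card K) → Group.IsSolvable K)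
    (S : Sylow 2 G) (N : Subgroup ↥(S : Subgroup G)) [hN : N.Normal] (hNc : IsCyclic N)
    (hQc : IsCyclic (↥(S : Subgroup G) ⧸ N)) (hQ : 2 < Nat.card (↥(S : Subgroup G) ⧸ N)) :
    Group.IsSolvable G := by
  classical
  haveI : Fact (Nat.Prime 2) := ⟨Nat.prime_two⟩
  -- the complement case
  have hcompl : Cfsg.HasNormalPComplement 2 G → Group.IsSolvable G := by
    rintro ⟨P, K, hKn, hK⟩
    haveI := hKn
    haveI : Group.IsSolvable K := hFT K (by
      rw [← Nat.not_even_iff_odd, even_iff_two_dvd]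
      intro h2
      refine P.not_dvd_index ?_
      rwa [show (P : Subgroup G).index = Nat.card K from hK.index_eq_card])
    have hp : IsPGroup 2 (G ⧸ K) := by
      obtain ⟨k, hk⟩ := IsPGroup.iff_card.1 P.isPGroup'
      refine IsPGroup.of_card (n := k) ?_
      rw [← Subgroup.index, hK.symm.index_eq_card, hk]
    haveI := hp.isNilpotent
    exact Group.isSolvable_of_ker_le_range (f := K.subtype) (g := QuotientGroup.mk' K)
      (by rw [QuotientGroup.ker_mk', Subgroup.range_subtype])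
  haveI := hQc
  letI : CommGroup (↥(S : Subgroup G) ⧸ N) := IsCyclic.commGroup
  let q := QuotientGroup.mk' N
  have hbig : ¬ ∀ w, q w ^ 2 = 1 := by
    intro h
    obtain ⟨g, hg⟩ := IsCyclic.exists_ofOrder_eq_natCard (α := ↥(S : Subgroup G) ⧸ N)
    obtain ⟨w, rfl⟩ := QuotientGroup.mk'_surjective N g
    have h' : orderOf (QuotientGroup.mk' N w) ≤ 2 := Nat.le_of_dvd two_pos (orderOf_dvd_of_pow_eq_one (h w))
    omega
  have hm : Cfsg.IsMetacyclic ↥(S : Subgroup G) := ⟨N, hN, hNc, hQc⟩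
  have hd : ¬ ∃ m : ℕ, Nonempty (↥(S : Subgroup G) ≃* DihedralGroup m) := fun ⟨m, ⟨e⟩⟩ => hbig fun w => by
    simpa using sq_eq_one_dihedral (q.comp e.symm.toMonoidHom) (e w)
  have hsd : ¬ Cfsg.IsQuasiDihedral ↥(S : Subgroup G) := fun h => hbig (sq_eq_one_quasiDihedral h q)
  by_cases hq : ∃ m : ℕ, Nonempty (↥(S : Subgroup G) ≃* QuaternionGroup m)
  · obtain ⟨m, ⟨e⟩⟩ := hq
    rcases Nat.even_or_odd m with hev | hod
    · exact absurd (fun w => by simpa using sq_eq_one_quaternion hev (q.comp e.symm.toMonoidHom) (e w)) hbig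
    haveI : NeZero m := ⟨by rintro rfl; simp at hod⟩
    have hm1 : m = 1 := by
      obtain ⟨k, hk⟩ := IsPGroup.iff_card.1 S.isPGroup'
      rw [Nat.card_congr e.toEquiv, Nat.card_eq_fintype_card, QuaternionGroup.card] at hk
      obtain ⟨i, -, hi⟩ := (Nat.dvd_prime_pow Nat.prime_two).1 ⟨4, (mul_comm m 4 ▸ hk.symm : (2 : ℕ) ^ k = m * 4)⟩
      rcases i with _ | i
      · simpa using hi
      · rw [hi, pow_succ] at hod
        exact absurd hod (Nat.not_odd_iff_even.2 (even_two.mul_left _))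
    subst hm1
    haveI := QuaternionGroup.quaternionGroup_one_isCyclic
    have hSc : IsCyclic ↥(S : Subgroup G) := isCyclic_of_surjective e.symm e.symm.surjective
    have hmin : (Nat.card G).minFac = 2 := by
      refine (Nat.minFac_eq_two_iff _).2 (Dvd.dvd.trans ?_ (Subgroup.card_subgroup_dvd_card (S : Subgroup G)))
      rw [Nat.card_congr e.toEquiv, Nat.card_eq_fintype_card, QuaternionGroup.card]; norm_num
    exact hcompl ⟨S, _, MonoidHom.normal_ker _,
      MonoidHom.ker_transferSylow_isComplement' S (hSc.normalizer_le_centralizer hmin)⟩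
  by_cases hh : ∃ n : ℕ, Nonempty (↥(S : Subgroup G) ≃* Multiplicative (ZMod (2 ^ n)) × Multiplicative (ZMod (2 ^ n)))
  · obtain ⟨n, ⟨e⟩⟩ := hh
    rcases Nat.lt_or_ge n 2 with hn | hn
    · refine absurd (fun w => ?_) hbig
      rw [← map_pow, show w ^ 2 = 1 from e.injective ?_, map_one]
      rw [map_pow, map_one]
      have h2 : ∀ z : Multiplicative (ZMod (2 ^ n)), z ^ 2 = 1 := by
        interval_cases n <;> decide
      exact Prod.ext (h2 _) (h2 _)
    set O := Cfsg.oddCore G with hO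
    haveI hOn : O.Normal := by rw [hO]; unfold Cfsg.oddCore; infer_instance
    haveI : Group.IsSolvable O := hFT O CfsgLib.Cores.odd_card_oddCore
    let π := QuotientGroup.mk' O
    let P : Sylow 2 (G ⧸ O) := S.mapSurjective (QuotientGroup.mk'_surjective O)
    have hinj : Function.Injective (π.subgroupMap (S : Subgroup G)) := by
      rw [← MonoidHom.ker_eq_bot_iff, Subgroup.eq_bot_iff_forall]
      rintro ⟨x, hx⟩ hk
      have hxO : x ∈ O := (QuotientGroup.eq_one_iff x).1 (congrArg Subtype.val hk)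
      refine Subtype.ext (Subgroup.mem_bot.1 ?_)
      rw [← (Subgroup.disjoint_of_coprime_natCard (H := (S : Subgroup G)) (K := O) (by
        obtain ⟨k, hk⟩ := IsPGroup.iff_card.1 S.isPGroup'
        rw [hk]; exact Nat.Coprime.pow_left k (Nat.coprime_two_left.2 CfsgLib.Cores.odd_card_oddCore))).eq_bot]
      exact ⟨hx, hxO⟩
    let eP : (P : Subgroup (G ⧸ O)) ≃* ↥(S : Subgroup G) :=
      (MulEquiv.ofBijective (π.subgroupMap (S : Subgroup G))
        ⟨hinj, π.subgroupMap_surjective _⟩).symm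
    let e' : (P : Subgroup (G ⧸ O)) ≃* Multiplicative (ZMod (2 ^ n) × ZMod (2 ^ n)) :=
      (eP.trans e).trans
        { toFun := fun z => Multiplicative.ofAdd (z.1.toAdd, z.2.toAdd)
          invFun := fun z => (Multiplicative.ofAdd z.toAdd.1, Multiplicative.ofAdd z.toAdd.2)
          left_inv := fun z => rfl
          right_inv := fun z => rfl
          map_mul' := fun a b => rfl }
    obtain ⟨hPn, -, hidx⟩ := Cfsg.Agent.S0949.result P n hn e' (fun K hK hodd => by
      have hle : K.comap π ≤ O := by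
        haveI := hK
        exact CfsgLib.Cores.le_oddCore (by
          rw [CfsgLib.Cores.card_comap_mk']; exact CfsgLib.Cores.odd_card_oddCore.mul hodd)
      rw [← Subgroup.map_comap_eq_self_of_surjective (QuotientGroup.mk'_surjective O) K,
        Subgroup.map_eq_bot_iff, QuotientGroup.ker_mk']
      exact hle)
    haveI := hPn
    haveI := P.isPGroup'.isNilpotent
    haveI : Group.IsSolvable ((G ⧸ O) ⧸ (P : Subgroup (G ⧸ O))) := by
      rcases hidx with h | h
      · haveI : Subsingleton ((G ⧸ O) ⧸ (P : Subgroup (G ⧸ O))) :=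
          (Nat.card_eq_one_iff_unique.1 (by rw [← Subgroup.index, h])).1
        exact Group.isSolvable_of_comm fun a b => Subsingleton.elim _ _
      · haveI : Fact (Nat.Prime 3) := ⟨Nat.prime_three⟩
        haveI := isCyclic_of_prime_card (p := 3) (α := (G ⧸ O) ⧸ (P : Subgroup (G ⧸ O))) (by rw [← Subgroup.index, h])
        exact Group.isSolvable_of_comm fun a b => IsCyclic.isMulCommutative.is_comm.comm a b
    haveI : Group.IsSolvable (G ⧸ O) :=
      Group.isSolvable_of_ker_le_range (f := (P : Subgroup (G ⧸ O)).subtype) (g := QuotientGroup.mk' (P : Subgroup (G ⧸ O)))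
        (by rw [QuotientGroup.ker_mk', Subgroup.range_subtype])
    exact Group.isSolvable_of_ker_le_range (f := O.subtype) (g := QuotientGroup.mk' O)
      (by rw [QuotientGroup.ker_mk', Subgroup.range_subtype])
  -- trivial fusion
  refine hcompl (CfsgLib.NormalPComplement.hasNormalPComplement_of_frobeniusCondition ?_)
  have hinner := CfsgLib.TwoGroups.inner_of_metacyclic_two S.isPGroup' hm hd hq hsd hh
    (Cfsg.groupFusionSystem (S : Subgroup G)) (CfsgLib.FusionBasics.group_isSaturated S)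
  intro Q hQ g hg hcop
  obtain ⟨R, hR⟩ := hQ.exists_le_sylow
  obtain ⟨c, hc⟩ := MulAction.exists_smul_eq G R S
  have hmem : ∀ x ∈ Q, c * x * c⁻¹ ∈ (S : Subgroup G) := fun x hx => by
    rw [← hc]
    exact Subgroup.smul_mem_pointwise_smul _ (MulAut.conj c) _ (hR hx)
  set Q' := Q.map (MulAut.conj c).toMonoidHom
  set g' := c * g * c⁻¹ with hg'
  have hQ' : Q' ≤ (S : Subgroup G) := by rintro _ ⟨x, hx, rfl⟩; exact hmem x hx
  have hnorm : ∀ x ∈ Q', g' * x * g'⁻¹ ∈ Q' := by
    rintro _ ⟨x, hx, rfl⟩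
    refine ⟨g * x * g⁻¹, (Subgroup.mem_normalizer_iff.1 hg x).1 hx, ?_⟩
    simp [hg', mul_assoc]
  let φ : ↥Q' →* G := (MulAut.conj g').toMonoidHom.comp Q'.subtype
  have hφ : φ ∈ (Cfsg.groupFusionSystem (S : Subgroup G)).Hom Q' :=
    ⟨hQ', fun x => hQ' (hnorm x x.2), g', fun x => rfl⟩
  rw [hinner Q'] at hφ
  obtain ⟨-, s, hs, hφs⟩ := hφ
  have hpow : ∀ (k : ℕ), ∀ x ∈ Q', g' ^ k * x * (g' ^ k)⁻¹ = s ^ k * x * (s ^ k)⁻¹ ∧
      g' ^ k * x * (g' ^ k)⁻¹ ∈ Q' := by
    intro k
    induction k with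
    | zero => intro x hx; simp [hx]
    | succ k ih =>
      intro x hx
      obtain ⟨h1, h2⟩ := ih x hx
      have h3 : g' * (g' ^ k * x * (g' ^ k)⁻¹) * g'⁻¹ = s * (g' ^ k * x * (g' ^ k)⁻¹) * s⁻¹ :=
        hφs ⟨_, h2⟩
      refine ⟨?_, ?_⟩
      · calc g' ^ (k + 1) * x * (g' ^ (k + 1))⁻¹ = g' * (g' ^ k * x * (g' ^ k)⁻¹) * g'⁻¹ := by
              rw [pow_succ']; group
          _ = s * (g' ^ k * x * (g' ^ k)⁻¹) * s⁻¹ := h3
          _ = s ^ (k + 1) * x * (s ^ (k + 1))⁻¹ := by rw [h1, pow_succ']; group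
      · have := hnorm _ h2
        rwa [show g' ^ (k + 1) * x * (g' ^ (k + 1))⁻¹ = g' * (g' ^ k * x * (g' ^ k)⁻¹) * g'⁻¹ by
          rw [pow_succ']; group]
  obtain ⟨l, hl⟩ := S.isPGroup' ⟨s, hs⟩
  have hl' : s ^ 2 ^ l = 1 := congrArg Subtype.val hl
  refine Subgroup.mem_centralizer_iff.2 fun x hx => ?_
  have h := (hpow (2 ^ l) (c * x * c⁻¹) ⟨x, hx, rfl⟩).1
  rw [hl', hg', ← MulAut.conj_apply c g, ← map_pow, MulAut.conj_apply] at h
  have h2 : Commute (g ^ 2 ^ l) x := by
    have h3 : c * (g ^ 2 ^ l * x * (g ^ 2 ^ l)⁻¹) * c⁻¹ = c * x * c⁻¹ := by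
      calc c * (g ^ 2 ^ l * x * (g ^ 2 ^ l)⁻¹) * c⁻¹
          = c * g ^ 2 ^ l * c⁻¹ * (c * x * c⁻¹) * (c * g ^ 2 ^ l * c⁻¹)⁻¹ := by group
        _ = c * x * c⁻¹ := by rw [h]; simp
    exact mul_inv_eq_iff_eq_mul.1 (mul_left_cancel (mul_right_cancel h3))
  obtain ⟨j, hj⟩ := exists_pow_eq_self_of_coprime (x := g) (n := 2 ^ l) (Nat.Coprime.pow_left l hcop.symm)
  rw [← hj]
  exact (h2.pow_left j).eq.symm

end CfsgLib.Minimal.MetacyclicSolvable
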