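/-
Minimal: the structure and order bound for the normal Sylow subgroup of a Schmidt group.
-/
import Mathlib
import Cfsg.Agent.Lib.PGroups.Frattini

set_option autoImplicit false
set_option linter.style.haveILetI false

open scoped commutatorElement IsMulCommutative

namespace CfsgLib.Minimal.SchmidtUniversal

theorem orderOf_cast_pos {p q : ℕ} [hp : Fact p.Prime] [hq : Fact q.Prime] (hpq : p ≠ q) :
    0 < orderOf (p : ZMod q) := by
  refine orderOf_pos_iff.2 (isOfFinOrder_iff_pow_eq_one.2
    ⟨q - 1, by have := hq.out.two_le; omega, ZMod.pow_card_sub_one_eq_one fun h => hpq ?_⟩)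
  rw [ZMod.natCast_eq_zero_iff, Nat.prime_dvd_prime_iff_eq hq.out hp.out] at h
  exact h.symm

set_option maxHeartbeats 800000 in
/-- A root of unity of prime order `q` generates the subring with `p ^ a` elements. -/
theorem card_closure_root {R : Type*} [CommRing R] [IsDomain R] [Finite R] {p q : ℕ}
    [hp : Fact p.Prime] [hq : Fact q.Prime] [CharP R p] (hpq : p ≠ q) {w : R} (h1 : w ≠ 1)
    (hwq : w ^ q = 1) :
    Nat.card (Subring.closure ({w} : Set R)) = p ^ orderOf (p : ZMod q) := by
  classical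
  set a := orderOf (p : ZMod q) with ha
  have hapos : 0 < a := orderOf_cast_pos hpq
  have hordw : orderOf w = q := orderOf_eq_prime hwq h1
  set S := Subring.closure ({w} : Set R) with hS
  have hfix : ∀ s ∈ S, s ^ p ^ a = s := by
    have hle : S ≤ (iterateFrobenius R p a).eqLocus (RingHom.id R) := by
      rw [hS, Subring.closure_le]
      rintro x hx
      rw [Set.mem_singleton_iff.1 hx]
      change iterateFrobenius R p a w = w
      rw [iterateFrobenius_def]
      have hm : p ^ a ≡ 1 [MOD q] := by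
        rw [← ZMod.natCast_eq_natCast_iff, Nat.cast_pow, Nat.cast_one, ha, pow_orderOf_eq_one]
      rw [← pow_mod_orderOf, hordw, hm, Nat.mod_eq_of_lt hq.out.one_lt, pow_one]
    intro s hs
    have := hle hs
    change iterateFrobenius R p a s = s at this
    rwa [iterateFrobenius_def] at this
  have hub : Nat.card S ≤ p ^ a := by
    haveI : Fintype R := Fintype.ofFinite R
    let f : Polynomial R := Polynomial.X ^ p ^ a - Polynomial.X
    have hdeg : f.natDegree = p ^ a := by
      simp only [f]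
      rw [Polynomial.natDegree_sub_eq_left_of_natDegree_lt] <;>
        simp [Nat.one_lt_pow hapos.ne' hp.out.one_lt]
    have hf0 : f ≠ 0 := fun h => by
      rw [h, Polynomial.natDegree_zero] at hdeg
      exact (pow_pos hp.out.pos a).ne hdeg
    have hsub : (S : Set R) ⊆ (f.roots.toFinset : Set R) := fun s hs => by
      rw [Finset.mem_coe, Multiset.mem_toFinset, Polynomial.mem_roots hf0]
      simp [f, hfix s hs]
    calc Nat.card S = (S : Set R).ncard := Nat.card_coe_set_eq _
      _ ≤ ((f.roots.toFinset : Set R)).ncard := Set.ncard_le_ncard hsub (Finset.finite_toSet _)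
      _ = f.roots.toFinset.card := Set.ncard_coe_finset _
      _ ≤ Multiset.card f.roots := Multiset.toFinset_card_le _
      _ ≤ f.natDegree := Polynomial.card_roots' f
      _ = p ^ a := hdeg
  haveI : CharP S p := ⟨fun n => by
    rw [← CharP.cast_eq_zero_iff R p n, ← Subtype.coe_inj]; simp⟩
  letI : Field S := (Finite.isField_of_domain S).toField
  haveI : Fintype S := Fintype.ofFinite S
  obtain ⟨n, -, hn⟩ := FiniteField.card S p
  set w' : S := ⟨w, Subring.subset_closure rfl⟩ with hw'
  have hordw' : orderOf w' = q := by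
    rw [← hordw]
    exact (orderOf_injective S.subtype.toMonoidHom Subtype.val_injective w').symm
  have hne : w' ≠ 0 := fun h => by
    rw [hw', ← Subtype.coe_inj] at h
    simp only [ZeroMemClass.coe_zero] at h
    rw [h, zero_pow hq.out.ne_zero] at hwq
    exact zero_ne_one hwq
  have hdvd : q ∣ p ^ (n : ℕ) - 1 := by
    rw [← hordw', ← hn]
    exact orderOf_dvd_of_pow_eq_one (FiniteField.pow_card_sub_one_eq_one w' hne)
  have han : a ∣ (n : ℕ) := by
    refine orderOf_dvd_of_pow_eq_one ?_
    have h2 : ((p ^ (n : ℕ) - 1 : ℕ) : ZMod q) = 0 := (ZMod.natCast_eq_zero_iff _ _).2 hdvd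
    rw [Nat.cast_sub (Nat.one_le_pow _ _ hp.out.pos), sub_eq_zero] at h2
    simpa using h2
  have hc : Nat.card S = p ^ (n : ℕ) := by rw [Nat.card_eq_fintype_card, hn]
  refine le_antisymm hub ?_
  rw [hc]
  exact Nat.pow_le_pow_right hp.out.pos (Nat.le_of_dvd n.pos han)

theorem closure_root_eq_top {R : Type*} [CommRing R] [IsDomain R] [Finite R] {p q : ℕ}
    [Fact p.Prime] [Fact q.Prime] [CharP R p] (hpq : p ≠ q)
    (hR : Nat.card R = p ^ orderOf (p : ZMod q)) {w : R} (h1 : w ≠ 1) (hwq : w ^ q = 1) :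
    Subring.closure ({w} : Set R) = ⊤ := by
  refine SetLike.coe_injective (Set.eq_of_subset_of_ncard_le (Set.subset_univ _) ?_ (Set.toFinite _))
  rw [← Nat.card_coe_set_eq, ← Nat.card_coe_set_eq]
  refine (Nat.card_congr (Subring.topEquiv (R := R)).toEquiv).trans_le ?_
  exact (hR.trans (card_closure_root hpq h1 hwq).symm).le

set_option maxHeartbeats 1000000 in
/-- An automorphism of prime order `q` of a `p`-group, fixing every proper invariant subgroup
pointwise, induces multiplication by a root of unity on a field quotient with central kernel. -/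
theorem exists_proj {P : Type*} [Group P] [Finite P] {p q : ℕ} [hp : Fact p.Prime]
    [hq : Fact q.Prime] (hpq : p ≠ q) (hP : IsPGroup p P) (σ : MulAut P) (hσ : σ ≠ 1)
    (hσq : σ ^ q = 1) (hmin : ∀ M : Subgroup P, M ≠ ⊤ → (∀ x ∈ M, σ x ∈ M) → ∀ x ∈ M, σ x = x)
    {F : Type*} [Field F] [Finite F] [CharP F p] (hF : Nat.card F = p ^ orderOf (p : ZMod q))
    {lam : F} (hl1 : lam ≠ 1) (hlq : lam ^ q = 1) :
    ∃ (i : ℕ) (π : P →* Multiplicative F), i.Coprime q ∧ Function.Surjective π ∧
      (∀ x, Multiplicative.toAdd (π ((σ ^ i) x)) = lam * Multiplicative.toAdd (π x)) ∧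
      π.ker = frattini P ∧ π.ker ≤ Subgroup.center P ∧ π.ker ≤ commutator P ∧
      ∀ x ∈ π.ker, σ x = x := by
  classical
  have hco : ∀ x : P, x ^ q = 1 → x = 1 := fun x hx => by
    obtain ⟨j, hj⟩ := IsPGroup.iff_orderOf.1 hP x
    have h1 := orderOf_dvd_of_pow_eq_one hx
    rw [hj] at h1
    exact orderOf_eq_one_iff.1 (hj.trans (Nat.eq_one_of_dvd_coprimes
      (((Nat.coprime_primes hp.out hq.out).2 hpq).pow_left j) (dvd_refl _) h1))
  have hpowfix : ∀ x d : P, σ x = x * d → σ d = d → ∀ n : ℕ, (σ ^ n) x = x * d ^ n := by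
    intro x d hx hd n
    induction n with
    | zero => simp
    | succ n ih =>
      rw [pow_succ', MulAut.mul_apply, ih, map_mul, map_pow, hd, hx, mul_assoc, ← pow_succ']
  set D := Subgroup.closure (Set.range fun x : P => x⁻¹ * σ x) with hD
  have hDtop : D = ⊤ := by
    by_contra hne
    have hDinv : ∀ x ∈ D, σ x ∈ D := by
      intro x hx
      induction hx using Subgroup.closure_induction with
      | mem y hy =>
        obtain ⟨g, rfl⟩ := hy
        exact Subgroup.subset_closure ⟨σ g, by simp⟩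
      | one => simp
      | mul a b _ _ ha hb => rw [map_mul]; exact D.mul_mem ha hb
      | inv a _ ha => rw [map_inv]; exact D.inv_mem ha
    refine hσ (MulEquiv.ext fun x => ?_)
    have hd : σ (x⁻¹ * σ x) = x⁻¹ * σ x :=
      hmin D hne hDinv _ (Subgroup.subset_closure ⟨x, rfl⟩)
    have h1 := hpowfix x (x⁻¹ * σ x) (mul_inv_cancel_left x _).symm hd q
    rw [hσq, MulAut.one_apply, left_eq_mul] at h1
    rw [MulAut.one_apply]
    exact (inv_mul_eq_one.1 (hco _ h1)).symm
  have hne : Nontrivial P := by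
    by_contra h
    rw [not_nontrivial_iff_subsingleton] at h
    exact hσ (MulEquiv.ext fun x => Subsingleton.elim _ _)
  have hΦtop : frattini P ≠ ⊤ := fun h => by
    have h1 : (⊥ : Subgroup P) = ⊤ := frattini_nongenerating (by rw [h, sup_top_eq])
    exact bot_ne_top h1
  have hΦinv : ∀ x ∈ frattini P, σ x ∈ frattini P := fun x hx =>
    frattini_le_comap_frattini_of_surjective (φ := σ.toMonoidHom) σ.surjective hx
  have hΦfix : ∀ x ∈ frattini P, σ x = x := hmin _ hΦtop hΦinv
  have hPΦ : commutator P ≤ frattini P := CfsgLib.PGroups.commutator_le_frattini hP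
  have hΦZ : frattini P ≤ Subgroup.center P := by
    intro c hc
    refine Subgroup.mem_center_iff.2 fun x => ?_
    have hle : D ≤ Subgroup.centralizer ({c} : Set P) := by
      rw [hD, Subgroup.closure_le]
      rintro _ ⟨g, rfl⟩
      rw [SetLike.mem_coe, Subgroup.mem_centralizer_singleton_iff]
      have h1 : σ ⁅g, c⁆ = ⁅g, c⁆ := hΦfix _
        (hPΦ (Subgroup.commutator_mem_commutator (Subgroup.mem_top g) (Subgroup.mem_top c)))
      rw [show σ ⁅g, c⁆ = ⁅σ g, σ c⁆ from map_commutatorElement σ.toMonoidHom g c,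
        hΦfix c hc, commutatorElement_def, commutatorElement_def, mul_left_inj] at h1
      calc g⁻¹ * σ g * c = g⁻¹ * (σ g * c * (σ g)⁻¹) * σ g := by group
        _ = g⁻¹ * (g * c * g⁻¹) * σ g := by rw [h1]
        _ = c * (g⁻¹ * σ g) := by group
    exact Subgroup.mem_centralizer_singleton_iff.1 (hle (hDtop ▸ Subgroup.mem_top x))
  let θ : P →* Abelianization P :=
    { toFun := fun x => ∏ i ∈ Finset.range q, Abelianization.of ((σ ^ i) x)
      map_one' := by simp
      map_mul' := fun a b => by simp [Finset.prod_mul_distrib] }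
  have hθD : D ≤ θ.ker := by
    rw [hD, Subgroup.closure_le]
    rintro _ ⟨g, rfl⟩
    rw [SetLike.mem_coe, MonoidHom.mem_ker, map_mul, map_inv, inv_mul_eq_one]
    change ∏ i ∈ Finset.range q, Abelianization.of ((σ ^ i) g) =
      ∏ i ∈ Finset.range q, Abelianization.of ((σ ^ i) (σ g))
    have h1 : ∀ i, (σ ^ i) (σ g) = (σ ^ (i + 1)) g := fun i => by rw [pow_succ, MulAut.mul_apply]
    simp only [h1]
    obtain ⟨r, hr⟩ : ∃ r, q = r + 1 := ⟨q - 1, by have := hq.out.pos; omega⟩
    have h0 : (σ ^ (r + 1)) g = (σ ^ 0) g := by rw [← hr, hσq, pow_zero]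
    rw [hr, Finset.prod_range_succ' (fun i => Abelianization.of ((σ ^ i) g)),
      Finset.prod_range_succ (fun i => Abelianization.of ((σ ^ (i + 1)) g)), h0]
  -- a fixed point of `σ` lies in the Frattini subgroup
  have hfixΦ : ∀ z : P, σ z = z → z ∈ commutator P := by
    intro z hz
    have hσz : ∀ i : ℕ, (σ ^ i) z = z := fun i => by
      induction i with
      | zero => simp
      | succ i ih => rw [pow_succ, MulAut.mul_apply, hz, ih]
    have h1 : z ∈ θ.ker := hθD (hDtop ▸ Subgroup.mem_top z)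
    rw [MonoidHom.mem_ker] at h1
    change ∏ i ∈ Finset.range q, Abelianization.of ((σ ^ i) z) = 1 at h1
    simp only [hσz, Finset.prod_const, Finset.card_range, ← map_pow] at h1
    have hzq : z ^ q ∈ commutator P := (QuotientGroup.eq_one_iff _).1 h1
    obtain ⟨j, hj⟩ := IsPGroup.iff_orderOf.1 hP z
    obtain ⟨m, hm⟩ := exists_pow_eq_self_of_coprime (x := z) (n := q)
      (hj ▸ (((Nat.coprime_primes hq.out hp.out).2 hpq.symm).pow_right j))
    rw [← hm]
    exact (commutator P).pow_mem hzq m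
  have hirr : ∀ M : Subgroup P, frattini P ≤ M → (∀ x ∈ M, σ x ∈ M) → M ≠ ⊤ → M = frattini P :=
    fun M hΦM hMi hM => le_antisymm (fun x hx => hPΦ (hfixΦ x (hmin M hM hMi x hx))) hΦM
  -- the quotient as an additive group
  haveI hΦn : (frattini P).Normal := inferInstance
  set π₀ := QuotientGroup.mk' (frattini P) with hπ₀
  letI : CommGroup (P ⧸ frattini P) :=
    { (inferInstance : Group (P ⧸ frattini P)) with
      mul_comm := fun a b => by
        obtain ⟨a, rfl⟩ := QuotientGroup.mk'_surjective (frattini P) a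
        obtain ⟨b, rfl⟩ := QuotientGroup.mk'_surjective (frattini P) b
        rw [← map_mul, ← map_mul, QuotientGroup.mk'_apply, QuotientGroup.mk'_apply, QuotientGroup.eq]
        refine hPΦ ?_
        rw [show (a * b)⁻¹ * (b * a) = ⁅b⁻¹, a⁻¹⁆ by simp [commutatorElement_def, mul_assoc]]
        exact Subgroup.commutator_mem_commutator (Subgroup.mem_top _) (Subgroup.mem_top _) }
  let T : AddMonoid.End (Additive (P ⧸ frattini P)) :=
    MonoidHom.toAdditive (QuotientGroup.map (frattini P) (frattini P) σ.toMonoidHom hΦinv)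
  have hT : ∀ x : P, T (Additive.ofMul (π₀ x)) = Additive.ofMul (π₀ (σ x)) := fun x => rfl
  have hsurj : ∀ v : Additive (P ⧸ frattini P), ∃ x : P, Additive.ofMul (π₀ x) = v := fun v =>
    ⟨_, congrArg Additive.ofMul (Quotient.out_eq (Additive.toMul v))⟩
  have hTpow : ∀ (n : ℕ) (x : P), (T ^ n) (Additive.ofMul (π₀ x)) = Additive.ofMul (π₀ ((σ ^ n) x)) := by
    intro n
    induction n with
    | zero => intro x; rfl
    | succ n ih =>
      intro x
      rw [pow_succ, pow_succ, AddMonoid.End.coe_mul, Function.comp_apply, hT, ih, MulAut.mul_apply]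
  have hTq : T ^ q = 1 := by
    refine AddMonoidHom.ext fun v => ?_
    obtain ⟨x, rfl⟩ := hsurj v
    refine (hTpow q x).trans ?_
    rw [hσq]; rfl
  set R := Subring.closure ({T} : Set (AddMonoid.End (Additive (P ⧸ frattini P)))) with hR
  haveI : IsMulCommutative R := Subring.isMulCommutative_closure fun x hx y hy => by
    rw [Set.mem_singleton_iff.1 hx, Set.mem_singleton_iff.1 hy]
  let T' : R := ⟨T, Subring.subset_closure rfl⟩
  have hcomm : ∀ r ∈ R, ∀ v, r (T v) = T (r v) := fun r hr v =>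
    DFunLike.congr_fun (congrArg Subtype.val (mul_comm (⟨r, hr⟩ : R) T') :
      (r * T : AddMonoid.End (Additive (P ⧸ frattini P))) = T * r) v
  have hevery : ∀ W : AddSubgroup (Additive (P ⧸ frattini P)), (∀ w ∈ W, T w ∈ W) →
      W = ⊥ ∨ W = ⊤ := by
    intro W hW
    let M : Subgroup P :=
      { carrier := {x | Additive.ofMul (π₀ x) ∈ W}
        one_mem' := by simp [W.zero_mem]
        mul_mem' := fun {a b} ha hb => by
          simp only [Set.mem_ofPred_eq, map_mul, ofMul_mul] at ha hb ⊢
          exact W.add_mem ha hb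
        inv_mem' := fun {a} ha => by
          simp only [Set.mem_ofPred_eq, map_inv, ofMul_inv] at ha ⊢
          exact W.neg_mem ha }
    have hΦM : frattini P ≤ M := fun x hx => by
      change Additive.ofMul (π₀ x) ∈ W
      rw [show π₀ x = 1 from (QuotientGroup.eq_one_iff x).2 hx, ofMul_one]
      exact W.zero_mem
    have hMi : ∀ x ∈ M, σ x ∈ M := fun x hx => by
      change Additive.ofMul (π₀ (σ x)) ∈ W
      rw [← hT]; exact hW _ hx
    by_cases hM : M = ⊤
    · refine Or.inr (eq_top_iff.2 fun v _ => ?_)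
      obtain ⟨x, rfl⟩ := hsurj v
      exact (hM ▸ Subgroup.mem_top x : x ∈ M)
    · refine Or.inl (eq_bot_iff.2 fun v hv => ?_)
      obtain ⟨x, rfl⟩ := hsurj v
      have : x ∈ frattini P := hirr M hΦM hMi hM ▸ (hv : x ∈ M)
      rw [AddSubgroup.mem_bot, show π₀ x = 1 from (QuotientGroup.eq_one_iff x).2 this, ofMul_one]
  haveI : Nontrivial (Additive (P ⧸ frattini P)) := by
    obtain ⟨x, -, hx⟩ := SetLike.exists_of_lt hΦtop.lt_top
    exact ⟨⟨Additive.ofMul (π₀ x), 0, fun h => hx ((QuotientGroup.eq_one_iff x).1 h)⟩⟩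
  have hinj : ∀ r : R, r ≠ 0 → Function.Injective (r : AddMonoid.End (Additive (P ⧸ frattini P))) := by
    intro r hr
    let f : Additive (P ⧸ frattini P) →+ Additive (P ⧸ frattini P) := (r : AddMonoid.End _)
    rcases hevery f.ker (fun w hw => by
      rw [AddMonoidHom.mem_ker] at hw ⊢
      change (r : AddMonoid.End (Additive (P ⧸ frattini P))) (T w) = 0
      rw [hcomm _ r.2, show (r : AddMonoid.End (Additive (P ⧸ frattini P))) w = 0 from hw, map_zero]) with h | h
    · exact (AddMonoidHom.ker_eq_bot_iff f).1 h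
    · refine absurd (Subtype.ext (AddMonoidHom.ext fun v => ?_)) hr
      exact (AddMonoidHom.mem_ker (f := f)).1 (h ▸ AddSubgroup.mem_top v)
  haveI : NoZeroDivisors R := ⟨fun {f g} h => by
    by_contra hc
    push Not at hc
    refine hc.2 (Subtype.ext (AddMonoidHom.ext fun v => hinj f hc.1 ?_))
    have := DFunLike.congr_fun (congrArg Subtype.val h) v
    exact this.trans (map_zero _).symm⟩
  haveI : Nontrivial R := ⟨⟨0, 1, fun h => by
    obtain ⟨v, hv⟩ := exists_ne (0 : Additive (P ⧸ frattini P))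
    exact hv (DFunLike.congr_fun (congrArg Subtype.val h) v).symm⟩⟩
  haveI : IsDomain R := NoZeroDivisors.to_isDomain R
  haveI : Finite (AddMonoid.End (Additive (P ⧸ frattini P))) :=
    Finite.of_injective (fun f => (f : Additive (P ⧸ frattini P) → Additive (P ⧸ frattini P))) DFunLike.coe_injective
  haveI : CharP R p := by
    rw [CharP.charP_iff_prime_eq_zero hp.out]
    refine Subtype.ext (AddMonoidHom.ext fun v => ?_)
    obtain ⟨x, rfl⟩ := hsurj v
    have h1 : π₀ (x ^ p) = 1 := (QuotientGroup.eq_one_iff _).2 (CfsgLib.PGroups.pow_mem_frattini hP x)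
    rw [map_pow] at h1
    simp only [SubringClass.coe_natCast, ZeroMemClass.coe_zero]
    refine (?_ : ((p : ℕ) • Additive.ofMul (π₀ x)) = 0)
    rw [← ofMul_pow, h1, ofMul_one]
  have hT'q : T' ^ q = 1 := Subtype.ext hTq
  have hT'1 : T' ≠ 1 := by
    intro h
    refine hΦtop (eq_top_iff.2 fun x _ => ?_)
    have hall : ∀ y : P, y⁻¹ * σ y ∈ frattini P := fun y => by
      rw [← QuotientGroup.eq]
      have h2 := DFunLike.congr_fun (congrArg Subtype.val h) (Additive.ofMul (π₀ y))
      exact (Additive.ofMul.injective ((hT y).symm.trans h2)).symm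
    have hle : D ≤ frattini P := by
      rw [hD, Subgroup.closure_le]
      rintro _ ⟨g, rfl⟩
      exact hall g
    exact hle (hDtop ▸ Subgroup.mem_top x)
  have hRcard : Nat.card R = p ^ orderOf (p : ZMod q) := by
    have htop : Subring.closure ({T'} : Set R) = ⊤ := by
      refine eq_top_iff.2 ?_
      rintro ⟨r, hr⟩ -
      induction hr using Subring.closure_induction with
      | mem y hy => exact Subring.subset_closure (Subtype.ext (Set.mem_singleton_iff.1 hy))
      | zero => exact Subring.zero_mem _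
      | one => exact Subring.one_mem _
      | add x y _ _ hx hy => exact Subring.add_mem _ hx hy
      | neg x _ hx => exact Subring.neg_mem _ hx
      | mul x y _ _ hx hy => exact Subring.mul_mem _ hx hy
    rw [← card_closure_root hpq hT'1 hT'q, htop]
    exact (Nat.card_congr Subring.topEquiv.toEquiv).symm
  -- evaluation at a nonzero vector
  obtain ⟨v₀, hv₀⟩ := exists_ne (0 : Additive (P ⧸ frattini P))
  let ev : R →+ Additive (P ⧸ frattini P) :=
    { toFun := fun r => (r : AddMonoid.End (Additive (P ⧸ frattini P))) v₀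
      map_zero' := rfl
      map_add' := fun _ _ => rfl }
  have hevT : ∀ r : R, ev (T' * r) = T (ev r) := fun r => rfl
  have hev : Function.Bijective ev := by
    constructor
    · rw [← AddMonoidHom.ker_eq_bot_iff, eq_bot_iff]
      intro r hr
      rw [AddSubgroup.mem_bot]
      by_contra hr0
      exact hv₀ (hinj r hr0 ((AddMonoidHom.mem_ker (f := ev)).1 hr |>.trans (map_zero _).symm))
    · rw [← AddMonoidHom.range_eq_top]
      refine (hevery ev.range ?_).resolve_left fun h => hv₀ ?_
      · rintro _ ⟨r, rfl⟩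
        exact ⟨T' * r, hevT r⟩
      · have h1 : ev 1 ∈ ev.range := ⟨1, rfl⟩
        rw [h, AddSubgroup.mem_bot] at h1
        exact h1
  let eV := AddEquiv.ofBijective ev hev
  letI : Field R := (Finite.isField_of_domain R).toField
  haveI : Fintype R := Fintype.ofFinite R
  haveI : Fintype F := Fintype.ofFinite F
  let e : R ≃+* F := FiniteField.ringEquivOfCardEq
    (by rw [← Nat.card_eq_fintype_card, ← Nat.card_eq_fintype_card, hRcard, hF])
  have hw1 : e T' ≠ 1 := fun h => hT'1 (e.injective (h.trans (map_one e).symm))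
  have hwq : (e T') ^ q = 1 := by rw [← map_pow, hT'q, map_one]
  obtain ⟨i, hiq, hi⟩ := (IsPrimitiveRoot.iff_orderOf.2 (orderOf_eq_prime hwq hw1)).eq_pow_of_pow_eq_one hlq
  have hi0 : i ≠ 0 := fun h => hl1 (by rw [← hi, h, pow_zero])
  let π : P →* Multiplicative F :=
    { toFun := fun x => Multiplicative.ofAdd (e (eV.symm (Additive.ofMul (π₀ x))))
      map_one' := by simp
      map_mul' := fun x y => by simp [ofMul_mul, ofAdd_add] }
  have hπσ : ∀ x, Multiplicative.toAdd (π (σ x)) = e T' * Multiplicative.toAdd (π x) := fun x => by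
    change e (eV.symm (Additive.ofMul (π₀ (σ x)))) = e T' * e (eV.symm (Additive.ofMul (π₀ x)))
    rw [← map_mul]
    refine congrArg e (eV.injective ?_)
    rw [AddEquiv.apply_symm_apply]
    change _ = ev (T' * eV.symm _)
    rw [hevT, show ev (eV.symm (Additive.ofMul (π₀ x))) = _ from eV.apply_symm_apply _, hT]
  have hker : π.ker = frattini P := by
    ext x
    rw [MonoidHom.mem_ker]
    change Multiplicative.ofAdd (e (eV.symm (Additive.ofMul (π₀ x)))) = 1 ↔ _
    rw [ofAdd_eq_one, map_eq_zero_iff _ e.injective, map_eq_zero_iff _ eV.symm.injective,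
      ofMul_eq_zero, hπ₀, QuotientGroup.mk'_apply, QuotientGroup.eq_one_iff]
  refine ⟨i, π, (hq.out.coprime_iff_not_dvd.2 fun h => absurd (Nat.le_of_dvd (by omega) h) (by omega)).symm,
    fun y => ?_, ?_, hker, hker ▸ hΦZ, fun x hx => hfixΦ x (hΦfix x (hker ▸ hx)), fun x hx => hΦfix x (hker ▸ hx)⟩
  · obtain ⟨x, hx⟩ := hsurj (eV (e.symm (Multiplicative.toAdd y)))
    refine ⟨x, ?_⟩
    change Multiplicative.ofAdd (e (eV.symm (Additive.ofMul (π₀ x)))) = y
    rw [hx, AddEquiv.symm_apply_apply, RingEquiv.apply_symm_apply, ofAdd_toAdd]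
  · rw [← hi]
    clear hiq hi hi0
    induction i with
    | zero => intro x; simp
    | succ i ih => intro x; rw [pow_succ', MulAut.mul_apply, hπσ, ih, pow_succ']; ring

set_option maxHeartbeats 1000000 in
/-- The kernel of such a projection is at most a fixed field of an involution. -/
theorem card_ker_le {P : Type*} [Group P] [Finite P] {F : Type*} [Field F] [Finite F] {p a : ℕ}
    [hp : Fact p.Prime] (hF : Nat.card F = p ^ a) {lam : F} (hgen : Subring.closure ({lam} : Set F) = ⊤)
    (hl0 : lam ≠ 0) (σ : MulAut P) (π : P →* Multiplicative F) (hπ : Function.Surjective π)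
    (hσ : ∀ x, Multiplicative.toAdd (π (σ x)) = lam * Multiplicative.toAdd (π x))
    (hZ : π.ker ≤ Subgroup.center P) (hK : π.ker ≤ commutator P) (hfix : ∀ x ∈ π.ker, σ x = x) :
    Nat.card π.ker = 1 ∨ (Even a ∧ Nat.card π.ker ≤ p ^ (a / 2)) := by
  classical
  set s := Function.surjInv hπ with hs
  have hs' : ∀ y, π (s y) = y := Function.surjInv_eq hπ
  let w : F → F → P := fun u v => ⁅s (Multiplicative.ofAdd u), s (Multiplicative.ofAdd v)⁆
  have hwK : ∀ x y : P, ⁅x, y⁆ ∈ π.ker := fun x y => by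
    rw [MonoidHom.mem_ker, map_commutatorElement, commutatorElement_eq_one_iff_mul_comm]
    exact mul_comm _ _
  have hcz : ∀ x y g : P, g * ⁅x, y⁆ = ⁅x, y⁆ * g := fun x y g =>
    Subgroup.mem_center_iff.1 (hZ (hwK x y)) g
  have hmulL : ∀ x x' y : P, ⁅x * x', y⁆ = ⁅x, y⁆ * ⁅x', y⁆ := fun x x' y => by
    calc ⁅x * x', y⁆ = (x * ⁅x', y⁆) * (y * x⁻¹ * y⁻¹) := by
          simp only [commutatorElement_def]; group
      _ = (⁅x', y⁆ * x) * (y * x⁻¹ * y⁻¹) := by rw [hcz]
      _ = ⁅x', y⁆ * ⁅x, y⁆ := by simp only [commutatorElement_def]; group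
      _ = ⁅x, y⁆ * ⁅x', y⁆ := (hcz x' y _).symm
  have hmulR : ∀ x y y' : P, ⁅x, y * y'⁆ = ⁅x, y⁆ * ⁅x, y'⁆ := fun x y y' => by
    rw [← commutatorElement_inv (y * y') x, hmulL, mul_inv_rev, commutatorElement_inv,
      commutatorElement_inv, hcz x y' ⁅x, y⁆]
  have hcongr : ∀ x y : P, ⁅x, y⁆ = w (Multiplicative.toAdd (π x)) (Multiplicative.toAdd (π y)) := by
    intro x y
    have key : ∀ k ∈ π.ker, ∀ g : P, ⁅k, g⁆ = 1 := fun k hk g => by
      rw [commutatorElement_eq_one_iff_mul_comm]
      exact (Subgroup.mem_center_iff.1 (hZ hk) g).symm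
    have key' : ∀ k ∈ π.ker, ∀ g : P, ⁅g, k⁆ = 1 := fun k hk g => by
      rw [← commutatorElement_inv, key k hk g, inv_one]
    have hx : (s (π x))⁻¹ * x ∈ π.ker := by simp [MonoidHom.mem_ker, hs']
    have hy : (s (π y))⁻¹ * y ∈ π.ker := by simp [MonoidHom.mem_ker, hs']
    show _ = ⁅s (Multiplicative.ofAdd (Multiplicative.toAdd (π x))),
      s (Multiplicative.ofAdd (Multiplicative.toAdd (π y)))⁆
    rw [ofAdd_toAdd, ofAdd_toAdd]
    conv_lhs => rw [← mul_inv_cancel_left (s (π x)) x, ← mul_inv_cancel_left (s (π y)) y]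
    rw [hmulL, key _ hx, mul_one, hmulR, key' _ hy, mul_one]
  have haddL : ∀ u u' v, w (u + u') v = w u v * w u' v := fun u u' v => by
    rw [← hmulL, hcongr (_ * _)]
    simp [hs']
  have haddR : ∀ u v v', w u (v + v') = w u v * w u v' := fun u v v' => by
    rw [← hmulR, hcongr _ (_ * _)]
    simp [hs']
  have hzeroL : ∀ v, w 0 v = 1 := fun v => by
    have := haddL 0 0 v; rw [add_zero] at this; exact left_eq_mul.1 this
  have hzeroR : ∀ u, w u 0 = 1 := fun u => by
    have := haddR u 0 0; rw [add_zero] at this; exact left_eq_mul.1 this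
  have hdiag : ∀ u, w u u = 1 := fun u => commutatorElement_self _
  have hinvar : ∀ u v, w (lam * u) (lam * v) = w u v := fun u v => by
    have h := hfix _ (hwK (s (Multiplicative.ofAdd u)) (s (Multiplicative.ofAdd v)))
    rw [show σ ⁅_, _⁆ = _ from map_commutatorElement σ.toMonoidHom _ _, hcongr] at h
    simpa [hσ, hs'] using h
  -- the subring of adjoint pairs
  let A : Subring (F × F) :=
    { carrier := {c | ∀ u v, w (c.1 * u) v = w u (c.2 * v)}
      mul_mem' := fun {c d} hc hd u v => by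
        simp only [Prod.fst_mul, Prod.snd_mul]
        rw [mul_assoc, hc, hd, mul_left_comm, mul_assoc]
      one_mem' := fun u v => by simp
      add_mem' := fun {c d} hc hd u v => by
        simp only [Prod.fst_add, Prod.snd_add]
        rw [add_mul, add_mul, haddL, haddR, hc, hd]
      zero_mem' := fun u v => by simp [hzeroL, hzeroR]
      neg_mem' := fun {c} hc u v => by
        simp only [Prod.fst_neg, Prod.snd_neg]
        have h1 := haddL (-c.1 * u) (c.1 * u) v
        have h2 := haddR u (-c.2 * v) (c.2 * v)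
        rw [neg_mul, neg_add_cancel, hzeroL] at h1
        rw [neg_mul, neg_add_cancel, hzeroR] at h2
        rw [hc] at h1
        rw [neg_mul, neg_mul]
        exact mul_right_cancel (h1.symm.trans h2) }
  have htriv : (∀ u v, w u v = 1) → Nat.card π.ker = 1 := fun h => by
    have hb : commutator P = ⊥ := by
      rw [commutator_def, eq_bot_iff, Subgroup.commutator_le]
      intro x _ y _
      rw [Subgroup.mem_bot, hcongr, h]
    have hk : π.ker = ⊥ := le_bot_iff.1 (hK.trans hb.le)
    rw [hk, Subgroup.card_bot]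
  by_cases hdeg : ∃ c, ((0 : F), c) ∈ A ∧ c ≠ 0
  · obtain ⟨c, hc, hc0⟩ := hdeg
    refine Or.inl (htriv fun u v => ?_)
    have := hc u (c⁻¹ * v)
    simp only [zero_mul, hzeroL, mul_inv_cancel_left₀ hc0] at this
    exact this.symm
  push Not at hdeg
  have hlamA : (lam, lam⁻¹) ∈ A := fun u v => by
    simp only
    conv_lhs => rw [← mul_inv_cancel_left₀ hl0 v]
    exact hinvar _ _
  have hfst : ∀ c, ∃ c', (c, c') ∈ A := by
    have h : A.map (RingHom.fst F F) = ⊤ := eq_top_iff.2 (hgen ▸ Subring.closure_le.2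
      (Set.singleton_subset_iff.2 ⟨(lam, lam⁻¹), hlamA, rfl⟩))
    intro c
    obtain ⟨⟨x, c'⟩, hx, he⟩ := Subring.mem_map.1 (h ▸ Subring.mem_top c : c ∈ A.map (RingHom.fst F F))
    exact ⟨c', (show x = c from he) ▸ hx⟩
  choose τ₀ hτ₀ using hfst
  have huniq : ∀ c d, (c, d) ∈ A → d = τ₀ c := fun c d h => by
    have h1 := A.sub_mem h (hτ₀ c)
    rw [Prod.mk_sub_mk, sub_self] at h1
    exact sub_eq_zero.1 (hdeg _ h1)
  let τ : F →+* F :=
    { toFun := τ₀
      map_one' := (huniq _ _ A.one_mem).symm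
      map_mul' := fun x y => (huniq _ _ (A.mul_mem (hτ₀ x) (hτ₀ y))).symm
      map_zero' := (huniq _ _ A.zero_mem).symm
      map_add' := fun x y => (huniq _ _ (A.add_mem (hτ₀ x) (hτ₀ y))).symm }
  have hwτ : ∀ u v, w u v = w 1 (τ u * v) := fun u v => by
    have := hτ₀ u 1 v
    simp only [mul_one] at this
    exact this
  have hτlam : τ lam = lam⁻¹ := (huniq _ _ hlamA).symm
  have hττ : ∀ c, τ (τ c) = c := fun c => by
    have h : τ.comp τ = RingHom.id F := RingHom.eq_of_eqOn_set_top (hgen ▸ RingHom.eqOn_set_closure (by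
      intro x hx
      rw [Set.mem_singleton_iff.1 hx, RingHom.comp_apply, hτlam, map_inv₀, hτlam, inv_inv]
      rfl))
    exact RingHom.congr_fun h c
  let η : Multiplicative F →* P :=
    { toFun := fun c => w 1 (Multiplicative.toAdd c)
      map_one' := hzeroR 1
      map_mul' := fun c d => haddR 1 _ _ }
  have hηrange : π.ker ≤ η.range := by
    refine hK.trans ?_
    rw [commutator_def, Subgroup.commutator_le]
    intro x _ y _
    rw [hcongr, hwτ]
    exact ⟨Multiplicative.ofAdd _, rfl⟩
  by_cases hid : ∀ c, τ c = c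
  · refine Or.inl (htriv fun u v => ?_)
    have hll : lam * lam = 1 := by
      have := hτlam.symm.trans (hid lam)
      nth_rw 2 [← this]
      exact mul_inv_cancel₀ hl0
    have hbot : ∀ c : F, ∃ n : ℤ, (n : F) = c := by
      intro c
      refine Subring.mem_bot.1 ((?_ : (⊤ : Subring F) ≤ ⊥) (Subring.mem_top c))
      rw [← hgen, Subring.closure_le, Set.singleton_subset_iff]
      rcases mul_self_eq_one_iff.1 hll with h | h
      · rw [h]; exact Subring.one_mem _
      · rw [h]; exact Subring.neg_mem _ (Subring.one_mem _)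
    obtain ⟨n, hn⟩ := hbot (τ u * v)
    rw [hwτ, ← hn]
    change η (Multiplicative.ofAdd (n : F)) = 1
    rw [show Multiplicative.ofAdd (n : F) = Multiplicative.ofAdd (1 : F) ^ n by
      rw [← ofAdd_zsmul, zsmul_one], map_zpow, show η (Multiplicative.ofAdd (1 : F)) = 1 from hdiag 1, one_zpow]
  push Not at hid
  obtain ⟨ω, hω⟩ := hid
  set F' := τ.eqLocus (RingHom.id F) with hF'
  have hmem : ∀ c, c ∈ F' ↔ τ c = c := fun c => Iff.rfl
  -- traces cover the fixed field
  have htr : ∃ u₀ : F, u₀ + τ u₀ ≠ 0 := by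
    by_contra h
    push Not at h
    have h1 : (1 : F) + 1 = 0 := by simpa using h 1
    refine hω ?_
    rw [eq_neg_of_add_eq_zero_right (h ω)]
    exact neg_eq_of_add_eq_zero_left (by
      calc ω + ω = ω * (1 + 1) := by ring
        _ = 0 := by rw [h1, mul_zero])
  have hηF' : ∀ c ∈ F', η (Multiplicative.ofAdd c) = 1 := by
    intro c hc
    obtain ⟨u₀, hu₀⟩ := htr
    set u := u₀ * (c / (u₀ + τ u₀)) with hu
    have hfixq : τ (c / (u₀ + τ u₀)) = c / (u₀ + τ u₀) := by
      rw [map_div₀, map_add, hττ, (hmem c).1 hc, add_comm (τ u₀)]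
    have hcu : c = τ u + u := by
      rw [hu, map_mul, hfixq]
      field_simp
      ring
    have h1 := hdiag (u + 1)
    rw [haddL, haddR, haddR, hdiag, hdiag, one_mul, mul_one, hwτ, hwτ 1 u, map_one, one_mul,
      mul_one, ← haddR, ← hcu] at h1
    exact h1
  have hdec : ∀ x : F, ∃ a b, a ∈ F' ∧ b ∈ F' ∧ x = a + b * ω := by
    intro x
    have hne : τ ω - ω ≠ 0 := sub_ne_zero.2 hω
    set b := (τ x - x) / (τ ω - ω) with hb
    have hbf : τ b = b := by
      rw [hb, map_div₀, map_sub, map_sub, hττ, hττ, ← neg_sub (τ x) x, ← neg_sub (τ ω) ω, neg_div_neg_eq]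
    refine ⟨x - b * ω, b, ?_, (hmem b).2 hbf, by ring⟩
    rw [hmem, map_sub, map_mul, hbf]
    have : b * (τ ω - ω) = τ x - x := div_mul_cancel₀ _ hne
    linear_combination this * (-1 : F)
  have hcard2 : Nat.card F = Nat.card F' * Nat.card F' := by
    rw [← Nat.card_prod]
    refine (Nat.card_congr (Equiv.ofBijective (fun ab : F' × F' => (ab.1 : F) + ab.2 * ω) ⟨?_, ?_⟩)).symm
    · rintro ⟨⟨a, ha⟩, ⟨b, hb⟩⟩ ⟨⟨c, hc⟩, ⟨d, hd⟩⟩ h
      simp only at h
      have h2 := congrArg τ h
      rw [map_add, map_add, map_mul, map_mul, (hmem a).1 ha, (hmem b).1 hb, (hmem c).1 hc,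
        (hmem d).1 hd] at h2
      have h3 : (b - d) * (τ ω - ω) = 0 := by linear_combination h2 - h
      have hbd : b = d := sub_eq_zero.1 ((mul_eq_zero.1 h3).resolve_right (sub_ne_zero.2 hω))
      subst hbd
      simp only [add_left_inj] at h
      subst h
      rfl
    · intro x
      obtain ⟨a, b, ha, hb, rfl⟩ := hdec x
      exact ⟨(⟨a, ha⟩, ⟨b, hb⟩), rfl⟩
  have hle : Nat.card π.ker ≤ Nat.card F' := by
    refine (Subgroup.card_le_of_le hηrange).trans (Nat.card_le_card_of_surjective
      (fun b : F' => (⟨η (Multiplicative.ofAdd ((b : F) * ω)), _, rfl⟩ : η.range)) ?_)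
    rintro ⟨_, c, rfl⟩
    obtain ⟨a, b, ha, hb, he⟩ := hdec (Multiplicative.toAdd c)
    refine ⟨⟨b, hb⟩, Subtype.ext ?_⟩
    change η (Multiplicative.ofAdd (b * ω)) = η c
    conv_rhs => rw [← ofAdd_toAdd c, he, ofAdd_add, map_mul, hηF' a ha, one_mul]
  obtain ⟨k, -, hk⟩ := (Nat.dvd_prime_pow hp.out).1 (hF ▸ hcard2 ▸ dvd_mul_right _ _ : Nat.card F' ∣ p ^ a)
  rw [hF, hk, ← pow_add] at hcard2
  have hak := Nat.pow_right_injective hp.out.two_le hcard2
  refine Or.inr ⟨⟨k, hak⟩, ?_⟩
  rw [show a / 2 = k by omega, ← hk]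
  exact hle

/-- The order bound for the normal Sylow subgroup of a Schmidt group. -/
theorem card_le {P : Type*} [Group P] [Finite P] {p q : ℕ} [hp : Fact p.Prime] [hq : Fact q.Prime]
    (hpq : p ≠ q) (hP : IsPGroup p P) (σ : MulAut P) (hσ : σ ≠ 1) (hσq : σ ^ q = 1)
    (hmin : ∀ M : Subgroup P, M ≠ ⊤ → (∀ x ∈ M, σ x ∈ M) → ∀ x ∈ M, σ x = x)
    {F : Type*} [Field F] [Finite F] [CharP F p] {a a₀ : ℕ} (ha : a = orderOf (p : ZMod q))
    (ha₀ : a₀ = if a % 2 = 1 then a else 3 * a / 2) (hF : Nat.card F = p ^ a)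
    {lam : F} (hl1 : lam ≠ 1) (hlq : lam ^ q = 1) : Nat.card P ≤ p ^ a₀ := by
  subst ha
  obtain ⟨i, π, -, hπ, hσi, -, hZ, hK, hfix⟩ := exists_proj hpq hP σ hσ hσq hmin hF hl1 hlq
  have hl0 : lam ≠ 0 := fun h => by rw [h, zero_pow hq.out.ne_zero] at hlq; exact zero_ne_one hlq
  have hfixi : ∀ x ∈ π.ker, (σ ^ i) x = x := fun x hx => by
    clear hσi
    induction i with
    | zero => simp
    | succ i ih => rw [pow_succ, MulAut.mul_apply, hfix x hx, ih]
  have hk := card_ker_le hF (closure_root_eq_top hpq hF hl1 hlq) hl0 (σ ^ i) π hπ hσi hZ hK hfixi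
  rw [← π.ker.card_mul_index, Subgroup.index_ker, MonoidHom.range_eq_top.2 hπ, Subgroup.card_top,
    Nat.card_congr Multiplicative.toAdd, hF]
  rcases hk with h | ⟨he, h⟩
  · rw [h, one_mul]
    refine Nat.pow_le_pow_right hp.out.pos ?_
    rw [ha₀]; split <;> omega
  · refine (Nat.mul_le_mul_right _ h).trans ?_
    rw [← pow_add]
    refine Nat.pow_le_pow_right hp.out.pos ?_
    rw [ha₀, Nat.even_iff.1 he, if_neg (by omega)]
    omega

end CfsgLib.Minimal.SchmidtUniversal
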