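/-
Minimal: the universal minimal non-p-nilpotent group of given order type.
-/
import Cfsg.Agent.Lib.Minimal.SchmidtUniversal
import Cfsg.Agent.Lib.NormalPComplement.Frobenius
import Cfsg.Agent.Lib.CoprimeAction.Abelian

set_option autoImplicit false
set_option linter.style.haveILetI false

open scoped commutatorElement
open CfsgLib.Minimal.SchmidtUniversal CfsgLib.NormalPComplement

namespace CfsgLib.Minimal.SchmidtModel

universe u

/-- A group is minimal without normal `p`-complement. -/
def IsCritical (p : ℕ) (X : Type u) [Group X] : Prop :=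
  ¬ Cfsg.HasNormalPComplement p X ∧ ∀ K : Subgroup X, K ≠ ⊤ → Cfsg.HasNormalPComplement p ↥K

/-- The hom from a cyclic group of order `n` sending the generator to `x`. -/
def cycHom {M : Type*} [Monoid M] (n : ℕ) [NeZero n] (x : M) (hx : x ^ n = 1) :
    Multiplicative (ZMod n) →* M where
  toFun c := x ^ (Multiplicative.toAdd c).val
  map_one' := by simp
  map_mul' a b := by
    rw [toAdd_mul, ZMod.val_add, ← pow_eq_pow_mod _ hx, pow_add]

theorem cycHom_apply {M : Type*} [Monoid M] (n : ℕ) [NeZero n] (x : M) (hx : x ^ n = 1)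
    (c : Multiplicative (ZMod n)) : cycHom n x hx c = x ^ (Multiplicative.toAdd c).val := rfl

set_option maxHeartbeats 1000000 in
/-- Data of a group critical for `p`, of order `p ^ t * q ^ r`. -/
theorem exists_data {p q r t : ℕ} [hp : Fact p.Prime] [hq : Fact q.Prime] (hpq : p ≠ q)
    (hr : 1 ≤ r) {X : Type u} [Group X] [Finite X] (hX : IsCritical p X)
    (hcard : Nat.card X = p ^ t * q ^ r) :
    ∃ (U : Subgroup X) (_ : U.Normal) (g : X), IsPGroup p U ∧ orderOf g = q ^ r ∧
      U ⊔ Subgroup.zpowers g = ⊤ ∧ Disjoint U (Subgroup.zpowers g) ∧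
      (MulAut.conjNormal g : MulAut U) ≠ 1 ∧ (MulAut.conjNormal g : MulAut U) ^ q = 1 ∧
      ∀ M : Subgroup U, M ≠ ⊤ → (∀ x ∈ M, (MulAut.conjNormal g : MulAut U) x ∈ M) →
        ∀ x ∈ M, (MulAut.conjNormal g : MulAut U) x = x := by
  classical
  obtain ⟨U, hU, g, hgN, hcop, hnc⟩ : ∃ U : Subgroup X, IsPGroup p U ∧
      ∃ g ∈ Subgroup.normalizer (U : Set X), (orderOf g).Coprime p ∧
        g ∉ Subgroup.centralizer (U : Set X) := by
    by_contra h
    push Not at h
    exact hX.1 (hasNormalPComplement_of_frobeniusCondition fun Q hQ y hy hc => h Q hQ y hy hc)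
  have hkey : ∀ (D : Subgroup X), U ≤ Subgroup.normalizer (U : Set X) → ∀ y ∈ D,
      y ∈ Subgroup.normalizer (U : Set X) → (orderOf y).Coprime p → D ≠ ⊤ →
      ∀ x ∈ U, x ∈ D → (∀ z ∈ D, z ∈ Subgroup.normalizer (U : Set X)) → Commute x y := by
    intro D _ y hy _ hc hD x hxU hxD hDN
    have hn : (U.subgroupOf D).Normal := ⟨fun n hn z =>
      (Subgroup.mem_normalizer_iff.1 (hDN _ z.2) _).1 hn⟩
    have h := commute_of_normal_pGroup (hX.2 D hD) (Q := U.subgroupOf D) hU.comap_subtype
      (g := ⟨y, hy⟩) (x := ⟨x, hxD⟩) (by rwa [Subgroup.orderOf_mk]) hxU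
    exact congrArg Subtype.val h.eq
  have hNle : U ⊔ Subgroup.zpowers g ≤ Subgroup.normalizer (U : Set X) :=
    sup_le Subgroup.le_normalizer (Subgroup.zpowers_le.2 hgN)
  have htop : U ⊔ Subgroup.zpowers g = ⊤ := by
    by_contra hD
    refine hnc (Subgroup.mem_centralizer_iff.2 fun x hx => ?_)
    exact (hkey _ Subgroup.le_normalizer g (Subgroup.mem_sup_right (Subgroup.mem_zpowers g)) hgN
      hcop hD x hx (Subgroup.mem_sup_left hx) fun z hz => hNle hz).eq
  haveI hUn : U.Normal := Subgroup.normalizer_eq_top_iff.1 (top_le_iff.1 (htop ▸ hNle))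
  obtain ⟨s, hs⟩ := IsPGroup.iff_card.1 hU
  have hdisj : Disjoint U (Subgroup.zpowers g) := by
    refine Subgroup.disjoint_of_coprime_natCard ?_
    rw [hs, Nat.card_zpowers]
    exact (hcop.pow_right s).symm
  have hprod : Nat.card U * orderOf g = Nat.card X := by
    rw [← Nat.card_zpowers]
    refine Subgroup.IsComplement'.card_mul_card
      (Subgroup.isComplement'_of_disjoint_and_mul_eq_univ hdisj ?_)
    rw [← Subgroup.normal_mul, htop, Subgroup.coe_top]
  have hord : orderOf g = q ^ r := by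
    rw [hs, hcard] at hprod
    have h1 : orderOf g ∣ q ^ r :=
      (hcop.pow_right t).dvd_of_dvd_mul_left (hprod ▸ dvd_mul_left _ _)
    have h2 : q ^ r ∣ orderOf g :=
      ((((Nat.coprime_primes hq.out hp.out).2 hpq.symm).pow r s)).dvd_of_dvd_mul_left
        (hprod ▸ dvd_mul_left _ _)
    exact Nat.dvd_antisymm h1 h2
  have hdec : ∀ (N : Subgroup X), N ≤ U → ∀ h : X, h ∈ Subgroup.zpowers g → ∀ x ∈ U,
      (Subgroup.zpowers g ≤ Subgroup.normalizer (N : Set X)) →
      ∀ y ∈ Subgroup.zpowers g, x * y ∈ N ⊔ Subgroup.zpowers h → x ∈ N ∧ y ∈ Subgroup.zpowers h := by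
    intro N hN h hh x hx hnorm y hy hxy
    rw [← SetLike.mem_coe, Subgroup.coe_mul_of_right_le_normalizer_left _ _
      ((Subgroup.zpowers_le.2 hh).trans hnorm)] at hxy
    obtain ⟨n, hn, z, hz, he⟩ := hxy
    have hzg : z ∈ Subgroup.zpowers g := Subgroup.zpowers_le.2 hh hz
    have h1 : n⁻¹ * x = z * y⁻¹ := by
      simp only at he
      rw [eq_mul_inv_iff_mul_eq, mul_assoc, ← he, inv_mul_cancel_left]
    have h2 : n⁻¹ * x = 1 := Subgroup.disjoint_def.1 hdisj (U.mul_mem (U.inv_mem (hN hn)) hx)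
      (h1 ▸ (Subgroup.zpowers g).mul_mem hzg ((Subgroup.zpowers g).inv_mem hy))
    rw [inv_mul_eq_one] at h2
    refine ⟨h2 ▸ hn, ?_⟩
    subst h2
    simp only at he
    rw [← mul_left_cancel he]
    exact hz
  refine ⟨U, hUn, g, hU, hord, htop, hdisj, fun h => hnc ?_, ?_, fun M hM hMi x hx => ?_⟩
  · refine Subgroup.mem_centralizer_iff.2 fun x hx => ?_
    have h0 := congrArg Subtype.val (DFunLike.congr_fun h (⟨x, hx⟩ : U))
    rw [MulAut.one_apply, MulAut.conjNormal_apply] at h0
    exact (mul_inv_eq_iff_eq_mul.1 h0).symm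
  · have hD : U ⊔ Subgroup.zpowers (g ^ q) ≠ ⊤ := by
      intro h
      have h1 := (hdec U le_rfl (g ^ q) ((Subgroup.zpowers g).pow_mem (Subgroup.mem_zpowers g) q) 1
        U.one_mem (Subgroup.normalizer_eq_top (H := U) ▸ le_top) g (Subgroup.mem_zpowers g)
        (by rw [h]; exact Subgroup.mem_top _)).2
      have h2 := Subgroup.card_le_of_le (Subgroup.zpowers_le.2 h1)
      rw [Nat.card_zpowers, Nat.card_zpowers, orderOf_pow, hord,
        Nat.gcd_eq_right (dvd_pow_self q (by omega))] at h2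
      exact absurd h2 (not_le.2 (Nat.div_lt_self (pow_pos hq.out.pos r) hq.out.one_lt))
    ext x
    rw [← map_pow, MulAut.one_apply, MulAut.conjNormal_apply]
    have hc := hkey _ Subgroup.le_normalizer (g ^ q) (Subgroup.mem_sup_right (Subgroup.mem_zpowers _))
      (Subgroup.normalizer_eq_top (H := U) ▸ Subgroup.mem_top _)
      (hcop.coprime_dvd_left (orderOf_pow_dvd q)) hD x x.2 (Subgroup.mem_sup_left x.2)
      fun z _ => Subgroup.normalizer_eq_top (H := U) ▸ Subgroup.mem_top z
    rw [← hc.eq, mul_inv_cancel_right]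
  · set N := M.map U.subtype with hN
    have hNU : N ≤ U := by rintro _ ⟨m, -, rfl⟩; exact m.2
    have hnorm : Subgroup.zpowers g ≤ Subgroup.normalizer (N : Set X) := by
      rw [Subgroup.zpowers_le]
      refine CfsgLib.CoprimeAction.mem_normalizer_of_conj_mem ?_
      rintro _ ⟨m, hm, rfl⟩
      exact ⟨_, hMi m hm, MulAut.conjNormal_apply (H := U) g m⟩
    have hD : N ⊔ Subgroup.zpowers g ≠ ⊤ := fun h => hM (eq_top_iff.2 fun m _ => by
      obtain ⟨m', hm', he⟩ := (hdec N hNU g (Subgroup.mem_zpowers g) m m.2 hnorm 1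
        (Subgroup.zpowers g).one_mem (by rw [h]; exact Subgroup.mem_top _)).1
      exact Subtype.ext he ▸ hm')
    have hc := hkey _ Subgroup.le_normalizer g (Subgroup.mem_sup_right (Subgroup.mem_zpowers g))
      hgN hcop hD x x.2 (Subgroup.mem_sup_left ⟨x, hx, rfl⟩)
      fun z _ => Subgroup.normalizer_eq_top (H := U) ▸ Subgroup.mem_top z
    refine Subtype.ext ?_
    rw [MulAut.conjNormal_apply, ← hc.eq, mul_inv_cancel_right]

/-- A central extension of `F` by `Z` given by a biadditive cocycle. -/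
@[ext] structure Ext {F Z : Type u} [AddCommGroup F] [AddCommGroup Z] (c : F →+ F →+ Z) where
  /-- the quotient coordinate -/
  x : F
  /-- the central coordinate -/
  z : Z

variable {F Z : Type u}

section ExtGroup

variable [AddCommGroup F] [AddCommGroup Z] (c : F →+ F →+ Z)

instance : Mul (Ext c) := ⟨fun a b => ⟨a.x + b.x, a.z + b.z + c a.x b.x⟩⟩
instance : One (Ext c) := ⟨⟨0, 0⟩⟩
instance : Inv (Ext c) := ⟨fun a => ⟨-a.x, -a.z + c a.x a.x⟩⟩

theorem mul_def (a b : Ext c) : a * b = ⟨a.x + b.x, a.z + b.z + c a.x b.x⟩ := rfl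
theorem one_def : (1 : Ext c) = ⟨0, 0⟩ := rfl
theorem inv_def (a : Ext c) : a⁻¹ = ⟨-a.x, -a.z + c a.x a.x⟩ := rfl

instance : Group (Ext c) :=
  Group.ofLeftAxioms
    (fun a b d => by ext <;> simp [mul_def, map_add] <;> abel)
    (fun a => by ext <;> simp [mul_def, one_def])
    (fun a => by ext <;> simp [mul_def, one_def, inv_def, map_neg])

/-- The coordinates. -/
def extEquiv : Ext c ≃ F × Z where
  toFun a := (a.x, a.z)
  invFun a := ⟨a.1, a.2⟩
  left_inv _ := rfl
  right_inv _ := rfl

theorem commutator_eq (a b : Ext c) : ⁅a, b⁆ = ⟨0, c a.x b.x - c b.x a.x⟩ := by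
  rw [commutatorElement_def]
  ext <;> simp [mul_def, inv_def, map_add, map_neg] <;> abel

/-- The projection to `F`. -/
def proj : Ext c →* Multiplicative F where
  toFun a := Multiplicative.ofAdd a.x
  map_one' := rfl
  map_mul' _ _ := rfl

theorem eq_top_of_proj (hgen : AddSubgroup.closure {z | ∃ x y, c x y - c y x = z} = ⊤)
    (M : Subgroup (Ext c)) (hM : ∀ x : F, ∃ m ∈ M, m.x = x) : M = ⊤ := by
  let S : AddSubgroup Z :=
    { carrier := {z | (⟨0, z⟩ : Ext c) ∈ M}
      zero_mem' := M.one_mem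
      add_mem' := fun {z w} hz hw => by
        have := M.mul_mem hz hw
        simpa [mul_def] using this
      neg_mem' := fun {z} hz => by
        have := M.inv_mem hz
        simpa [inv_def] using this }
  have hS : S = ⊤ := by
    rw [eq_top_iff, ← hgen, AddSubgroup.closure_le]
    rintro _ ⟨x, y, rfl⟩
    obtain ⟨m, hm, rfl⟩ := hM x
    obtain ⟨n, hn, rfl⟩ := hM y
    have : ⁅m, n⁆ ∈ M := by
      rw [commutatorElement_def]
      exact M.mul_mem (M.mul_mem (M.mul_mem hm hn) (M.inv_mem hm)) (M.inv_mem hn)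
    rw [commutator_eq] at this
    exact this
  refine eq_top_iff.2 fun a _ => ?_
  obtain ⟨m, hm, hmx⟩ := hM a.x
  have h1 : (⟨0, a.z - m.z⟩ : Ext c) ∈ M := (hS ▸ AddSubgroup.mem_top _ : (a.z - m.z) ∈ S)
  have h2 := M.mul_mem hm h1
  rw [mul_def] at h2
  simpa [hmx] using h2

end ExtGroup

variable [Field F] [AddCommGroup Z]

/-- Multiplication by a cocycle-preserving scalar. -/
def scale (c : F →+ F →+ Z) (lam : F) (hl0 : lam ≠ 0)
    (hinv : ∀ x y, c (lam * x) (lam * y) = c x y) : MulAut (Ext c) where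
  toFun a := ⟨lam * a.x, a.z⟩
  invFun a := ⟨lam⁻¹ * a.x, a.z⟩
  left_inv a := by simp [hl0]
  right_inv a := by simp [hl0]
  map_mul' a b := by simp [mul_def, mul_add, hinv]

theorem scale_pow (c : F →+ F →+ Z) (lam : F) (hl0 : lam ≠ 0)
    (hinv : ∀ x y, c (lam * x) (lam * y) = c x y) (n : ℕ) (a : Ext c) :
    (scale c lam hl0 hinv ^ n) a = ⟨lam ^ n * a.x, a.z⟩ := by
  induction n with
  | zero => simp
  | succ n ih =>
    rw [pow_succ', MulAut.mul_apply, ih]
    change (⟨lam * (lam ^ n * a.x), a.z⟩ : Ext c) = _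
    rw [pow_succ', mul_assoc]

/-- An additive subgroup invariant under a generator is trivial or everything. -/
theorem invariant_eq {lam : F} (hgen : Subring.closure ({lam} : Set F) = ⊤) (W : AddSubgroup F)
    (hW : ∀ w ∈ W, lam * w ∈ W) : W = ⊥ ∨ W = ⊤ := by
  let E : Subring F :=
    { carrier := {f | ∀ w ∈ W, f * w ∈ W}
      one_mem' := fun w hw => by simpa using hw
      mul_mem' := fun {f g} hf hg w hw => by rw [mul_assoc]; exact hf _ (hg w hw)
      zero_mem' := fun w _ => by simp [W.zero_mem]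
      add_mem' := fun {f g} hf hg w hw => by rw [add_mul]; exact W.add_mem (hf w hw) (hg w hw)
      neg_mem' := fun {f} hf w hw => by rw [neg_mul]; exact W.neg_mem (hf w hw) }
  have hE : E = ⊤ := eq_top_iff.2 (hgen ▸ Subring.closure_le.2 (Set.singleton_subset_iff.2 hW))
  by_cases h : W = ⊥
  · exact Or.inl h
  · refine Or.inr (eq_top_iff.2 fun x _ => ?_)
    obtain ⟨w, hw, hw0⟩ : ∃ w ∈ W, w ≠ 0 := by
      by_contra h'
      push Not at h'
      exact h (eq_bot_iff.2 fun x hx => AddSubgroup.mem_bot.2 (h' x hx))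
    have := (hE ▸ Subring.mem_top (x * w⁻¹) : x * w⁻¹ ∈ E) w hw
    rwa [inv_mul_cancel_right₀ hw0] at this

set_option maxHeartbeats 2000000 in
/-- The universal critical group built on a suitable cocycle. -/
theorem exists_universal [Finite F] [Finite Z] {p q r a a₀ : ℕ} [hp : Fact p.Prime]
    [hq : Fact q.Prime] (hpq : p ≠ q) (hr : 1 ≤ r) [CharP F p] (ha : a = orderOf (p : ZMod q))
    (ha₀ : a₀ = if a % 2 = 1 then a else 3 * a / 2) (hF : Nat.card F = p ^ a)
    (hFZ : Nat.card F * Nat.card Z = p ^ a₀) {lam : F} (hl1 : lam ≠ 1) (hlq : lam ^ q = 1)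
    (c : F →+ F →+ Z) (hinv : ∀ x y, c (lam * x) (lam * y) = c x y)
    (hgen : AddSubgroup.closure {z | ∃ x y, c x y - c y x = z} = ⊤) :
    ∃ (G₀ : Type u) (_ : Group G₀) (_ : Finite G₀), IsCritical p G₀ ∧
      Nat.card G₀ = p ^ a₀ * q ^ r ∧
      ∀ (X : Type u) [Group X] [Finite X], IsCritical p X →
        (∃ t : ℕ, Nat.card X = p ^ t * q ^ r) →
        ∃ φ : G₀ →* X, Function.Surjective φ ∧ φ.ker ≤ Subgroup.center G₀ := by
  classical
  have hl0 : lam ≠ 0 := fun h => by rw [h, zero_pow hq.out.ne_zero] at hlq; exact zero_ne_one hlq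
  have hFa : Nat.card F = p ^ orderOf (p : ZMod q) := by rw [hF, ha]
  have hgenF : ∀ i : ℕ, ¬ q ∣ i → Subring.closure ({lam ^ i} : Set F) = ⊤ := fun i hi =>
    closure_root_eq_top hpq hFa (fun h => hi (orderOf_eq_prime hlq hl1 ▸ orderOf_dvd_of_pow_eq_one h))
      (by rw [← pow_mul, mul_comm, pow_mul, hlq, one_pow])
  have hlgen : Subring.closure ({lam} : Set F) = ⊤ := closure_root_eq_top hpq hFa hl1 hlq
  haveI : NeZero (q ^ r) := ⟨pow_ne_zero r hq.out.ne_zero⟩
  set σ₀ := scale c lam hl0 hinv with hσ₀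
  have hσ₀q : σ₀ ^ q = 1 := MulEquiv.ext fun a => by
    rw [hσ₀, scale_pow, hlq, one_mul]; rfl
  have hqr : q ∣ q ^ r := dvd_pow_self q (by omega)
  have hσ₀qr : σ₀ ^ q ^ r = 1 := by
    obtain ⟨k, hk⟩ := hqr
    rw [hk, pow_mul, hσ₀q, one_pow]
  let φC := cycHom (q ^ r) σ₀ hσ₀qr
  haveI : Finite (Ext c) := Finite.of_equiv _ (extEquiv c).symm
  have hUcard : Nat.card (Ext c) = p ^ a₀ := by
    rw [Nat.card_congr (extEquiv c), Nat.card_prod, hFZ]
  have hUp : IsPGroup p (Ext c) := IsPGroup.of_card hUcard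
  haveI : Finite (SemidirectProduct (Ext c) (Multiplicative (ZMod (q ^ r))) φC) := Finite.of_equiv _ (SemidirectProduct.equivProd).symm
  have hG0card : Nat.card (SemidirectProduct (Ext c) (Multiplicative (ZMod (q ^ r))) φC) = p ^ a₀ * q ^ r := by
    rw [SemidirectProduct.card, hUcard, Nat.card_congr Multiplicative.toAdd, Nat.card_zmod]
  have hCord : ∀ d : Multiplicative (ZMod (q ^ r)), d ^ q ^ r = 1 := fun d => by
    have h := pow_card_eq_one' (x := d)
    rwa [Nat.card_congr Multiplicative.toAdd, Nat.card_zmod] at h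
  have hcopC : ∀ n : ℕ, (n.Coprime p) → ∀ u : Ext c, u ^ n = 1 → u = 1 := by
    intro n hn u hu
    obtain ⟨j, hj⟩ := IsPGroup.iff_orderOf.1 hUp u
    have h1 := orderOf_dvd_of_pow_eq_one hu
    rw [hj] at h1
    exact orderOf_eq_one_iff.1 (hj.trans
      (Nat.eq_one_of_dvd_coprimes (hn.symm.pow_left j) dvd_rfl h1))
  have hpright : ∀ x : (SemidirectProduct (Ext c) (Multiplicative (ZMod (q ^ r))) φC), (∃ j, orderOf x = p ^ j) → x.right = 1 := by
    rintro x ⟨j, hj⟩
    have h1 : x.right ^ p ^ j = 1 := by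
      rw [← hj, ← SemidirectProduct.rightHom_eq_right, ← map_pow, pow_orderOf_eq_one, map_one]
    exact orderOf_eq_one_iff.1 (Nat.eq_one_of_dvd_coprimes
      (((Nat.coprime_primes hp.out hq.out).2 hpq).pow j r) (orderOf_dvd_of_pow_eq_one h1)
      (orderOf_dvd_of_pow_eq_one (hCord _)))
  refine ⟨(SemidirectProduct (Ext c) (Multiplicative (ZMod (q ^ r))) φC), inferInstance, inferInstance, ⟨?_, ?_⟩, hG0card, ?_⟩
  · -- no normal p-complement
    intro h
    let gC : (SemidirectProduct (Ext c) (Multiplicative (ZMod (q ^ r))) φC) := SemidirectProduct.inr (Multiplicative.ofAdd 1)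
    haveI : (SemidirectProduct.inl : Ext c →* (SemidirectProduct (Ext c) (Multiplicative (ZMod (q ^ r))) φC)).range.Normal := by
      rw [SemidirectProduct.range_inl_eq_ker_rightHom]; infer_instance
    have hp' : IsPGroup p (SemidirectProduct.inl : Ext c →* (SemidirectProduct (Ext c) (Multiplicative (ZMod (q ^ r))) φC)).range := by
      rw [MonoidHom.range_eq_map]; exact hUp.to_subgroup ⊤ |>.map _
    have hgo : (orderOf gC).Coprime p := by
      have hd : orderOf gC ∣ q ^ r := orderOf_dvd_of_pow_eq_one (by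
        rw [← map_pow, hCord, map_one])
      exact Nat.Coprime.coprime_dvd_left hd (((Nat.coprime_primes hq.out hp.out).2 hpq.symm).pow_left r)
    have hcomm := commute_of_normal_pGroup h hp' (g := gC)
      (x := SemidirectProduct.inl (⟨1, 0⟩ : Ext c)) hgo ⟨_, rfl⟩
    have h1 := congrArg SemidirectProduct.left hcomm.eq
    simp only [gC, SemidirectProduct.mul_left, SemidirectProduct.left_inl,
      SemidirectProduct.right_inl, SemidirectProduct.left_inr, SemidirectProduct.right_inr,
      map_one, mul_one, MulAut.one_apply, one_mul] at h1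
    have hval : (ZMod.val (1 : ZMod (q ^ r))) = 1 := by
      haveI : Fact (1 < q ^ r) := ⟨Nat.one_lt_pow (by omega) hq.out.one_lt⟩
      exact ZMod.val_one _
    rw [cycHom_apply, toAdd_ofAdd, hval, hσ₀, scale_pow, pow_one] at h1
    have h2 := congrArg Ext.x h1
    simp only [mul_one] at h2
    exact hl1 h2.symm
  · -- proper subgroups
    intro K hK
    refine hasNormalPComplement_of_frobeniusCondition fun Q hQ g _ hg => ?_
    refine Subgroup.mem_centralizer_iff.2 fun x hx => Subtype.ext ?_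
    have hxr : (x : (SemidirectProduct (Ext c) (Multiplicative (ZMod (q ^ r))) φC)).right = 1 := hpright _ (by
      obtain ⟨j, hj⟩ := IsPGroup.iff_orderOf.1 hQ ⟨x, hx⟩
      exact ⟨j, by rw [← hj, Subgroup.orderOf_mk, Subgroup.orderOf_coe]⟩)
    have hgo : (orderOf (g : (SemidirectProduct (Ext c) (Multiplicative (ZMod (q ^ r))) φC))).Coprime p := by rwa [Subgroup.orderOf_coe]
    set i := (Multiplicative.toAdd (g : (SemidirectProduct (Ext c) (Multiplicative (ZMod (q ^ r))) φC)).right).val with hi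
    have hφg : φC (g : (SemidirectProduct (Ext c) (Multiplicative (ZMod (q ^ r))) φC)).right = σ₀ ^ i := rfl
    by_cases hqi : q ∣ i
    · -- `g` acts trivially
      obtain ⟨k, hk⟩ := hqi
      have h1 : φC (g : (SemidirectProduct (Ext c) (Multiplicative (ZMod (q ^ r))) φC)).right = 1 := by rw [hφg, hk, pow_mul, hσ₀q, one_pow]
      have hpow : ∀ n : ℕ, ((g : (SemidirectProduct (Ext c) (Multiplicative (ZMod (q ^ r))) φC)) ^ n).left = (g : (SemidirectProduct (Ext c) (Multiplicative (ZMod (q ^ r))) φC)).left ^ n ∧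
          ((g : (SemidirectProduct (Ext c) (Multiplicative (ZMod (q ^ r))) φC)) ^ n).right = (g : (SemidirectProduct (Ext c) (Multiplicative (ZMod (q ^ r))) φC)).right ^ n := by
        intro n
        induction n with
        | zero => simp
        | succ n ih =>
          rw [pow_succ', pow_succ', pow_succ', SemidirectProduct.mul_left,
            SemidirectProduct.mul_right, h1, ih.1, ih.2, MulAut.one_apply]
          exact ⟨rfl, rfl⟩
      have hl : (g : (SemidirectProduct (Ext c) (Multiplicative (ZMod (q ^ r))) φC)).left = 1 := hcopC _ hgo _ (by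
        rw [← (hpow _).1, pow_orderOf_eq_one]; rfl)
      refine SemidirectProduct.ext ?_ ?_
      · simp [SemidirectProduct.mul_left, hl, hxr, h1]
      · simp [SemidirectProduct.mul_right, hxr]
    · -- `g` acts irreducibly
      let M : Subgroup (Ext c) := K.comap SemidirectProduct.inl
      let W : AddSubgroup F :=
        { carrier := {f | ∃ m ∈ M, m.x = f}
          zero_mem' := ⟨1, M.one_mem, rfl⟩
          add_mem' := fun {f f'} ⟨m, hm, h⟩ ⟨m', hm', h'⟩ => ⟨m * m', M.mul_mem hm hm', by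
            simp [mul_def, h, h']⟩
          neg_mem' := fun {f} ⟨m, hm, h⟩ => ⟨m⁻¹, M.inv_mem hm, by simp [inv_def, h]⟩ }
      have hWi : ∀ w ∈ W, lam ^ i * w ∈ W := by
        rintro _ ⟨m, hm, rfl⟩
        refine ⟨(g : (SemidirectProduct (Ext c) (Multiplicative (ZMod (q ^ r))) φC)).left * φC (g : (SemidirectProduct (Ext c) (Multiplicative (ZMod (q ^ r))) φC)).right m * (g : (SemidirectProduct (Ext c) (Multiplicative (ZMod (q ^ r))) φC)).left⁻¹, ?_, ?_⟩
        · change SemidirectProduct.inl _ ∈ K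
          have hgm := K.mul_mem (K.mul_mem g.2 (hm : SemidirectProduct.inl m ∈ K)) (K.inv_mem g.2)
          convert hgm using 1
          refine SemidirectProduct.ext ?_ ?_
          · simp [SemidirectProduct.mul_left, SemidirectProduct.inv_left, mul_assoc]
          · simp
        · rw [hφg, hσ₀, scale_pow]
          simp [mul_def, inv_def]
      rcases invariant_eq (hgenF i hqi) W hWi with hW | hW
      · -- central
        have hxM : (x : (SemidirectProduct (Ext c) (Multiplicative (ZMod (q ^ r))) φC)).left ∈ M := by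
          change SemidirectProduct.inl _ ∈ K
          convert x.2 using 1
          refine SemidirectProduct.ext ?_ ?_ <;> simp [hxr]
        have hx0 : (x : (SemidirectProduct (Ext c) (Multiplicative (ZMod (q ^ r))) φC)).left.x = 0 := AddSubgroup.mem_bot.1 (hW ▸ (⟨_, hxM, rfl⟩ : (x : (SemidirectProduct (Ext c) (Multiplicative (ZMod (q ^ r))) φC)).left.x ∈ W))
        refine SemidirectProduct.ext ?_ ?_
        · simp only [Subgroup.coe_mul, SemidirectProduct.mul_left, hxr, map_one, MulAut.one_apply,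
            hφg, hσ₀, scale_pow]
          ext <;> simp [mul_def, hx0, add_comm]
        · simp [SemidirectProduct.mul_right, hxr]
      · exfalso
        refine hK (eq_top_iff.2 fun y _ => ?_)
        have hMtop : M = ⊤ := eq_top_of_proj c hgen M fun f =>
          (hW ▸ AddSubgroup.mem_top f : f ∈ W)
        have hinl : ∀ m, SemidirectProduct.inl m ∈ K := fun m => (hMtop ▸ Subgroup.mem_top m : m ∈ M)
        have hgr : SemidirectProduct.inr (g : (SemidirectProduct (Ext c) (Multiplicative (ZMod (q ^ r))) φC)).right ∈ K := by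
          have h := K.mul_mem (K.inv_mem (hinl (g : (SemidirectProduct (Ext c) (Multiplicative (ZMod (q ^ r))) φC)).left)) g.2
          convert h using 1
          exact (eq_inv_mul_iff_mul_eq.2 (SemidirectProduct.inl_left_mul_inr_right
            (g : SemidirectProduct (Ext c) (Multiplicative (ZMod (q ^ r))) φC)))
        have hord : orderOf (g : (SemidirectProduct (Ext c) (Multiplicative (ZMod (q ^ r))) φC)).right = q ^ r := by
          have h := ZMod.addOrderOf_coe i (NeZero.ne (q ^ r))
          rw [hi, ZMod.natCast_rightInverse, ← hi, ← orderOf_ofAdd_eq_addOrderOf, ofAdd_toAdd,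
            (Nat.Coprime.pow_left r ((hq.out.coprime_iff_not_dvd).2 hqi)).gcd_eq_one, Nat.div_one] at h
          exact h
        have hyr : SemidirectProduct.inr y.right ∈ K := by
          have htop : Subgroup.zpowers (g : (SemidirectProduct (Ext c) (Multiplicative (ZMod (q ^ r))) φC)).right = ⊤ := Subgroup.eq_top_of_card_eq _ (by
            rw [Nat.card_zpowers, hord, Nat.card_congr Multiplicative.toAdd, Nat.card_zmod])
          obtain ⟨n, hn⟩ := Subgroup.mem_zpowers_iff.1 (htop ▸ Subgroup.mem_top y.right)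
          rw [← hn, map_zpow]
          exact K.zpow_mem hgr n
        rw [← SemidirectProduct.inl_left_mul_inr_right y]
        exact K.mul_mem (hinl _) hyr
  · -- universality
    rintro X _ _ hX ⟨t, ht⟩
    obtain ⟨U, hUn, g, hU, hgord, hgtop, hgdisj, hσ1, hσq, hmin⟩ := exists_data hpq hr hX ht
    haveI := hUn
    obtain ⟨i, π, hiq, hπ, hπi, hπker, -, -, hπfix⟩ :=
      exists_proj hpq hU (MulAut.conjNormal g) hσ1 hσq hmin hFa hl1 hlq
    set σ := (MulAut.conjNormal g : MulAut U) ^ i with hσ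
    have hfix : ∀ x ∈ π.ker, σ x = x := by
      intro x hx
      rw [hσ]
      clear hπi hiq hσ σ
      induction i with
      | zero => simp
      | succ i ih => rw [pow_succ, MulAut.mul_apply, hπfix x hx, ih]
    let T : Ext c × U →* Ext c × U := σ₀.toMonoidHom.prodMap σ.toMonoidHom
    have hT : ∀ w, T w = (σ₀ w.1, σ w.2) := fun w => rfl
    let Good : Subgroup (Ext c × U) → Prop := fun M =>
      (∀ w ∈ M, T w ∈ M) ∧ (∀ w ∈ M, π w.2 = Multiplicative.ofAdd w.1.x) ∧
        ∀ f : F, ∃ w ∈ M, w.1.x = f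
    obtain ⟨M, ⟨hMi, hMW, hMF⟩, hMmin⟩ : ∃ M, Minimal Good M := by
      refine Set.Finite.exists_minimal (s := {M | Good M}) (Set.toFinite _)
        ⟨(π.comp (MonoidHom.snd _ _)).eqLocus ((proj c).comp (MonoidHom.fst _ _)), ?_, fun w hw => by exact hw, fun f => ?_⟩
      · intro w hw
        change π (σ w.2) = Multiplicative.ofAdd (lam * w.1.x)
        rw [← ofAdd_toAdd (π (σ w.2)), hπi, show π w.2 = Multiplicative.ofAdd w.1.x from hw, toAdd_ofAdd]
      · obtain ⟨v, hv⟩ := hπ (Multiplicative.ofAdd f)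
        exact ⟨(⟨f, 0⟩, v), hv, rfl⟩
    let τh : M →* M := (T.comp M.subtype).codRestrict M fun w => hMi w w.2
    have hτinj : Function.Injective τh := by
      intro v w h
      have h1 := congrArg Subtype.val h
      change T v = T w at h1
      rw [hT, hT, Prod.mk.injEq] at h1
      exact Subtype.ext (Prod.ext (σ₀.injective h1.1) (σ.injective h1.2))
    let τ : MulAut M := MulEquiv.ofBijective τh (Finite.injective_iff_bijective.1 hτinj)
    have hτv : ∀ w : M, ((τ w : M) : Ext c × U) = T w := fun w => rfl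
    have hMp : IsPGroup p M := by
      obtain ⟨k, hk⟩ := IsPGroup.iff_card.1 hU
      refine (IsPGroup.of_card (n := a₀ + k) ?_).to_subgroup M
      rw [Nat.card_prod, hUcard, hk, pow_add]
    have hτ1 : τ ≠ 1 := by
      intro h
      obtain ⟨w, hw, hw1⟩ := hMF 1
      have h1 := congrArg (fun v : M => (v : Ext c × U).1.x) (DFunLike.congr_fun h ⟨w, hw⟩)
      simp only [hτv, hT, MulAut.one_apply] at h1
      change lam * w.1.x = w.1.x at h1
      rw [hw1, mul_one] at h1
      exact hl1 h1
    have hTpow : ∀ (n : ℕ) (w : M), (((τ ^ n) w : M) : Ext c × U) =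
        ((σ₀ ^ n) (w : Ext c × U).1, (σ ^ n) (w : Ext c × U).2) := by
      intro n
      induction n with
      | zero => intro w; rfl
      | succ n ih =>
        intro w
        rw [pow_succ', MulAut.mul_apply, hτv, ih, hT, pow_succ', pow_succ', MulAut.mul_apply,
          MulAut.mul_apply]
    have hσq' : σ ^ q = 1 := by rw [hσ, ← pow_mul, mul_comm, pow_mul, hσq, one_pow]
    have hτq : τ ^ q = 1 := MulEquiv.ext fun w => Subtype.ext (by
      rw [hTpow, hσ₀q, hσq']; rfl)
    have hτmin : ∀ M' : Subgroup M, M' ≠ ⊤ → (∀ x ∈ M', τ x ∈ M') → ∀ x ∈ M', τ x = x := by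
      intro M' hM' hi' x hx
      let W : AddSubgroup F :=
        { carrier := {f | ∃ m ∈ M', (m : Ext c × U).1.x = f}
          zero_mem' := ⟨1, M'.one_mem, rfl⟩
          add_mem' := fun {f f'} ⟨m, hm, h⟩ ⟨m', hm', h'⟩ => ⟨m * m', M'.mul_mem hm hm', by
            simp [mul_def, h, h']⟩
          neg_mem' := fun {f} ⟨m, hm, h⟩ => ⟨m⁻¹, M'.inv_mem hm, by simp [inv_def, h]⟩ }
      rcases invariant_eq hlgen W (by
        rintro _ ⟨m, hm, rfl⟩
        exact ⟨τ m, hi' m hm, rfl⟩) with hW | hW
      · have h0 : (x : Ext c × U).1.x = 0 := AddSubgroup.mem_bot.1 (hW ▸ (⟨x, hx, rfl⟩ : _ ∈ W))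
        refine Subtype.ext ?_
        rw [hτv, hT]
        refine Prod.ext ?_ (hfix _ ?_)
        · change (⟨lam * (x : Ext c × U).1.x, _⟩ : Ext c) = _
          ext <;> simp [h0]
        · rw [MonoidHom.mem_ker, hMW _ x.2, h0, ofAdd_zero]
      · exfalso
        refine hM' (eq_top_iff.2 fun y _ => ?_)
        have hg' : Good (M'.map M.subtype) := by
          refine ⟨?_, ?_, fun f => ?_⟩
          · rintro _ ⟨m, hm, rfl⟩
            exact ⟨τ m, hi' m hm, rfl⟩
          · rintro _ ⟨m, -, rfl⟩
            exact hMW _ m.2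
          · obtain ⟨m, hm, he⟩ := (hW ▸ AddSubgroup.mem_top f : f ∈ W)
            exact ⟨m, ⟨m, hm, rfl⟩, he⟩
        obtain ⟨m, hm, he⟩ := hMmin hg' (Subgroup.map_subtype_le M') y.2
        exact Subtype.ext he ▸ hm
    have hMcard : Nat.card M ≤ p ^ a₀ := card_le hpq hMp τ hτ1 hτq hτmin ha ha₀ hF hl1 hlq
    let f₁ : M →* Ext c := (MonoidHom.fst _ _).comp M.subtype
    let f₂ : M →* U := (MonoidHom.snd _ _).comp M.subtype
    have hf₁ : Function.Surjective f₁ := by
      rw [← MonoidHom.range_eq_top]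
      refine eq_top_of_proj c hgen _ fun f => ?_
      obtain ⟨w, hw, he⟩ := hMF f
      exact ⟨w.1, ⟨⟨w, hw⟩, rfl⟩, he⟩
    have hf₁b : Function.Bijective f₁ :=
      hf₁.bijective_of_nat_card_le (by rw [hUcard]; exact hMcard)
    let e₁ := MulEquiv.ofBijective f₁ hf₁b
    have hf₂ : Function.Surjective f₂ := by
      rw [← MonoidHom.range_eq_top]
      refine frattini_nongenerating (eq_top_iff.2 fun v _ => ?_)
      obtain ⟨w, hw, he⟩ := hMF (Multiplicative.toAdd (π v))
      have h1 : w.2⁻¹ * v ∈ frattini U := by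
        rw [← hπker, MonoidHom.mem_ker, map_mul, map_inv, hMW w hw, he, ofAdd_toAdd, inv_mul_cancel]
      have h2 : v = w.2 * (w.2⁻¹ * v) := (mul_inv_cancel_left _ _).symm
      rw [h2]
      exact Subgroup.mul_mem_sup ⟨⟨w, hw⟩, rfl⟩ h1
    let φN : Ext c →* U := f₂.comp e₁.symm.toMonoidHom
    have hφπ : ∀ u, π (φN u) = Multiplicative.ofAdd u.x := fun u => by
      change π ((e₁.symm u : M) : Ext c × U).2 = _
      rw [hMW _ (e₁.symm u).2]
      exact congrArg (fun v : Ext c => Multiplicative.ofAdd v.x) (e₁.apply_symm_apply u)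
    have hφσ : ∀ u, φN (σ₀ u) = σ (φN u) := fun u => by
      have h1 : e₁.symm (σ₀ u) = τ (e₁.symm u) := by
        rw [e₁.symm_apply_eq]
        change σ₀ u = σ₀ (f₁ (e₁.symm u))
        rw [show f₁ (e₁.symm u) = u from e₁.apply_symm_apply u]
      change f₂ (e₁.symm (σ₀ u)) = σ (f₂ (e₁.symm u))
      rw [h1]
      rfl
    have hφσn : ∀ (n : ℕ) u, φN ((σ₀ ^ n) u) = (σ ^ n) (φN u) := by
      intro n
      induction n with
      | zero => intro u; rfl
      | succ n ih =>
        intro u
        rw [pow_succ', pow_succ', MulAut.mul_apply, MulAut.mul_apply, hφσ, ih]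
    have hgi : (g ^ i) ^ q ^ r = 1 := by
      rw [← pow_mul, mul_comm, pow_mul, ← hgord, pow_orderOf_eq_one, one_pow]
    have hgiord : orderOf (g ^ i) = q ^ r := by
      rw [orderOf_pow, hgord, (hiq.symm.pow_left r).gcd_eq_one, Nat.div_one]
    let φX : (SemidirectProduct (Ext c) (Multiplicative (ZMod (q ^ r))) φC) →* X := SemidirectProduct.lift (U.subtype.comp φN) (cycHom (q ^ r) (g ^ i) hgi)
      (fun d => MonoidHom.ext fun u => by
        simp only [MonoidHom.comp_apply, MulEquiv.coe_toMonoidHom, MulAut.conj_apply, cycHom_apply]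
        rw [show φC d u = (σ₀ ^ (Multiplicative.toAdd d).val) u from rfl, hφσn, hσ, ← map_pow,
          ← map_pow, Subgroup.coe_subtype, MulAut.conjNormal_apply])
    refine ⟨φX, ?_, ?_⟩
    · rw [← MonoidHom.range_eq_top, eq_top_iff, ← hgtop]
      refine sup_le (fun v hv => ?_) (Subgroup.zpowers_le.2 ?_)
      · obtain ⟨m, hm⟩ := hf₂ ⟨v, hv⟩
        refine ⟨SemidirectProduct.inl (e₁ m), ?_⟩
        change φX (SemidirectProduct.inl (e₁ m)) = v
        rw [SemidirectProduct.lift_inl]
        change ((f₂ (e₁.symm (e₁ m)) : U) : X) = v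
        rw [e₁.symm_apply_apply, hm]
      · obtain ⟨n, hn⟩ := exists_pow_eq_self_of_coprime (x := g) (n := i)
          (by rw [hgord]; exact hiq.pow_right r)
        refine ⟨SemidirectProduct.inr (Multiplicative.ofAdd 1) ^ n, ?_⟩
        haveI : Fact (1 < q ^ r) := ⟨Nat.one_lt_pow (by omega) hq.out.one_lt⟩
        rw [map_pow, SemidirectProduct.lift_inr, cycHom_apply, toAdd_ofAdd, ZMod.val_one, pow_one, hn]
    · intro w hw
      rw [MonoidHom.mem_ker] at hw
      change ((φN w.left : U) : X) * (g ^ i) ^ (Multiplicative.toAdd w.right).val = 1 at hw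
      have h1 : ((φN w.left : U) : X) = ((g ^ i) ^ (Multiplicative.toAdd w.right).val)⁻¹ :=
        eq_inv_of_mul_eq_one_left hw
      have h2 : ((φN w.left : U) : X) = 1 := Subgroup.disjoint_def.1 hgdisj (φN w.left).2
        (h1 ▸ Subgroup.inv_mem _ (Subgroup.pow_mem _ (Subgroup.pow_mem _ (Subgroup.mem_zpowers g) i) _))
      rw [h2, one_mul] at hw
      have hr0 : w.right = 1 := by
        have hd := orderOf_dvd_of_pow_eq_one hw
        rw [hgiord] at hd
        have h3 := Nat.eq_zero_of_dvd_of_lt hd (ZMod.val_lt _)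
        rw [ZMod.val_eq_zero] at h3
        rw [← ofAdd_toAdd w.right, h3, ofAdd_zero]
      have hx0 : w.left.x = 0 := by
        have h3 := hφπ w.left
        rw [show φN w.left = 1 from Subtype.ext h2, map_one] at h3
        exact ofAdd_eq_one.1 h3.symm
      refine Subgroup.mem_center_iff.2 fun v => ?_
      refine SemidirectProduct.ext ?_ ?_
      · simp only [SemidirectProduct.mul_left, hr0, map_one, MulAut.one_apply]
        rw [show φC v.right w.left = w.left from by
          rw [show φC v.right = σ₀ ^ (Multiplicative.toAdd v.right).val from rfl, hσ₀, scale_pow]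
          ext <;> simp [hx0]]
        ext <;> simp [mul_def, hx0, add_comm]
      · simp [SemidirectProduct.mul_right, hr0]

end CfsgLib.Minimal.SchmidtModel
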