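/-
Minimal: the normal Sylow subgroup of a minimal non-nilpotent group.
-/
import Mathlib
import Cfsg.Agent.Lib.SolvableStructure.MinimalNonNilpotent
import Cfsg.Agent.Lib.PGroups.Frattini
import Cfsg.Agent.Lib.Cores.Basic

set_option autoImplicit false
set_option linter.style.haveILetI false

open scoped commutatorElement

namespace CfsgLib.Minimal.SchmidtSylow

/-- What is used of a nonabelian normal Sylow subgroup of a Schmidt group. -/
structure Data (p : ℕ) (P : Type*) [Group P] : Prop where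
  frattini_le : frattini P ≤ Subgroup.center P
  ne_top : Subgroup.center P ≠ ⊤
  camina : ∀ x : P, x ∉ Subgroup.center P → ∀ z ∈ Subgroup.center P, ∃ g : P, ⁅x, g⁆ = z
  small : p ≤ 3 → Nat.card P = p ^ 3 → ∀ V : Subgroup P, Subgroup.center P ≤ V →
    Nat.card V = p ^ 2 → (∀ v ∈ V, v ^ p = 1) → False

theorem Data.of_mulEquiv {p : ℕ} {P R : Type*} [Group P] [Group R] (e : P ≃* R) (h : Data p P) :
    Data p R := by
  have hc : ∀ x : P, e x ∈ Subgroup.center R ↔ x ∈ Subgroup.center P := fun x => by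
    simp only [Subgroup.mem_center_iff]
    refine ⟨fun hx g => e.injective (by simpa using hx (e g)), fun hx g => ?_⟩
    obtain ⟨g, rfl⟩ := e.surjective g
    rw [← map_mul, hx g, map_mul]
  refine ⟨fun y hy => ?_, fun ht => h.ne_top ?_, fun x hx z hz => ?_, fun h3 hcard V hV hVc hVe => ?_⟩
  · obtain ⟨x, rfl⟩ := e.surjective y
    refine (hc x).2 (h.frattini_le ?_)
    have := frattini_le_comap_frattini_of_surjective (φ := e.symm.toMonoidHom) e.symm.surjective hy
    simpa using this
  · rw [eq_top_iff]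
    exact fun x _ => (hc x).1 (ht ▸ Subgroup.mem_top _)
  · obtain ⟨x, rfl⟩ := e.surjective x
    obtain ⟨z, rfl⟩ := e.surjective z
    obtain ⟨g, rfl⟩ := h.camina x (fun h' => hx ((hc x).2 h')) z ((hc z).1 hz)
    exact ⟨e g, (map_commutatorElement e.toMonoidHom x g).symm⟩
  · refine h.small h3 (by rw [Nat.card_congr e.toEquiv, hcard]) (V.comap e.toMonoidHom)
      (fun x hx => hV ((hc x).2 hx)) ?_ (fun v hv => e.injective ?_)
    · rw [← hVc]
      exact Nat.card_congr (e.toEquiv.subtypeEquiv fun _ => Iff.rfl)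
    · rw [map_pow, map_one]; exact hVe _ hv

/-- An automorphism of prime order fixing every proper invariant subgroup pointwise. -/
theorem data_of_aut {P : Type*} [Group P] [Finite P] {p q : ℕ} [hp : Fact p.Prime] (hq : q.Prime)
    (hpq : p ≠ q) (hP : IsPGroup p P) (σ : MulAut P) (hσ : σ ≠ 1) (hσq : σ ^ q = 1)
    (hmin : ∀ M : Subgroup P, M ≠ ⊤ → (∀ x ∈ M, σ x ∈ M) → ∀ x ∈ M, σ x = x)
    (hna : Subgroup.center P ≠ ⊤) : Data p P := by
  classical
  have hco : ∀ x : P, x ^ q = 1 → x = 1 := fun x hx => by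
    obtain ⟨j, hj⟩ := IsPGroup.iff_orderOf.1 hP x
    have h1 := orderOf_dvd_of_pow_eq_one hx
    rw [hj] at h1
    have h2 : p ^ j = 1 := Nat.eq_one_of_dvd_coprimes
      (((Nat.coprime_primes hp.out hq).2 hpq).pow_left j) (dvd_refl _) h1
    exact orderOf_eq_one_iff.1 (hj.trans h2)
  set Z := Subgroup.center P with hZ
  have hZfix : ∀ z ∈ Z, σ z = z := hmin Z hna fun z hz =>
    Subgroup.mem_center_iff.2 fun g => by
      have := congrArg σ (Subgroup.mem_center_iff.1 hz (σ.symm g))
      simpa using this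
  have hpowfix : ∀ x d : P, σ x = x * d → σ d = d → ∀ n : ℕ, (σ ^ n) x = x * d ^ n := by
    intro x d hx hd n
    induction n with
    | zero => simp
    | succ n ih =>
      rw [pow_succ', MulAut.mul_apply, ih, map_mul, map_pow, hd, hx, mul_assoc, ← pow_succ']
  -- the elements `x⁻¹ σ x` generate
  set D := Subgroup.closure (Set.range fun x : P => x⁻¹ * σ x) with hD
  have hDinv : ∀ x ∈ D, σ x ∈ D := by
    intro x hx
    induction hx using Subgroup.closure_induction with
    | mem y hy =>
      obtain ⟨g, rfl⟩ := hy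
      refine Subgroup.subset_closure ⟨σ g, ?_⟩
      simp
    | one => simp
    | mul a b _ _ ha hb => rw [map_mul]; exact D.mul_mem ha hb
    | inv a _ ha => rw [map_inv]; exact D.inv_mem ha
  have hDtop : D = ⊤ := by
    by_contra hne
    refine hσ (MulEquiv.ext fun x => ?_)
    have hd : σ (x⁻¹ * σ x) = x⁻¹ * σ x :=
      hmin D hne hDinv _ (Subgroup.subset_closure ⟨x, rfl⟩)
    have h1 := hpowfix x (x⁻¹ * σ x) (mul_inv_cancel_left x _).symm hd q
    rw [hσq, MulAut.one_apply, left_eq_mul] at h1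
    rw [MulAut.one_apply]
    exact (inv_mul_eq_one.1 (hco _ h1)).symm
  -- invariant proper subgroups containing the derived group are central
  have hcentral : ∀ M : Subgroup P, M ≠ ⊤ → (∀ x ∈ M, σ x ∈ M) → commutator P ≤ M → M ≤ Z := by
    intro M hM hMi hPM c hc
    refine Subgroup.mem_center_iff.2 fun x => ?_
    have hle : D ≤ Subgroup.centralizer ({c} : Set P) := by
      rw [hD, Subgroup.closure_le]
      rintro _ ⟨g, rfl⟩
      rw [SetLike.mem_coe, Subgroup.mem_centralizer_singleton_iff]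
      have h1 : σ ⁅g, c⁆ = ⁅g, c⁆ := hmin M hM hMi _
        (hPM (Subgroup.commutator_mem_commutator (Subgroup.mem_top g) (Subgroup.mem_top c)))
      rw [show σ ⁅g, c⁆ = ⁅σ g, σ c⁆ from map_commutatorElement σ.toMonoidHom g c,
        hmin M hM hMi c hc, commutatorElement_def, commutatorElement_def, mul_left_inj] at h1
      calc g⁻¹ * σ g * c = g⁻¹ * (σ g * c * (σ g)⁻¹) * σ g := by group
        _ = g⁻¹ * (g * c * g⁻¹) * σ g := by rw [h1]
        _ = c * (g⁻¹ * σ g) := by group
    exact Subgroup.mem_centralizer_singleton_iff.1 (hle (hDtop ▸ Subgroup.mem_top x))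
  have hne : Nontrivial P := by
    by_contra h
    rw [not_nontrivial_iff_subsingleton] at h
    exact hσ (MulEquiv.ext fun x => Subsingleton.elim _ _)
  have hΦtop : frattini P ≠ ⊤ := fun h => by
    have h1 : (⊥ : Subgroup P) = ⊤ := frattini_nongenerating (by rw [h, sup_top_eq])
    exact bot_ne_top h1
  have hΦ : frattini P ≤ Z := hcentral _ hΦtop
    (fun x hx => frattini_le_comap_frattini_of_surjective (φ := σ.toMonoidHom) σ.surjective hx)
    (CfsgLib.PGroups.commutator_le_frattini hP)
  have hPZ : commutator P ≤ Z := (CfsgLib.PGroups.commutator_le_frattini hP).trans hΦ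
  have hcm : ∀ a b : P, ⁅a, b⁆ ∈ Z := fun a b =>
    hPZ (Subgroup.commutator_mem_commutator (Subgroup.mem_top a) (Subgroup.mem_top b))
  -- the centre is the derived subgroup
  let θ : P →* Abelianization P :=
    { toFun := fun x => ∏ i ∈ Finset.range q, Abelianization.of ((σ ^ i) x)
      map_one' := by simp
      map_mul' := fun a b => by simp [Finset.prod_mul_distrib] }
  have hθD : D ≤ θ.ker := by
    rw [hD, Subgroup.closure_le]
    rintro _ ⟨g, rfl⟩
    rw [SetLike.mem_coe, MonoidHom.mem_ker, map_mul, map_inv, inv_mul_eq_one]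
    change ∏ i ∈ Finset.range q, Abelianization.of ((σ ^ i) g) =
      ∏ i ∈ Finset.range q, Abelianization.of ((σ ^ i) (σ g))
    have h1 : ∀ i, (σ ^ i) (σ g) = (σ ^ (i + 1)) g := fun i => by
      rw [pow_succ, MulAut.mul_apply]
    simp only [h1]
    obtain ⟨r, hr⟩ : ∃ r, q = r + 1 := ⟨q - 1, by have := hq.pos; omega⟩
    have h0 : (σ ^ (r + 1)) g = (σ ^ 0) g := by rw [← hr, hσq, pow_zero]
    rw [hr, Finset.prod_range_succ' (fun i => Abelianization.of ((σ ^ i) g)),
      Finset.prod_range_succ (fun i => Abelianization.of ((σ ^ (i + 1)) g)), h0]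
  have hZP : Z ≤ commutator P := by
    intro z hz
    have hσz : ∀ i : ℕ, (σ ^ i) z = z := fun i => by
      induction i with
      | zero => simp
      | succ i ih => rw [pow_succ, MulAut.mul_apply, hZfix z hz, ih]
    have h1 : z ∈ θ.ker := hθD (hDtop ▸ Subgroup.mem_top z)
    rw [MonoidHom.mem_ker] at h1
    change ∏ i ∈ Finset.range q, Abelianization.of ((σ ^ i) z) = 1 at h1
    simp only [hσz, Finset.prod_const, Finset.card_range, ← map_pow] at h1
    have hzq : z ^ q ∈ commutator P := (QuotientGroup.eq_one_iff _).1 h1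
    obtain ⟨j, hj⟩ := IsPGroup.iff_orderOf.1 hP z
    have hcp : (orderOf z).Coprime q := hj ▸ ((Nat.coprime_primes hp.out hq).2 hpq).pow_left j
    obtain ⟨a, ha⟩ := exists_pow_eq_self_of_coprime (n := q) hcp.symm
    rw [← ha]
    exact Subgroup.pow_mem _ hzq a
  have hcam : ∀ x : P, x ∉ Z → ∀ z ∈ Z, ∃ g : P, ⁅x, g⁆ = z := by
    intro x hx z hz
    let f : P →* Z :=
      { toFun := fun g => ⟨⁅x, g⁆, hcm x g⟩
        map_one' := Subtype.ext (commutatorElement_one_right x)
        map_mul' := fun a b => Subtype.ext (by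
          change ⁅x, a * b⁆ = ⁅x, a⁆ * ⁅x, b⁆
          have hb := Subgroup.mem_center_iff.1 (hcm x b) a
          simp only [commutatorElement_def] at hb ⊢
          calc x * (a * b) * x⁻¹ * (a * b)⁻¹
              = x * a * x⁻¹ * ((x * b * x⁻¹ * b⁻¹) * a⁻¹) := by group
            _ = x * a * x⁻¹ * (a⁻¹ * (a * (x * b * x⁻¹ * b⁻¹)) * a⁻¹) := by group
            _ = x * a * x⁻¹ * (a⁻¹ * ((x * b * x⁻¹ * b⁻¹) * a) * a⁻¹) := by rw [hb]
            _ = x * a * x⁻¹ * a⁻¹ * (x * b * x⁻¹ * b⁻¹) := by group) }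
    set R := f.range.map Z.subtype with hR
    suffices hZR : Z ≤ R by
      obtain ⟨w, ⟨g, hg⟩, hw⟩ := hZR hz
      exact ⟨g, by rw [← hw, ← hg]; rfl⟩
    have hRZ : R ≤ Z := Subgroup.map_subtype_le _
    have hcmul : ∀ a b g : P, ⁅a * b, g⁆ = ⁅a, g⁆ * ⁅b, g⁆ := fun a b g => by
      have hb := Subgroup.mem_center_iff.1 (hcm b g)
      simp only [commutatorElement_def] at hb ⊢
      calc a * b * g * (a * b)⁻¹ * g⁻¹ = a * (b * g * b⁻¹ * g⁻¹) * (g * a⁻¹ * g⁻¹) := by group
        _ = (b * g * b⁻¹ * g⁻¹) * a * (g * a⁻¹ * g⁻¹) := by rw [hb a]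
        _ = (b * g * b⁻¹ * g⁻¹) * (a * g * a⁻¹ * g⁻¹) := by group
        _ = _ := (hb _).symm
    let RM : Subgroup P :=
      { carrier := {a | ∀ g, ⁅a, g⁆ ∈ R}
        one_mem' := fun g => by rw [commutatorElement_one_left]; exact R.one_mem
        mul_mem' := fun {a b} ha hb g => by rw [hcmul]; exact R.mul_mem (ha g) (hb g)
        inv_mem' := fun {a} ha g => by
          have h := hcmul a⁻¹ a g
          rw [inv_mul_cancel, commutatorElement_one_left] at h
          rw [eq_inv_of_mul_eq_one_left h.symm]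
          exact R.inv_mem (ha g) }
    have hxR : x ∈ RM := fun g => ⟨_, ⟨g, rfl⟩, rfl⟩
    have hRMi : ∀ a ∈ RM, σ a ∈ RM := fun a ha g => by
      have h1 := ha (σ.symm g)
      have h2 : σ ⁅a, σ.symm g⁆ = ⁅σ a, g⁆ :=
        (map_commutatorElement σ.toMonoidHom a (σ.symm g)).trans (by simp)
      rw [← h2, hZfix _ (hRZ h1)]
      exact h1
    by_cases hRM : RM = ⊤
    · refine hZP.trans ?_
      rw [commutator_def, Subgroup.commutator_le]
      exact fun a _ b _ => (hRM ▸ Subgroup.mem_top a : a ∈ RM) b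
    · refine absurd (hcentral RM hRM hRMi (fun c hc g => ?_) hxR) hx
      rw [commutatorElement_eq_one_iff_mul_comm.2 (Subgroup.mem_center_iff.1 (hPZ hc) g).symm]
      exact R.one_mem
  refine ⟨hΦ, hna, hcam, fun h3 hcard V hZV hVc hVe => ?_⟩
  have hsq : ∀ x : P, x ^ p ∈ Z := fun x => hΦ (CfsgLib.PGroups.pow_mem_frattini hP x)
  have hVtop : V ≠ ⊤ := fun h => by
    rw [h, Subgroup.card_top, hcard] at hVc
    have := (Nat.pow_right_injective hp.out.two_le) hVc
    omega
  have hVn : commutator P ≤ V := hPZ.trans hZV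
  have hVnotZ : ¬ V ≤ Z := by
    intro h
    have hidx := Z.card_mul_index
    have hle := Subgroup.card_le_of_le h
    rw [hcard] at hidx
    rw [hVc] at hle
    have hidx1 : Z.index ≠ 1 := fun h' => hna (Subgroup.index_eq_one.1 h')
    have hidxle : Z.index ≤ p := by
      have h4 : p ^ 2 * Z.index ≤ p ^ 2 * p := by
        rw [← pow_succ, ← hidx]; exact Nat.mul_le_mul_right _ hle
      exact Nat.le_of_mul_le_mul_left h4 (pow_pos hp.out.pos 2)
    have hdvd : Z.index ∣ p ^ 3 := ⟨Nat.card Z, by rw [← hidx, mul_comm]⟩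
    obtain ⟨j, hj, hj'⟩ := (Nat.dvd_prime_pow hp.out).1 hdvd
    rw [hj'] at hidxle hidx1
    have hj1 : j = 1 := by
      have h5 : j ≤ 1 := by
        have h6 : p ^ j ≤ p ^ 1 := by rwa [pow_one]
        exact (Nat.pow_le_pow_iff_right hp.out.two_le).1 h6
      rcases Nat.eq_zero_or_pos j with h7 | h7
      · exact absurd (by rw [h7, pow_zero]) hidx1
      · omega
    rw [hj1, pow_one] at hj'
    haveI : IsCyclic (P ⧸ Z) := isCyclic_of_prime_card (p := p) (by rw [← Subgroup.index_eq_card, hj'])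
    refine hna (eq_top_iff.2 fun a _ => Subgroup.mem_center_iff.2 fun b => ?_)
    exact commutative_of_cyclic_center_quotient (QuotientGroup.mk' Z)
      (by rw [QuotientGroup.ker_mk']) b a
  have hVinv : ¬ ∀ x ∈ V, σ x ∈ V := fun h => hVnotZ (hcentral V hVtop h hVn)
  obtain ⟨v, hvV, hσv⟩ : ∃ v ∈ V, σ v ∉ V := by push Not at hVinv; exact hVinv
  have hvZ : v ∉ Z := fun h => hσv (by rw [hZfix v h]; exact hvV)
  haveI hZn : Z.Normal := inferInstance
  have hinvgen : ∀ x : P, (σ x * x⁻¹ ∈ Z ∨ σ x * x ∈ Z) → x ∈ Z := by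
    intro x hx
    set M := Z ⊔ Subgroup.zpowers x with hM
    have hxM : x ∈ M := Subgroup.mem_sup_right (Subgroup.mem_zpowers x)
    have hMi : ∀ a ∈ M, σ a ∈ M := by
      have hle : M ≤ M.comap σ.toMonoidHom := by
        refine sup_le (fun z hz => ?_) (Subgroup.zpowers_le.2 ?_)
        · rw [Subgroup.mem_comap]
          change σ z ∈ M
          rw [hZfix z hz]; exact Subgroup.mem_sup_left hz
        · rw [Subgroup.mem_comap]
          change σ x ∈ M
          rcases hx with h | h
          · simpa using M.mul_mem (Subgroup.mem_sup_left h) hxM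
          · simpa using M.mul_mem (Subgroup.mem_sup_left h) (M.inv_mem hxM)
      exact fun a ha => hle ha
    by_cases hMt : M = ⊤
    · exfalso
      refine hna (eq_top_iff.2 fun a _ => Subgroup.mem_center_iff.2 fun b => ?_)
      obtain ⟨z, hz, _, ⟨i, rfl⟩, rfl⟩ := Subgroup.mem_sup_of_normal_left.1
        (hMt ▸ Subgroup.mem_top a : a ∈ M)
      obtain ⟨z', hz', _, ⟨i', rfl⟩, rfl⟩ := Subgroup.mem_sup_of_normal_left.1
        (hMt ▸ Subgroup.mem_top b : b ∈ M)
      have c1 : ∀ w, Commute z w := fun w => (Subgroup.mem_center_iff.1 hz w).symm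
      have c2 : ∀ w, Commute z' w := fun w => (Subgroup.mem_center_iff.1 hz' w).symm
      exact ((c2 _).mul_left (((c1 _).symm).mul_right (Commute.zpow_zpow_self x i' i))).eq
    · exact hcentral M hMt hMi (hPZ.trans le_sup_left) hxM
  set π := QuotientGroup.mk' Z with hπ
  have hmap : Z.map σ.toMonoidHom = Z := le_antisymm
    (by rintro _ ⟨z, hz, rfl⟩; change σ z ∈ Z; rw [hZfix z hz]; exact hz)
    (fun z hz => ⟨z, hz, hZfix z hz⟩)
  let τ : MulAut (P ⧸ Z) := QuotientGroup.congr Z Z σ hmap
  have hτ : ∀ x : P, τ (π x) = π (σ x) := fun x => rfl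
  have hcard9 : Nat.card (P ⧸ Z) = p ^ 2 := by
    rw [← Subgroup.index_eq_card]
    have hidx := Z.card_mul_index
    rw [hcard] at hidx
    have hZlt : Z < V := lt_of_le_not_ge hZV hVnotZ
    obtain ⟨j, hj, hj'⟩ := (Nat.dvd_prime_pow hp.out).1
      (show Nat.card Z ∣ p ^ 2 from hVc ▸ Subgroup.card_dvd_of_le hZlt.le)
    have hne2 : j ≠ 2 := fun h => hZlt.ne
      (Subgroup.eq_of_le_of_card_ge hZlt.le (by rw [hVc, hj', h]))
    have hne0 : j ≠ 0 := by
      intro h
      rw [h, pow_zero] at hj'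
      have hb := Subgroup.eq_bot_of_card_eq _ hj'
      exact hna (eq_top_iff.2 fun a _ => Subgroup.mem_center_iff.2 fun b => by
        have h6 : ⁅b, a⁆ ∈ (⊥ : Subgroup P) := hb ▸ hcm b a
        exact commutatorElement_eq_one_iff_mul_comm.1 (Subgroup.mem_bot.1 h6))
    rw [hj', show j = 1 by omega, pow_one, pow_succ' p 2] at hidx
    exact Nat.eq_of_mul_eq_mul_left hp.out.pos hidx
  have hτfix : ∀ x, τ x = x → x = 1 := by
    intro x hx
    obtain ⟨a, rfl⟩ := QuotientGroup.mk'_surjective Z x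
    refine (QuotientGroup.eq_one_iff a).2 (hinvgen a (Or.inl ?_))
    rw [hτ, ← mul_inv_eq_one, ← map_inv, ← map_mul] at hx
    exact (QuotientGroup.eq_one_iff _).1 hx
  have hτq : τ ^ q = 1 := by
    have h : ∀ (n : ℕ) (a : P), (τ ^ n) (π a) = π ((σ ^ n) a) := by
      intro n
      induction n with
      | zero => intro a; rfl
      | succ n ih => intro a; rw [pow_succ, MulAut.mul_apply, hτ, ih, pow_succ, MulAut.mul_apply]
    ext x
    obtain ⟨a, rfl⟩ := QuotientGroup.mk'_surjective Z x
    rw [h, hσq]; rfl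
  -- count fixed points of `τ` on `P/Z`
  haveI : Fact q.Prime := ⟨hq⟩
  have hGq : IsPGroup q (Subgroup.zpowers τ) := by
    rcases hq.eq_one_or_self_of_dvd _ (orderOf_dvd_of_pow_eq_one hτq) with h | h
    · exact IsPGroup.of_card (n := 0) (by rw [Nat.card_zpowers, h, pow_zero])
    · exact IsPGroup.of_card (n := 1) (by rw [Nat.card_zpowers, h, pow_one])
  letI : MulAction (Subgroup.zpowers τ) (P ⧸ Z) :=
    { smul := fun g x => (g : MulAut (P ⧸ Z)) x
      one_smul := fun x => rfl
      mul_smul := fun g g' x => rfl }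
  have hmod := hGq.card_modEq_card_fixedPoints (P ⧸ Z)
  have hfixset : Nat.card (MulAction.fixedPoints (Subgroup.zpowers τ) (P ⧸ Z)) = 1 := by
    rw [Nat.card_eq_one_iff_unique]
    refine ⟨⟨fun a b => Subtype.ext ?_⟩, ⟨⟨1, fun g => map_one (g : MulAut (P ⧸ Z))⟩⟩⟩
    rw [hτfix a (a.2 ⟨τ, Subgroup.mem_zpowers τ⟩), hτfix b (b.2 ⟨τ, Subgroup.mem_zpowers τ⟩)]
  rw [hfixset, hcard9] at hmod
  rcases (show p = 2 ∨ p = 3 by have := hp.out.two_le; omega) with rfl | rfl
  · -- `p = 2`: the three involution cosets are permuted, so `P` would be abelian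
    have hq3 : q = 3 := by
      have h1 : q ∣ 3 := by
        have := (Nat.modEq_iff_dvd' (by norm_num)).1 hmod.symm
        simpa using this
      exact ((Nat.prime_dvd_prime_iff_eq hq Nat.prime_three).1 h1)
    set w := σ v with hw
    have hv2 : v * v = 1 := by rw [← pow_two]; exact hVe v hvV
    have hw2 : w * w = 1 := by rw [hw, ← map_mul, hv2, map_one]
    have hall : ∀ y : P ⧸ Z, y = 1 ∨ y = π v ∨ y = π w ∨ y = π (v * w) := by
      have hne1 : π v ≠ 1 := fun h => hvZ ((QuotientGroup.eq_one_iff v).1 h)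
      have hne2 : π w ≠ 1 := fun h => hσv (hZV ((QuotientGroup.eq_one_iff w).1 h))
      have hne3 : π v ≠ π w := fun h => hσv (by
        have h1 : v⁻¹ * w ∈ Z := QuotientGroup.eq.1 h
        simpa using V.mul_mem hvV (hZV h1))
      have hsq' : ∀ y : P ⧸ Z, y * y = 1 := fun y => by
        obtain ⟨a, rfl⟩ := QuotientGroup.mk'_surjective Z y
        rw [← map_mul, ← pow_two]
        exact (QuotientGroup.eq_one_iff _).2 (hsq a)
      intro y
      haveI := Fintype.ofFinite (P ⧸ Z)
      have hS : ({1, π v, π w, π (v * w)} : Finset (P ⧸ Z)) = Finset.univ := by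
        apply Finset.eq_univ_of_card
        rw [← Nat.card_eq_fintype_card, hcard9]
        rw [Finset.card_insert_of_notMem, Finset.card_insert_of_notMem,
          Finset.card_insert_of_notMem, Finset.card_singleton]
        · rfl
        · rw [Finset.mem_singleton, map_mul]
          exact fun h => hne1 (mul_eq_right.1 h.symm)
        · simp only [Finset.mem_insert, Finset.mem_singleton, not_or]
          exact ⟨hne3, fun h => hne2 (by rw [map_mul] at h; exact mul_eq_left.1 h.symm)⟩
        · simp only [Finset.mem_insert, Finset.mem_singleton, not_or]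
          refine ⟨Ne.symm hne1, Ne.symm hne2, fun h => hne3 ?_⟩
          rw [map_mul] at h
          calc π v = π v * (π w * π w) := by rw [hsq', mul_one]
            _ = π w := by rw [← mul_assoc, ← h, one_mul]
      have := Finset.mem_univ y
      rw [← hS] at this
      simpa using this
    have h3q : τ (τ (τ (π v))) = π v := by
      have h4 := congrArg (fun f : MulAut (P ⧸ Z) => f (π v)) hτq
      simpa [hq3, pow_succ, MulAut.mul_apply] using h4
    have hvw : (v * w) * (v * w) = 1 := by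
      rcases hall (π (σ w)) with h | h | h | h
      · exfalso
        have h5 := hinvgen w (Or.inl ?_)
        · exact hσv (hZV h5)
        · have h6 : σ w ∈ Z := (QuotientGroup.eq_one_iff _).1 h
          have h7 : τ (π w) = τ 1 := by rw [map_one, hτ]; exact h
          have h8 : w ∈ Z := (QuotientGroup.eq_one_iff _).1 (τ.injective h7)
          exact Z.mul_mem h6 (Z.inv_mem h8)
      · exfalso
        rw [hτ, ← hw, hτ, h, hτ, ← hw] at h3q
        exact hσv (by
          have h1 : w⁻¹ * v ∈ Z := QuotientGroup.eq.1 h3q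
          simpa using V.mul_mem hvV (V.inv_mem (hZV h1)))
      · exfalso
        refine hσv (hZV (hinvgen w (Or.inl ?_)))
        rw [← mul_inv_eq_one, ← map_inv, ← map_mul] at h
        exact (QuotientGroup.eq_one_iff _).1 h
      · have h1 : (σ w)⁻¹ * (v * w) ∈ Z := QuotientGroup.eq.1 h
        have hvw' : v * w = σ w * ((σ w)⁻¹ * (v * w)) := (mul_inv_cancel_left _ _).symm
        set z := (σ w)⁻¹ * (v * w)
        have hz2 : z * z = 1 := by rw [← pow_two]; exact hVe z (hZV h1)
        rw [hvw']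
        calc σ w * z * (σ w * z) = σ w * (z * σ w) * z := by group
          _ = σ w * (σ w * z) * z := by rw [← Subgroup.mem_center_iff.1 h1 (σ w)]
          _ = σ w * σ w * (z * z) := by group
          _ = 1 := by rw [← map_mul, hw2, map_one, hz2, one_mul]
    have hcomm : v * w = w * v := by
      calc v * w = (v * w)⁻¹ := eq_inv_of_mul_eq_one_left hvw
        _ = w * v := by
          rw [mul_inv_rev, inv_eq_of_mul_eq_one_right hv2, inv_eq_of_mul_eq_one_right hw2]
    refine hvZ (Subgroup.mem_center_iff.2 fun g => ?_)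
    have hg : ∃ z ∈ Z, ∃ u, (u = 1 ∨ u = v ∨ u = w ∨ u = v * w) ∧ g = u * z := by
      rcases hall (π g) with h | h | h | h
      · exact ⟨g, (QuotientGroup.eq_one_iff g).1 h, 1, Or.inl rfl, (one_mul g).symm⟩
      · exact ⟨v⁻¹ * g, QuotientGroup.eq.1 h.symm, v, by simp, (mul_inv_cancel_left v g).symm⟩
      · exact ⟨w⁻¹ * g, QuotientGroup.eq.1 h.symm, w, by simp, (mul_inv_cancel_left w g).symm⟩
      · exact ⟨(v * w)⁻¹ * g, QuotientGroup.eq.1 h.symm, v * w, by simp,
          (mul_inv_cancel_left (v * w) g).symm⟩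
    obtain ⟨z, hz, u, hu, rfl⟩ := hg
    have hvu : Commute v u := by
      rcases hu with rfl | rfl | rfl | rfl
      · exact Commute.one_right v
      · exact Commute.refl _
      · exact hcomm
      · exact (Commute.refl v).mul_right hcomm
    exact (hvu.mul_right (Subgroup.mem_center_iff.1 hz v)).eq.symm
  · -- `p = 3`: `q = 2`, so `τ` inverts `P/Z`
    have hq2 : q = 2 := by
      have h1 : q ∣ 2 ^ 3 := by
        have := (Nat.modEq_iff_dvd' (by norm_num)).1 hmod.symm
        simpa using this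
      exact (Nat.prime_dvd_prime_iff_eq hq Nat.prime_two).1 (hq.dvd_of_dvd_pow h1)
    set u := σ v * v with hu
    have hσ2 : σ (σ v) = v := by
      have h4 := congrArg (fun f : MulAut P => f v) hσq
      simpa [hq2, pow_succ, MulAut.mul_apply] using h4
    have huZ : u ∈ Z := hinvgen u (Or.inl (by
      rw [hu, map_mul, hσ2]
      have := hcm v (σ v)
      rw [commutatorElement_def] at this
      simpa [mul_assoc] using this))
    exact hσv (by
      have := V.mul_mem (hZV huZ) (V.inv_mem hvV)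
      simpa [hu] using this)

/-- The normal Sylow subgroup of a minimal non-nilpotent group is abelian or has `Data`. -/
theorem data_of_schmidt {X : Type*} [Group X] [Finite X] (hX : Cfsg.IsMinimalNonNilpotent X)
    {p : ℕ} [hp : Fact p.Prime] (P : Sylow p X) (hPn : (P : Subgroup X).Normal)
    (hP1 : (P : Subgroup X) ≠ ⊥) :
    Subgroup.center (P : Subgroup X) = ⊤ ∨ Data p (P : Subgroup X) := by
  obtain ⟨a, b, ha, hb, hab, A, B, hAc, hBn, htop, hnc⟩ := CfsgLib.SolvableStructure.schmidt hX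
  haveI := Fact.mk ha
  haveI := Fact.mk hb
  have hpb : p = b := by
    by_contra hne
    -- then `P ≤ A`, so `p = a` and both Sylow subgroups are normal
    have hpa : p = a := by
      by_contra hne'
      obtain ⟨n, hn⟩ := IsPGroup.iff_card.1 P.isPGroup'
      have hn0 : n ≠ 0 := by
        intro h0
        rw [h0, pow_zero] at hn
        exact hP1 (Subgroup.eq_bot_of_card_eq _ hn)
      have h1 : p ∣ Nat.card ((A : Subgroup X) ⊔ B : Subgroup X) := by
        rw [htop, Subgroup.card_top]
        exact dvd_trans (hn ▸ dvd_pow_self p hn0) (Subgroup.card_subgroup_dvd_card _)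
      have h2 : Nat.card ((A : Subgroup X) ⊔ B : Subgroup X) ∣
          Nat.card (A : Subgroup X) * Nat.card (B : Subgroup X) := by
        haveI := hBn
        exact CfsgLib.Cores.card_sup_dvd (A : Subgroup X) (B : Subgroup X)
      obtain ⟨i, hi⟩ := IsPGroup.iff_card.1 A.isPGroup'
      obtain ⟨j, hj⟩ := IsPGroup.iff_card.1 B.isPGroup'
      rcases hp.out.dvd_mul.1 (h1.trans h2) with h | h
      · rw [hi] at h
        exact hne' ((Nat.prime_dvd_prime_iff_eq hp.out ha).1 (hp.out.dvd_of_dvd_pow h))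
      · rw [hj] at h
        exact hne ((Nat.prime_dvd_prime_iff_eq hp.out hb).1 (hp.out.dvd_of_dvd_pow h))
    subst hpa
    haveI := hPn
    haveI := Sylow.unique_of_normal P hPn
    have hAn : (A : Subgroup X).Normal := (Subsingleton.elim P A) ▸ hPn
    refine hnc fun x hx => Subgroup.mem_centralizer_iff.2 fun y hy => ?_
    exact (Subgroup.commute_of_normal_of_disjoint _ _ hAn hBn
      (IsPGroup.disjoint_of_ne p b hab _ _ A.isPGroup' B.isPGroup') x y hx hy).symm
  subst hpb
  haveI := hPn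
  haveI := Sylow.unique_of_normal P hPn
  have hBP : B = P := Subsingleton.elim _ _
  subst hBP
  by_cases hcomm : Subgroup.center (B : Subgroup X) = ⊤
  · exact Or.inl hcomm
  right
  obtain ⟨y, hyA, hy⟩ : ∃ y ∈ (A : Subgroup X), (A : Subgroup X) = Subgroup.zpowers y := by
    obtain ⟨⟨y, hyA⟩, hgen⟩ := hAc.exists_generator
    refine ⟨y, hyA, le_antisymm (fun x hx => ?_) (Subgroup.zpowers_le.2 hyA)⟩
    obtain ⟨i, hi⟩ := Subgroup.mem_zpowers_iff.1 (hgen ⟨x, hx⟩)
    exact Subgroup.mem_zpowers_iff.2 ⟨i, by simpa using congrArg Subtype.val hi⟩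
  obtain ⟨i, hi⟩ := IsPGroup.iff_orderOf.1 A.isPGroup' ⟨y, hyA⟩
  rw [Subgroup.orderOf_mk] at hi
  let σ : MulAut (B : Subgroup X) := MulAut.conjNormal y
  have hσv : ∀ x : (B : Subgroup X), ((σ x : (B : Subgroup X)) : X) = y * x * y⁻¹ := fun x => rfl
  have hdis : Disjoint (A : Subgroup X) (B : Subgroup X) :=
    IsPGroup.disjoint_of_ne a p hab _ _ A.isPGroup' B.isPGroup'
  have hcom : ∀ (D : Subgroup X), D ≠ ⊤ → ∀ u ∈ D, (∃ k, orderOf u = a ^ k) →
      ∀ x : (B : Subgroup X), (x : X) ∈ D → u * x = x * u := by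
    intro D hD u hu ⟨k, hk⟩ x hx
    obtain ⟨j, hj⟩ := IsPGroup.iff_orderOf.1 B.isPGroup' x
    exact CfsgLib.SolvableStructure.commute_of_isNilpotent (hX.2 D hD) hab hu hx hk
      (by rw [← hj, Subgroup.orderOf_coe])
  refine data_of_aut ha hab.symm B.isPGroup' σ ?_ ?_ ?_ hcomm
  · intro h
    refine hnc (hy ▸ Subgroup.zpowers_le.2 (Subgroup.mem_centralizer_iff.2 fun x hx => ?_))
    have h0 := DFunLike.congr_fun h (⟨x, hx⟩ : ↥(B : Subgroup X))
    rw [MulAut.one_apply] at h0
    have h1 : y * x * y⁻¹ = x := congrArg Subtype.val h0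
    exact (mul_inv_eq_iff_eq_mul.1 h1).symm
  · -- `y ^ a` centralises `B`
    set u := y ^ a with hu
    set D := Subgroup.zpowers u ⊔ (B : Subgroup X) with hD
    have hDtop : D ≠ ⊤ := by
      intro h
      obtain ⟨_, ⟨j, rfl⟩, x, hx, he⟩ := Subgroup.mem_sup_of_normal_right.1
        (h ▸ Subgroup.mem_top y : y ∈ D)
      have hxA : x ∈ (A : Subgroup X) := by
        have : x = (u ^ j)⁻¹ * y := by rw [← he]; group
        rw [this]
        exact (A : Subgroup X).mul_mem ((A : Subgroup X).inv_mem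
          ((A : Subgroup X).zpow_mem ((A : Subgroup X).pow_mem hyA a) j)) hyA
      rw [Subgroup.disjoint_def] at hdis
      have hy' : y ∈ Subgroup.zpowers u :=
        ⟨j, by rw [← he, hdis hxA hx, mul_one]⟩
      have h1 : orderOf y ≤ orderOf u := by
        rw [← Nat.card_zpowers, ← Nat.card_zpowers]
        exact Subgroup.card_le_of_le (Subgroup.zpowers_le.2 hy')
      rcases Nat.eq_zero_or_pos i with hi0 | hi0
      · rw [hi0, pow_zero] at hi
        refine hnc ?_
        rw [hy, orderOf_eq_one_iff.1 hi, Subgroup.zpowers_one_eq_bot]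
        exact bot_le
      · rw [hu, orderOf_pow, hi] at h1
        have hg : Nat.gcd (a ^ i) a = a := Nat.gcd_eq_right (dvd_pow_self a (by omega))
        rw [hg] at h1
        exact absurd h1 (not_le.2 (Nat.div_lt_self (pow_pos ha.pos i) ha.one_lt))
    ext x
    rw [MulAut.one_apply, show σ ^ a = MulAut.conjNormal u from (map_pow _ y a).symm,
      MulAut.conjNormal_apply]
    obtain ⟨k, -, hk⟩ := (Nat.dvd_prime_pow ha).1 (hi ▸ orderOf_pow_dvd a : orderOf u ∣ a ^ i)
    rw [hcom D hDtop u (Subgroup.mem_sup_left (Subgroup.mem_zpowers u)) ⟨k, hk⟩ x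
      (Subgroup.mem_sup_right x.2), mul_inv_cancel_right]
  · intro M hM hMi x hx
    set M' := M.map (B : Subgroup X).subtype with hM'
    set D := M' ⊔ Subgroup.zpowers y with hD
    have hnorm : Subgroup.zpowers y ≤ Subgroup.normalizer (M' : Set X) := by
      rw [Subgroup.zpowers_le]
      refine CfsgLib.CoprimeAction.mem_normalizer_of_conj_mem ?_
      rintro _ ⟨m, hm, rfl⟩
      exact ⟨σ m, hMi m hm, rfl⟩
    have hDtop : D ≠ ⊤ := by
      intro h
      refine hM (eq_top_iff.2 fun m _ => ?_)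
      have hm' : (m : X) ∈ M' ⊔ Subgroup.zpowers y := by
        rw [← hD, h]; exact Subgroup.mem_top _
      rw [← SetLike.mem_coe, Subgroup.coe_mul_of_right_le_normalizer_left _ _ hnorm] at hm'
      obtain ⟨_, ⟨m', hm', rfl⟩, t, ht, he⟩ := hm'
      have htB : t ∈ (B : Subgroup X) := by
        have : t = (m' : X)⁻¹ * m := by rw [← he]; simp
        rw [this]
        exact (B : Subgroup X).mul_mem ((B : Subgroup X).inv_mem m'.2) m.2
      rw [Subgroup.disjoint_def] at hdis
      have : t = 1 := hdis (hy ▸ ht) htB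
      rw [show m = m' from Subtype.ext (by simpa [this] using he.symm)]
      exact hm'
    refine Subtype.ext ?_
    rw [hσv, hcom D hDtop y (Subgroup.mem_sup_right (Subgroup.mem_zpowers y)) ⟨i, hi⟩ x
      (Subgroup.mem_sup_left ⟨x, hx, rfl⟩), mul_inv_cancel_right]

end CfsgLib.Minimal.SchmidtSylow
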