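/-
Minimal: a p-solvable group with Sylow p-subgroup of Schmidt type has p-length one.
-/
import Cfsg.Agent.Lib.Minimal.SchmidtSylow
import Cfsg.Agent.Lib.PSolvable.Series
import Cfsg.Agent.Lib.CoprimeAction.Abelian
import Cfsg.Agent.Lib.Minimal.CentralPairs

set_option autoImplicit false
set_option linter.style.haveILetI false

open scoped commutatorElement

namespace CfsgLib.Minimal.SchmidtPLength

open Cfsg CfsgLib.Cores CfsgLib.Minimal.SchmidtSylow

/-- An element fixing `D` pointwise and `A` modulo `D` has its `n`-th power fixing `A`, when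
`d ^ n = 1` on `D`. -/
theorem pow_fix {H : Type*} [Group H] {A D : Subgroup H} {n : ℕ} (hDn : ∀ d ∈ D, d ^ n = 1) {c : H}
    (hD : ∀ d ∈ D, c * d * c⁻¹ = d) (hA : ∀ a ∈ A, a⁻¹ * (c * a * c⁻¹) ∈ D) :
    ∀ a ∈ A, c ^ n * a * (c ^ n)⁻¹ = a := by
  intro a ha
  set d := a⁻¹ * (c * a * c⁻¹) with hd
  have hk : ∀ k : ℕ, c ^ k * a * (c ^ k)⁻¹ = a * d ^ k := by
    intro k
    induction k with
    | zero => simp
    | succ k ih =>
      calc c ^ (k + 1) * a * (c ^ (k + 1))⁻¹ = c * (c ^ k * a * (c ^ k)⁻¹) * c⁻¹ := by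
            rw [pow_succ']; group
        _ = (c * a * c⁻¹) * (c * d ^ k * c⁻¹) := by rw [ih]; group
        _ = a * d ^ (k + 1) := by
            have h2 : c * a * c⁻¹ = a * d := (mul_inv_cancel_left a _).symm
            rw [hD _ (D.pow_mem (hA a ha) k)]
            generalize d = e at h2 ⊢
            rw [h2, mul_assoc, inv_mul_cancel_left, ← pow_succ']
  rw [hk n, hDn d (hA a ha), mul_one]

/-- The centralizer of `O_{p'}` has order prime to `p` when `O_p = 1`. -/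
theorem not_dvd_centralizer_pPrimeCore {Γ : Type*} [Group Γ] [Finite Γ] {p : ℕ}
    [hp : Fact p.Prime] (hΓ : IsPSolvable p Γ) (hO : pCore p Γ = ⊥) :
    ¬ p ∣ Nat.card (Subgroup.centralizer (pPrimeCore p Γ : Set Γ)) := by
  set C := Subgroup.centralizer (pPrimeCore p Γ : Set Γ) with hC
  haveI hCn : C.Normal := inferInstance
  intro hdvd
  have hsol : IsPSolvable p C := CfsgLib.PSolvable.isPSolvable_subgroup hΓ C
  set Z0 := pPrimeCore p C with hZ0
  have hOC : pCore p C = ⊥ := by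
    have h := map_subtype_pCore_le (p := p) hCn.isSubnormal
    rwa [hO, le_bot_iff, Subgroup.map_eq_bot_iff_of_injective _ C.subtype_injective] at h
  have hZc : Z0 ≤ Subgroup.center C := by
    intro z hz
    refine Subgroup.mem_center_iff.2 fun g => Subtype.ext ?_
    have hzK : (z : Γ) ∈ pPrimeCore p Γ :=
      map_subtype_pPrimeCore_le hCn.isSubnormal ⟨z, hz, rfl⟩
    exact (Subgroup.mem_centralizer_iff.1 g.2 _ hzK).symm
  have hZ0top : Z0 ≠ ⊤ := fun h => by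
    have := not_dvd_card_pPrimeCore (G := C) (p := p)
    rw [← hZ0, h, Subgroup.card_top] at this
    exact this hdvd
  rcases CfsgLib.PSolvable.core_quotient_ne_bot hsol Z0 hZ0top with h | h
  · set R := pCore p (C ⧸ Z0) with hR
    set D := R.comap (QuotientGroup.mk' Z0) with hD
    haveI : Group.IsNilpotent R := (isPGroup_pCore p (C ⧸ Z0)).isNilpotent
    have hDnil : Group.IsNilpotent D := by
      refine Subgroup.isNilpotent_of_ker_le_center ((QuotientGroup.mk' Z0).subgroupComap R) ?_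
      intro d hd
      have hd' : (d : C) ∈ Z0 := by
        rw [MonoidHom.mem_ker] at hd
        exact (QuotientGroup.eq_one_iff _).1 (congrArg Subtype.val hd)
      exact Subgroup.mem_center_iff.2 fun g => Subtype.ext (Subgroup.mem_center_iff.1 (hZc hd') g)
    haveI := hDnil
    let S : Sylow p D := default
    haveI hSn : (S : Subgroup D).Normal := inferInstance
    haveI := S.characteristic_of_normal hSn
    haveI : ((S : Subgroup D).map D.subtype).Normal := ConjAct.normal_of_characteristic_of_normal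
    have hb : (S : Subgroup D).map D.subtype = ⊥ :=
      le_bot_iff.1 (hOC ▸ le_pCore (S.isPGroup'.map _))
    rw [Subgroup.map_eq_bot_iff_of_injective _ D.subtype_injective] at hb
    refine S.ne_bot_of_dvd_card ?_ hb
    obtain ⟨n, hn⟩ := IsPGroup.iff_card.1 (isPGroup_pCore p (C ⧸ Z0))
    have hn0 : n ≠ 0 := fun h0 => h (Subgroup.eq_bot_of_card_eq _ (by rw [hn, h0, pow_zero]))
    rw [hD, card_comap_mk']
    exact dvd_mul_of_dvd_right (hn ▸ dvd_pow_self p hn0) _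
  · exact h (pPrimeCore_quotient_pPrimeCore p)

/-- A hyperplane of an elementary abelian coprime operator group with larger centralizer. -/
theorem exists_hyperplane {Γ : Type*} [Group Γ] [Finite Γ] {p : ℕ} [hp : Fact p.Prime]
    (A K : Subgroup Γ) (hAc : ∀ a ∈ A, ∀ b ∈ A, a * b = b * a) (hAp : ∀ a ∈ A, a ^ p = 1)
    (hAK : A ≤ Subgroup.normalizer (K : Set Γ)) (hcop : (Nat.card A).Coprime (Nat.card K))
    (hnc : ¬ A ≤ Subgroup.centralizer (K : Set Γ)) :
    ∃ B ≤ A, ∃ a ∈ A, a ∉ B ∧ A ≤ B ⊔ Subgroup.zpowers a ∧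
      ∃ l ∈ K, (∀ b ∈ B, b * l = l * b) ∧ a * l ≠ l * a := by
  obtain ⟨B, ⟨hBA, hB⟩, hmax⟩ := Set.Finite.exists_maximal
    (s := {B : Subgroup Γ | B ≤ A ∧
      ¬ K ⊓ Subgroup.centralizer (B : Set Γ) ≤ Subgroup.centralizer (A : Set Γ)}) (Set.toFinite _)
    ⟨⊥, bot_le, fun h => hnc (Subgroup.le_centralizer_iff.1 fun k hk =>
      h ⟨hk, Subgroup.mem_centralizer_iff.2 fun y hy => by
        rw [SetLike.mem_coe, Subgroup.mem_bot] at hy; simp [hy]⟩)⟩
  have hbig : ∀ z ∈ A, z ∉ B → ∀ k ∈ K ⊓ Subgroup.centralizer (B : Set Γ), z * k = k * z →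
      k ∈ Subgroup.centralizer (A : Set Γ) := by
    intro z hzA hzB k hk hzk
    by_contra hk'
    have hlt : B ⊔ Subgroup.zpowers z ∈ {B : Subgroup Γ | B ≤ A ∧
        ¬ K ⊓ Subgroup.centralizer (B : Set Γ) ≤ Subgroup.centralizer (A : Set Γ)} := by
      refine ⟨sup_le hBA (Subgroup.zpowers_le.2 hzA), fun h => hk' (h ⟨hk.1, ?_⟩)⟩
      refine Subgroup.le_centralizer_iff.1 ?_ (Subgroup.mem_zpowers k)
      refine sup_le ?_ (Subgroup.zpowers_le.2 ?_)
      · exact Subgroup.le_centralizer_iff.1 (Subgroup.zpowers_le.2 hk.2)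
      · refine Subgroup.mem_centralizer_iff.2 fun y hy => ?_
        obtain ⟨i, rfl⟩ := Subgroup.mem_zpowers_iff.1 hy
        exact ((show Commute k z from hzk.symm).zpow_left i).eq
    exact hzB (hmax hlt le_sup_left (Subgroup.mem_sup_right (Subgroup.mem_zpowers z)))
  have hne : B ≠ A := fun h => hB (h ▸ inf_le_right)
  obtain ⟨a, haA, haB⟩ := SetLike.exists_of_lt (lt_of_le_of_ne hBA hne)
  obtain ⟨l, hl, hl'⟩ := SetLike.not_le_iff_exists.1 hB
  have hal : a * l ≠ l * a := fun h => hl' (hbig a haA haB l hl h)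
  refine ⟨B, hBA, a, haA, haB, ?_, l, hl.1,
    fun b hb => Subgroup.mem_centralizer_iff.1 hl.2 b hb, hal⟩
  by_contra hc
  obtain ⟨c, hcA, hc⟩ := SetLike.not_le_iff_exists.1 hc
  set A' := Subgroup.zpowers a ⊔ Subgroup.zpowers c with hA'
  have hA'A : A' ≤ A := sup_le (Subgroup.zpowers_le.2 haA) (Subgroup.zpowers_le.2 hcA)
  haveI : IsMulCommutative A' := ⟨⟨fun u v => Subtype.ext (hAc _ (hA'A u.2) _ (hA'A v.2))⟩⟩
  have ha1 : a ≠ 1 := fun h => haB (h ▸ B.one_mem)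
  have hoa : orderOf a = p := orderOf_eq_prime (hAp a haA) ha1
  have hncyc : ¬ IsCyclic A' := by
    intro hcyc
    obtain ⟨g, hg⟩ := hcyc.exists_generator
    have hle : Nat.card A' ≤ p := by
      rw [← orderOf_eq_card_of_forall_mem_zpowers hg]
      exact Nat.le_of_dvd hp.out.pos (orderOf_dvd_of_pow_eq_one (Subtype.ext (hAp _ (hA'A g.2))))
    have heq : Subgroup.zpowers a = A' :=
      Subgroup.eq_of_le_of_card_ge le_sup_left (by rw [Nat.card_zpowers, hoa]; exact hle)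
    exact hc (Subgroup.mem_sup_right (heq.ge (Subgroup.mem_sup_right (Subgroup.mem_zpowers c))))
  have hA'K : A' ≤ Subgroup.normalizer
      ((K ⊓ Subgroup.centralizer (B : Set Γ) : Subgroup Γ) : Set Γ) := by
    intro g hg
    refine CfsgLib.CoprimeAction.mem_normalizer_of_conj_mem fun k hk => ⟨?_, ?_⟩
    · exact (Subgroup.mem_normalizer_iff.1 (hAK (hA'A hg)) k).1 hk.1
    · refine Subgroup.mem_centralizer_iff.2 fun b hb => ?_
      have hgb : Commute g b := hAc g (hA'A hg) b (hBA hb)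
      have hkb : Commute k b := (Subgroup.mem_centralizer_iff.1 hk.2 b hb).symm
      exact ((hgb.mul_left hkb).mul_left hgb.inv_left).eq.symm
  have hnorm : Subgroup.zpowers a ≤
      Subgroup.normalizer ((Subgroup.zpowers c : Subgroup Γ) : Set Γ) := by
    refine le_trans ?_ (Subgroup.centralizer_le_normalizer _)
    refine Subgroup.zpowers_le.2 (Subgroup.mem_centralizer_iff.2 fun y hy => ?_)
    obtain ⟨i, rfl⟩ := Subgroup.mem_zpowers_iff.1 hy
    exact hAc _ (A.zpow_mem hcA i) a haA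
  have hK'C := CfsgLib.CoprimeAction.le_of_centralizers hncyc hA'K
    (Nat.Coprime.coprime_dvd_left (Subgroup.card_dvd_of_le hA'A)
      (hcop.coprime_dvd_right (Subgroup.card_dvd_of_le inf_le_left)))
    (H := Subgroup.centralizer (A : Set Γ)) (fun z hz hz1 k hk => ?_)
  · exact hl' (hK'C hl)
  refine hbig z (hA'A hz) (fun hzB => hz1 ?_) k hk.1
    (Subgroup.mem_centralizer_singleton_iff.1 hk.2).symm
  obtain ⟨_, ⟨i, rfl⟩, _, ⟨j, rfl⟩, rfl⟩ : ∃ u ∈ Subgroup.zpowers a,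
      ∃ v ∈ Subgroup.zpowers c, u * v = z := by
    rw [hA', ← SetLike.mem_coe, Subgroup.coe_mul_of_left_le_normalizer_right _ _ hnorm] at hz
    exact hz
  have hj : c ^ j = 1 := by
    by_contra hj
    have hoj : orderOf (c ^ j) = p := orderOf_eq_prime (hAp _ (A.zpow_mem hcA j)) hj
    have hc1 : c ≠ 1 := fun h => hj (by rw [h, one_zpow])
    have heq : Subgroup.zpowers (c ^ j) = Subgroup.zpowers c :=
      Subgroup.eq_of_le_of_card_ge (Subgroup.zpowers_le.2 (Subgroup.zpow_mem_zpowers c j))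
        (by rw [Nat.card_zpowers, Nat.card_zpowers, hoj, orderOf_eq_prime (hAp c hcA) hc1])
    have hmem : c ^ j ∈ B ⊔ Subgroup.zpowers a := by
      have h1 := Subgroup.mul_mem _
        (Subgroup.inv_mem _ (Subgroup.mem_sup_right (S := B) (Subgroup.zpow_mem_zpowers a i)))
        (Subgroup.mem_sup_left (T := Subgroup.zpowers a) hzB)
      simpa [mul_assoc] using h1
    exact hc (Subgroup.zpowers_le.2 hmem (heq.ge (Subgroup.mem_zpowers c)))
  simp only [hj, mul_one] at hzB ⊢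
  by_contra hi
  have hoi : orderOf (a ^ i) = p := orderOf_eq_prime (hAp _ (A.zpow_mem haA i)) hi
  have heq : Subgroup.zpowers (a ^ i) = Subgroup.zpowers a :=
    Subgroup.eq_of_le_of_card_ge (Subgroup.zpowers_le.2 (Subgroup.zpow_mem_zpowers a i))
      (by rw [Nat.card_zpowers, Nat.card_zpowers, hoi, hoa])
  exact haB (Subgroup.zpowers_le.2 hzB (heq.ge (Subgroup.mem_zpowers a)))

/-- The torus computation in `SL(2,p)`. -/
theorem conj_eq_pow_four {V : Type*} [CommGroup V] {p : ℕ} (hV : ∀ v : V, v ^ p = 1) {e1 e2 : V}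
    (hgen : ∀ v : V, ∃ i j : ℤ, v = e1 ^ i * e2 ^ j) (X Y : MulAut V) (hX1 : X e1 = e1)
    (hX2 : X e2 = e1 * e2) (hY1 : Y e1 = e1 * e2) (hY2 : Y e2 = e2) {m : ℕ} (hm : p ∣ 2 * m + 1) :
    X * X * Y ^ m * X * Y * X⁻¹ * X = X ^ 4 * (X * X * Y ^ m * X * Y * X⁻¹) := by
  let F : ℤ → ℤ → V := fun i j => e1 ^ i * e2 ^ j
  have hXF : ∀ i j, X (F i j) = F (i + j) j := fun i j => by
    simp only [F, map_mul, map_zpow, hX1, hX2, mul_zpow, zpow_add, mul_assoc]
  have hXiF : ∀ i j, X⁻¹ (F i j) = F (i - j) j := fun i j => by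
    apply X.injective
    rw [MulAut.apply_inv_self, hXF, sub_add_cancel]
  have hYF : ∀ i j, Y (F i j) = F i (j + i) := fun i j => by
    simp only [F, map_mul, map_zpow, hY1, hY2, mul_zpow, zpow_add, mul_assoc, mul_left_comm,
      mul_comm]
  have hYmF : ∀ (n : ℕ) i j, (Y ^ n) (F i j) = F i (j + n * i) := by
    intro n
    induction n with
    | zero => simp
    | succ n ih =>
      intro i j
      rw [pow_succ', MulAut.mul_apply, ih, hYF]
      congr 1
      push_cast; ring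
  have hcongr : ∀ i j i' j' : ℤ, (p : ℤ) ∣ i - i' → (p : ℤ) ∣ j - j' → F i j = F i' j' := by
    intro i j i' j' hi hj
    have h : ∀ (e : V) (a b : ℤ), (p : ℤ) ∣ a - b → e ^ a = e ^ b := fun e a b ⟨k, hk⟩ => by
      rw [show a = b + (p : ℤ) * k by omega, zpow_add, zpow_mul, zpow_natCast, hV, one_zpow, mul_one]
    exact congrArg₂ (· * ·) (h e1 i i' hi) (h e2 j j' hj)
  have hX4 : ∀ i j, (X ^ 4) (F i j) = F (i + 4 * j) j := fun i j => by
    simp only [pow_succ, pow_zero, one_mul, MulAut.mul_apply, hXF]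
    congr 1
    ring
  have hm' : (p : ℤ) ∣ 2 * (m : ℤ) + 1 := by exact_mod_cast Int.natCast_dvd_natCast.2 hm
  ext v
  obtain ⟨i, j, rfl⟩ := hgen v
  rw [show e1 ^ i * e2 ^ j = F i j from rfl]
  simp only [MulAut.mul_apply, hXF, hXiF, hYF, hYmF, hX4]
  obtain ⟨k, hk⟩ := hm'
  refine hcongr _ _ _ _ ?_ ?_
  · exact ⟨k * (4 * j - 4 * i), by linear_combination (4 * j - 4 * i) * hk⟩
  · exact ⟨k * j, by linear_combination j * hk⟩

/-- Conjugation of `V` by a single commutator. -/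
theorem commutator_pow_left {H : Type*} [Group H] {v x : H} (h : Commute x ⁅v, x⁆) :
    ∀ i : ℤ, ⁅v, x ^ i⁆ = ⁅v, x⁆ ^ i := by
  intro i
  have h1 : v * x * v⁻¹ = ⁅v, x⁆ * x := by rw [commutatorElement_def]; group
  rw [commutatorElement_def, ← conj_zpow, h1, h.symm.mul_zpow, mul_inv_cancel_right]

/-- A `p`-solvable group with trivial `p'`-core and a Sylow subgroup with `Data` has it normal. -/
theorem sylow_eq_pCore {G : Type*} [Group G] [Finite G] {p : ℕ} [hp : Fact p.Prime]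
    (hG : IsPSolvable p G) (hK : pPrimeCore p G = ⊥) (Q : Sylow p G)
    (hD : Data p (Q : Subgroup G)) : (Q : Subgroup G) = pCore p G := by
  classical
  set V := pCore p G with hV
  have hVQ : V ≤ Q := pCore_le_sylow Q
  have hCV : Subgroup.centralizer (V : Set G) ≤ V := CfsgLib.PSolvable.centralizer_pCore_le hG hK
  by_contra hne
  set Zs := (Subgroup.center (Q : Subgroup G)).map (Q : Subgroup G).subtype with hZs
  have hZsQ : Zs ≤ Q := Subgroup.map_subtype_le _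
  have hZcen : ∀ z ∈ Zs, ∀ g ∈ (Q : Subgroup G), Commute g z := by
    rintro _ ⟨z, hz, rfl⟩ g hg
    exact congrArg Subtype.val (Subgroup.mem_center_iff.1 hz ⟨g, hg⟩)
  have hmemZs : ∀ (g : G) (hg : g ∈ (Q : Subgroup G)),
      g ∈ Zs ↔ (⟨g, hg⟩ : (Q : Subgroup G)) ∈ Subgroup.center (Q : Subgroup G) := fun g hg =>
    ⟨fun ⟨z, hz, he⟩ => (Subtype.ext he : z = ⟨g, hg⟩) ▸ hz, fun h => ⟨_, h, rfl⟩⟩
  have hZV : Zs ≤ V := fun z hz =>
    hCV (Subgroup.mem_centralizer_iff.2 fun v hv => hZcen z hz v (hVQ hv))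
  have hZcomm : ∀ a ∈ (Q : Subgroup G), ∀ b ∈ (Q : Subgroup G), ⁅a, b⁆ ∈ Zs := fun a ha b hb =>
    ⟨⁅(⟨a, ha⟩ : (Q : Subgroup G)), ⟨b, hb⟩⁆, hD.frattini_le
      (CfsgLib.PGroups.commutatorElement_mem_frattini Q.isPGroup' _ _), rfl⟩
  have hZpow : ∀ a ∈ (Q : Subgroup G), a ^ p ∈ Zs := fun a ha =>
    ⟨(⟨a, ha⟩ : (Q : Subgroup G)) ^ p, hD.frattini_le
      (CfsgLib.PGroups.pow_mem_frattini Q.isPGroup' _), rfl⟩
  have hcam : ∀ v ∈ (Q : Subgroup G), v ∉ Zs → ∀ z ∈ Zs, ∃ g ∈ (Q : Subgroup G), ⁅v, g⁆ = z := by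
    rintro v hv hvZ _ ⟨z, hz, rfl⟩
    obtain ⟨g, hg⟩ := hD.camina ⟨v, hv⟩ (fun h => hvZ ((hmemZs v hv).2 h)) z hz
    exact ⟨g, g.2, congrArg Subtype.val hg⟩
  have hVp : IsPGroup p V := isPGroup_pCore p G
  set N := (frattini V).map V.subtype with hN
  haveI hNn : N.Normal := ConjAct.normal_of_characteristic_of_normal
  have hNZ : N ≤ Zs := by
    rintro _ ⟨x, hx, rfl⟩
    refine CfsgLib.PGroups.frattini_le_of (p := p) (N := Zs.subgroupOf V) ?_ ?_ hx
    · rw [commutator_def, Subgroup.commutator_le]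
      exact fun a _ b _ => hZcomm a (hVQ a.2) b (hVQ b.2)
    · exact fun a => hZpow a (hVQ a.2)
  have hNV : N ≤ V := Subgroup.map_subtype_le _
  have hfix : ∀ g : G, (∀ v ∈ V, ⁅g, v⁆ ∈ N) → g ∈ V := by
    let K0 : Subgroup G :=
      { carrier := {g | ∀ v ∈ V, ⁅g, v⁆ ∈ N}
        one_mem' := fun v _ => by rw [commutatorElement_one_left]; exact N.one_mem
        mul_mem' := fun {a b} ha hb v hv => by
          have h1 : ⁅a * b, v⁆ = a * ⁅b, v⁆ * a⁻¹ * ⁅a, v⁆ := by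
            simp only [commutatorElement_def]; group
          rw [h1]; exact N.mul_mem (hNn.conj_mem _ (hb v hv) a) (ha v hv)
        inv_mem' := fun {a} ha v hv => by
          have h1 : ⁅a⁻¹, v⁆ = a⁻¹ * ⁅a, v⁆⁻¹ * a⁻¹⁻¹ := by simp only [commutatorElement_def]; group
          rw [h1]; exact hNn.conj_mem _ (N.inv_mem (ha v hv)) _ }
    haveI : K0.Normal := ⟨fun g hg x v hv => by
      have hv' : x⁻¹ * v * x⁻¹⁻¹ ∈ V := (inferInstance : V.Normal).conj_mem v hv x⁻¹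
      have h1 : ⁅x * g * x⁻¹, v⁆ = x * ⁅g, x⁻¹ * v * x⁻¹⁻¹⁆ * x⁻¹ := by
        simp only [commutatorElement_def]; group
      rw [h1]; exact hNn.conj_mem _ (hg _ hv') x⟩
    suffices hp0 : IsPGroup p K0 from fun g hg => le_pCore hp0 (show g ∈ K0 from hg)
    rw [IsPGroup.iff_orderOf]
    rintro ⟨g, hg⟩
    rw [Subgroup.orderOf_mk]
    obtain ⟨k, m, hm, hkm⟩ := Nat.exists_eq_pow_mul_and_not_dvd (orderOf_pos g).ne' p hp.out.ne_one
    refine ⟨k, ?_⟩
    have hom : orderOf (g ^ p ^ k) = m := by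
      rw [orderOf_pow_of_dvd (pow_ne_zero _ hp.out.ne_zero) (hkm ▸ dvd_mul_right _ _), hkm,
        Nat.mul_div_cancel_left _ (pow_pos hp.out.pos k)]
    have hcp : (p ^ k).Coprime m := ((hp.out.coprime_iff_not_dvd).2 hm).pow_left k
    have hc : Subgroup.zpowers (g ^ p ^ k) ≤ Subgroup.centralizer (V : Set G) := by
      refine CfsgLib.CoprimeAction.le_centralizer_of_frattini ?_ ?_ ?_
      · exact fun x _ => (Subgroup.normalizer_eq_top (H := V)).symm ▸ Subgroup.mem_top x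
      · obtain ⟨l, hl⟩ := IsPGroup.iff_card.1 (hVp.to_subgroup (frattini V))
        rw [Nat.card_zpowers, hom, hl]
        exact (((hp.out.coprime_iff_not_dvd).2 hm).symm).pow_right l
      · intro a ha v hv
        have haK : a ∈ K0 := Subgroup.zpowers_le.2 (K0.pow_mem hg _) ha
        have h1 := hNn.conj_mem _ (haK v hv) v⁻¹
        have e : v⁻¹ * ⁅a, v⁆ * v⁻¹⁻¹ = v⁻¹ * (a * v * a⁻¹) := by
          rw [commutatorElement_def]; group
        rw [e] at h1
        exact h1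
    have h1 : g ^ p ^ k = 1 := by
      have hmem : g ^ p ^ k ∈ V := hCV (hc (Subgroup.mem_zpowers _))
      obtain ⟨l, hl⟩ := IsPGroup.iff_orderOf.1 hVp ⟨_, hmem⟩
      rw [Subgroup.orderOf_mk, hom] at hl
      have : m = 1 := by
        rcases Nat.eq_zero_or_pos l with h0 | h0
        · rw [hl, h0, pow_zero]
        · exact absurd (hl ▸ dvd_pow_self p h0.ne') hm
      rw [this] at hom
      exact orderOf_eq_one_iff.1 hom
    have h2 := orderOf_dvd_of_pow_eq_one h1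
    exact Nat.dvd_antisymm h2 (hkm ▸ dvd_mul_right _ _)
  set π := QuotientGroup.mk' N with hπ
  have hπ1 : ∀ g, π g = 1 ↔ g ∈ N := fun g => QuotientGroup.eq_one_iff g
  have hπc : ∀ a b : G, π ⁅a, b⁆ = ⁅π a, π b⁆ := fun a b => map_commutatorElement π a b
  set U := V.map π with hU
  haveI hUn : U.Normal := Subgroup.Normal.map inferInstance π (QuotientGroup.mk'_surjective N)
  set Z1 := Zs.map π with hZ1
  have hUcomm : ∀ a ∈ U, ∀ b ∈ U, Commute a b := by
    rintro _ ⟨a, ha, rfl⟩ _ ⟨b, hb, rfl⟩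
    refine commutatorElement_eq_one_iff_mul_comm.1 ?_
    rw [← hπc, hπ1]
    exact ⟨⁅(⟨a, ha⟩ : V), ⟨b, hb⟩⁆, CfsgLib.PGroups.commutatorElement_mem_frattini hVp _ _, rfl⟩
  have hUp : ∀ a ∈ U, a ^ p = 1 := by
    rintro _ ⟨a, ha, rfl⟩
    rw [← map_pow, hπ1]
    exact ⟨(⟨a, ha⟩ : V) ^ p, CfsgLib.PGroups.pow_mem_frattini hVp _, rfl⟩
  have hZ1U : Z1 ≤ U := Subgroup.map_mono hZV
  have hZ1cen : ∀ z ∈ Z1, ∀ g ∈ (Q : Subgroup G), Commute (π g) z := by
    rintro _ ⟨z, hz, rfl⟩ g hg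
    exact (hZcen z hz g hg).map π
  have hC1 : ∀ u ∈ U, ∀ g ∈ (Q : Subgroup G), ⁅u, π g⁆ ∈ Z1 := by
    rintro _ ⟨v, hv, rfl⟩ g hg
    exact ⟨⁅v, g⁆, hZcomm v (hVQ hv) g hg, hπc v g⟩
  have hcam1 : ∀ u ∈ U, u ∉ Z1 → ∀ z ∈ Z1, ∃ g ∈ (Q : Subgroup G), ⁅u, π g⁆ = z := by
    rintro _ ⟨v, hv, rfl⟩ hvZ _ ⟨z, hz, rfl⟩
    obtain ⟨g, hg, rfl⟩ := hcam v (hVQ hv) (fun h => hvZ ⟨v, h, rfl⟩) z hz
    exact ⟨g, hg, (hπc v g).symm⟩
  have hfixπ : ∀ g : G, (∀ u ∈ U, Commute (π g) u) → g ∈ V := fun g hg => hfix g fun v hv => by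
    rw [← hπ1, hπc, commutatorElement_eq_one_iff_mul_comm]
    exact hg _ ⟨v, hv, rfl⟩
  have hZ1ne : Z1 ≠ ⊥ := by
    intro h
    refine hne (le_antisymm (fun q hq => hfixπ q fun u hu => ?_) hVQ)
    have h1 := hC1 u hu q hq
    rw [h, Subgroup.mem_bot, commutatorElement_eq_one_iff_mul_comm] at h1
    exact h1.symm
  -- the action on `G/V`
  set μ := QuotientGroup.mk' V with hμ
  have hμ1 : ∀ g, μ g = 1 ↔ g ∈ V := fun g => QuotientGroup.eq_one_iff g
  set Kb := pPrimeCore p (G ⧸ V) with hKb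
  set Qb := (Q : Subgroup G).map μ with hQb
  have hQbc : ∀ a ∈ Qb, ∀ b ∈ Qb, a * b = b * a := by
    rintro _ ⟨a, ha, rfl⟩ _ ⟨b, hb, rfl⟩
    rw [← commutatorElement_eq_one_iff_mul_comm, ← map_commutatorElement, hμ1]
    exact hZV (hZcomm a ha b hb)
  have hQbp : ∀ a ∈ Qb, a ^ p = 1 := by
    rintro _ ⟨a, ha, rfl⟩
    rw [← map_pow, hμ1]
    exact hZV (hZpow a ha)
  haveI hKbn : Kb.Normal := inferInstance
  have hKbp : ∀ w ∈ Kb, ∀ j : ℕ, w ^ p ^ j = 1 → w = 1 := by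
    intro w hw j h
    have h1 := orderOf_dvd_of_pow_eq_one h
    have h2 := Kb.orderOf_dvd_natCard hw
    have h3 : (Nat.card Kb).Coprime (p ^ j) := (card_pPrimeCore_coprime p).pow_right j
    exact orderOf_eq_one_iff.1 (Nat.eq_one_of_dvd_coprimes h3 h2 h1)
  have hnc : ¬ Qb ≤ Subgroup.centralizer (Kb : Set (G ⧸ V)) := by
    intro h
    refine not_dvd_centralizer_pPrimeCore (CfsgLib.PSolvable.isPSolvable_quotient hG V)
      (pCore_quotient_pCore p G) ?_
    refine dvd_trans ?_ (Subgroup.card_dvd_of_le h)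
    obtain ⟨q, hq, hqV⟩ := SetLike.exists_of_lt (lt_of_le_of_ne hVQ (Ne.symm hne))
    have hq1 : μ q ≠ 1 := fun h => hqV ((hμ1 q).1 h)
    exact (orderOf_eq_prime (hQbp _ ⟨q, hq, rfl⟩) hq1).symm.dvd.trans
      (Qb.orderOf_dvd_natCard ⟨q, hq, rfl⟩)
  have hcop : (Nat.card Qb).Coprime (Nat.card Kb) := by
    obtain ⟨n, hn⟩ := IsPGroup.iff_card.1 (Q.isPGroup'.map μ)
    change (Nat.card ↥((Q : Subgroup G).map μ)).Coprime _
    rw [hn]
    exact ((card_pPrimeCore_coprime p).symm).pow_left n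
  obtain ⟨B, hBQ, _, ⟨x, hxQ, rfl⟩, hxB, hQB, _, hlK, hlB, hxl⟩ := exists_hyperplane Qb Kb hQbc hQbp
    (fun g _ => (Subgroup.normalizer_eq_top (H := Kb)).symm ▸ Subgroup.mem_top g) hcop hnc
  rename_i lb
  obtain ⟨l, rfl⟩ := QuotientGroup.mk'_surjective V lb
  set Bs := (Q : Subgroup G) ⊓ B.comap μ with hBs
  have hVBs : V ≤ Bs := le_inf hVQ fun v hv => by
    rw [Subgroup.mem_comap, (hμ1 v).2 hv]; exact B.one_mem
  have hdec : ∀ q ∈ (Q : Subgroup G), ∃ b ∈ Bs, ∃ i : ℤ, q = b * x ^ i := by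
    intro q hq
    have h1 : μ q ∈ B ⊔ Subgroup.zpowers (μ x) := hQB ⟨q, hq, rfl⟩
    have hnorm : Subgroup.zpowers (μ x) ≤ Subgroup.normalizer (B : Set (G ⧸ V)) := by
      refine le_trans ?_ (Subgroup.centralizer_le_normalizer _)
      exact Subgroup.zpowers_le.2 (Subgroup.mem_centralizer_iff.2 fun b hb =>
        hQbc b (hBQ hb) _ ⟨x, hxQ, rfl⟩)
    rw [← SetLike.mem_coe, Subgroup.coe_mul_of_right_le_normalizer_left _ _ hnorm] at h1
    obtain ⟨b, hb, _, ⟨i, rfl⟩, he⟩ := h1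
    have hmem : q * (x ^ i)⁻¹ ∈ Bs := by
      refine ⟨(Q : Subgroup G).mul_mem hq ((Q : Subgroup G).inv_mem
        ((Q : Subgroup G).zpow_mem hxQ i)), ?_⟩
      change μ (q * (x ^ i)⁻¹) ∈ B
      rw [map_mul, map_inv, map_zpow, ← he, mul_inv_cancel_right]
      exact hb
    exact ⟨_, hmem, i, (inv_mul_cancel_right q _).symm⟩
  set D := U ⊓ Subgroup.centralizer (Bs.map π : Set (G ⧸ N)) with hDdef
  have hBsU : ∀ b ∈ Bs, ∃ v ∈ V, l⁻¹ * b * l = v * b := by
    intro b hb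
    refine ⟨l⁻¹ * b * l * b⁻¹, ?_, (inv_mul_cancel_right _ b).symm⟩
    rw [← hμ1, map_mul, map_mul, map_mul, map_inv, map_inv, mul_inv_eq_one,
      mul_assoc, hlB _ hb.2, inv_mul_cancel_left]
  have hDn : π l ∈ Subgroup.normalizer (D : Set (G ⧸ N)) := by
    refine CfsgLib.CoprimeAction.mem_normalizer_of_conj_mem fun d hd => ⟨?_, ?_⟩
    · exact hUn.conj_mem d hd.1 _
    · refine Subgroup.mem_centralizer_iff.2 ?_
      rintro _ ⟨b, hb, rfl⟩
      obtain ⟨v, hv, he⟩ := hBsU b hb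
      have hc : Commute d (π (l⁻¹ * b * l)) := by
        rw [he, map_mul]
        exact (hUcomm d hd.1 _ ⟨v, hv, rfl⟩).mul_right
          (Subgroup.mem_centralizer_iff.1 hd.2 _ ⟨b, hb, rfl⟩).symm
      rw [map_mul, map_mul, map_inv] at hc
      calc π b * (π l * d * (π l)⁻¹) = π l * (((π l)⁻¹ * π b * π l) * d) * (π l)⁻¹ := by group
        _ = π l * (d * ((π l)⁻¹ * π b * π l)) * (π l)⁻¹ := by rw [hc.eq]
        _ = π l * d * (π l)⁻¹ * π b := by group
  have hZ1D : Z1 ≤ D := le_inf hZ1U fun z hz => Subgroup.mem_centralizer_iff.2 (by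
    rintro _ ⟨b, hb, rfl⟩
    exact hZ1cen z hz b hb.1)
  set c := l * x * l⁻¹ * x⁻¹ with hc
  have hcV : c ∉ V := fun h => hxl (by
    have h1 := (hμ1 c).2 h
    simp only [hc, map_mul, map_inv, mul_inv_eq_one] at h1
    exact (mul_inv_eq_iff_eq_mul.1 h1).symm)
  have hcKb : μ c ∈ Kb := by
    simp only [hc, map_mul, map_inv]
    have h1 := hKbn.conj_mem _ (Kb.inv_mem hlK) (μ x)
    have h2 := Kb.mul_mem hlK h1
    have e : μ l * μ x * (μ l)⁻¹ * (μ x)⁻¹ = μ l * (μ x * (μ l)⁻¹ * (μ x)⁻¹) := by group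
    rw [e]; exact h2
  have hckill : ∀ j : ℕ, (∀ u ∈ U, Commute (π (c ^ p ^ j)) u) → False := fun j h => by
    refine hcV ((hμ1 c).1 (hKbp _ hcKb j ?_))
    rw [← map_pow]; exact (hμ1 _).2 (hfixπ _ h)
  -- `x` fixes `S` modulo `T` and `l` normalises both: so does `c`
  have htriv : ∀ S T : Subgroup (G ⧸ N), π l ∈ Subgroup.normalizer (S : Set (G ⧸ N)) →
      π l ∈ Subgroup.normalizer (T : Set (G ⧸ N)) → T ≤ S →
      (∀ a ∈ S, a⁻¹ * (π x * a * (π x)⁻¹) ∈ T) →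
      π c ∈ Subgroup.normalizer (S : Set (G ⧸ N)) ∧ ∀ a ∈ S, a⁻¹ * (π c * a * (π c)⁻¹) ∈ T := by
    intro S T hlS hlT hTS hxS
    have hcon : ∀ (g : G ⧸ N), (∀ a ∈ S, a⁻¹ * (g * a * g⁻¹) ∈ T) → ∀ a ∈ S, g * a * g⁻¹ ∈ S :=
      fun g hg a ha => by
        have := S.mul_mem ha (hTS (hg a ha)); rwa [mul_inv_cancel_left] at this
    have h1 : ∀ a ∈ S, a⁻¹ * ((π l * π x * (π l)⁻¹) * a * (π l * π x * (π l)⁻¹)⁻¹) ∈ T := by
      intro a ha
      have ha' : (π l)⁻¹ * a * π l ∈ S := by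
        have := (Subgroup.mem_normalizer_iff.1 (Subgroup.inv_mem _ hlS) a).1 ha
        simpa using this
      have h2 := (Subgroup.mem_normalizer_iff.1 hlT _).1 (hxS _ ha')
      have e : π l * (((π l)⁻¹ * a * π l)⁻¹ * (π x * ((π l)⁻¹ * a * π l) * (π x)⁻¹)) * (π l)⁻¹ =
          a⁻¹ * ((π l * π x * (π l)⁻¹) * a * (π l * π x * (π l)⁻¹)⁻¹) := by group
      rwa [e] at h2
    have hnx : π x ∈ Subgroup.normalizer (S : Set (G ⧸ N)) :=
      CfsgLib.CoprimeAction.mem_normalizer_of_conj_mem (hcon _ hxS)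
    have h3 : ∀ a ∈ S, a⁻¹ * (π c * a * (π c)⁻¹) ∈ T := by
      intro a ha
      set b := (π x)⁻¹ * a * π x with hb
      have hbS : b ∈ S := by
        have := (Subgroup.mem_normalizer_iff.1 (Subgroup.inv_mem _ hnx) a).1 ha
        simpa using this
      have hab : a⁻¹ * b ∈ T := by
        have h4 := T.inv_mem (hxS b hbS)
        have e : (b⁻¹ * (π x * b * (π x)⁻¹))⁻¹ = a⁻¹ * b := by rw [hb]; group
        rwa [e] at h4
      have e : a⁻¹ * (π c * a * (π c)⁻¹) =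
          (a⁻¹ * b) * (b⁻¹ * ((π l * π x * (π l)⁻¹) * b * (π l * π x * (π l)⁻¹)⁻¹)) := by
        simp only [hc, hb, map_mul, map_inv]; group
      rw [e]
      exact T.mul_mem hab (h1 b hbS)
    exact ⟨CfsgLib.CoprimeAction.mem_normalizer_of_conj_mem (hcon _ h3), h3⟩
  have hbotn : ∀ g : G ⧸ N, g ∈ Subgroup.normalizer ((⊥ : Subgroup (G ⧸ N)) : Set (G ⧸ N)) :=
    fun g => CfsgLib.CoprimeAction.mem_normalizer_of_conj_mem (by simp)
  have hUnorm : ∀ g : G ⧸ N, g ∈ Subgroup.normalizer (U : Set (G ⧸ N)) := fun g =>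
    (Subgroup.normalizer_eq_top (H := U)).symm ▸ Subgroup.mem_top g
  have hxU : ∀ u ∈ U, u⁻¹ * (π x * u * (π x)⁻¹) ∈ Z1 := fun u hu => by
    have := hC1 u⁻¹ (U.inv_mem hu) x hxQ
    rw [commutatorElement_def, inv_inv] at this
    simpa [mul_assoc] using this
  obtain ⟨hcU, hcUD⟩ := htriv U D (hUnorm _) hDn inf_le_left (fun u hu => hZ1D (hxU u hu))
  -- `x` moves some element of `D`
  obtain ⟨d0, hd0D, hd0⟩ : ∃ d0 ∈ D, ¬ Commute d0 (π x) := by
    by_contra hall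
    push Not at hall
    obtain ⟨-, hfixD⟩ := htriv D ⊥ hDn (hbotn _) bot_le (fun d hd => by
      rw [Subgroup.mem_bot, (hall d hd).symm.eq, mul_inv_cancel_right, inv_mul_cancel])
    have hfixD' : ∀ d ∈ D, π c * d * (π c)⁻¹ = d := fun d hd =>
      (inv_mul_eq_one.1 (Subgroup.mem_bot.1 (hfixD d hd))).symm
    refine hckill 1 fun u hu => ?_
    have := pow_fix (n := p) (fun d (hd : d ∈ D) => hUp d hd.1) hfixD' hcUD u hu
    rw [pow_one, map_pow]
    exact (mul_inv_eq_iff_eq_mul.1 this)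
  have hd0U : d0 ∈ U := hd0D.1
  have hd0Z : d0 ∉ Z1 := fun h => hd0 (hZ1cen d0 h x hxQ).symm
  set z0 := ⁅d0, π x⁆ with hz0
  have hz0Z : z0 ∈ Z1 := hC1 d0 hd0U x hxQ
  have hz0ne : z0 ≠ 1 := fun h => hd0 (commutatorElement_eq_one_iff_mul_comm.1 h)
  have hZ1z : Z1 = Subgroup.zpowers z0 := by
    refine le_antisymm (fun z hz => ?_) (Subgroup.zpowers_le.2 hz0Z)
    obtain ⟨q, hq, rfl⟩ := hcam1 d0 hd0U hd0Z z hz
    obtain ⟨b, hb, i, rfl⟩ := hdec q hq
    refine Subgroup.mem_zpowers_iff.2 ⟨i, ?_⟩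
    have hcb : Commute d0 (π b) := (Subgroup.mem_centralizer_iff.1 hd0D.2 _ ⟨b, hb, rfl⟩).symm
    have hzb : Commute (π b) (z0 ^ i) := (hZ1cen z0 hz0Z b hb.1).zpow_right i
    have hpl := commutator_pow_left (v := d0) (x := π x) (hZ1cen z0 hz0Z x hxQ) i
    rw [map_mul, map_zpow]
    simp only [commutatorElement_def] at hpl ⊢
    calc z0 ^ i = π b * z0 ^ i * (π b)⁻¹ := by rw [hzb.eq, mul_inv_cancel_right]
      _ = π b * (d0 * π x ^ i * d0⁻¹ * (π x ^ i)⁻¹) * (π b)⁻¹ := by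
          rw [hpl]; rfl
      _ = (π b * d0) * π x ^ i * d0⁻¹ * (π b * π x ^ i)⁻¹ := by group
      _ = (d0 * π b) * π x ^ i * d0⁻¹ * (π b * π x ^ i)⁻¹ := by rw [hcb.eq]
      _ = d0 * (π b * π x ^ i) * d0⁻¹ * (π b * π x ^ i)⁻¹ := by group
  have hcardZ1 : Nat.card Z1 = p := by
    rw [hZ1z, Nat.card_zpowers]
    exact orderOf_eq_prime (hUp _ (hZ1U hz0Z)) hz0ne
  have hcycZ : ∀ e ∈ Z1, e ≠ 1 → Z1 = Subgroup.zpowers e := fun e he he1 =>
    (Subgroup.eq_of_le_of_card_ge (Subgroup.zpowers_le.2 he)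
      (by rw [hcardZ1, Nat.card_zpowers, orderOf_eq_prime (hUp _ (hZ1U he)) he1])).symm
  -- the hyperplane is `V`
  have hBsV : Bs ≤ V := by
    intro b hb
    refine hfixπ b fun u hu => ?_
    by_contra hbu
    set e := ⁅u, π b⁆ with he
    have he1 : e ≠ 1 := fun h => hbu (commutatorElement_eq_one_iff_mul_comm.1 h).symm
    have hle : π l * e * (π l)⁻¹ ∈ Z1 := by
      obtain ⟨v, hv, hvb⟩ : ∃ v ∈ V, v = l * b * l⁻¹ * b⁻¹ := ⟨_, by
        rw [← hμ1, map_mul, map_mul, map_mul, map_inv, map_inv, mul_inv_eq_one,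
          mul_inv_eq_iff_eq_mul]
        exact (hlB _ hb.2).symm, rfl⟩
      have hlb : π l * π b * (π l)⁻¹ = π v * π b := by
        rw [hvb]; simp
      set u' := π l * u * (π l)⁻¹ with hu'
      have hu'U : u' ∈ U := hUn.conj_mem u hu _
      have hcuv : Commute u' (π v) := hUcomm u' hu'U _ ⟨v, hv, rfl⟩
      have hz : ⁅u', π b⁆ ∈ Z1 := hC1 u' hu'U b hb.1
      have e1 : π l * e * (π l)⁻¹ = ⁅u', π l * π b * (π l)⁻¹⁆ := by
        simp only [he, hu', commutatorElement_def]; group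
      have e2 : ⁅u', π v * π b⁆ = ⁅u', π b⁆ := by
        have hvz : Commute (π v) ⁅u', π b⁆ := hUcomm _ ⟨v, hv, rfl⟩ _ (hZ1U hz)
        calc ⁅u', π v * π b⁆ = (u' * π v) * π b * u'⁻¹ * (π b)⁻¹ * (π v)⁻¹ := by
              simp only [commutatorElement_def]; group
          _ = (π v * u') * π b * u'⁻¹ * (π b)⁻¹ * (π v)⁻¹ := by rw [hcuv.eq]
          _ = π v * ⁅u', π b⁆ * (π v)⁻¹ := by simp only [commutatorElement_def]; group
          _ = ⁅u', π b⁆ := by rw [hvz.eq, mul_inv_cancel_right]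
      rw [e1, hlb, e2]; exact hz
    have hlZ : π l ∈ Subgroup.normalizer (Z1 : Set (G ⧸ N)) := by
      refine CfsgLib.CoprimeAction.mem_normalizer_of_conj_mem fun z hz => ?_
      rw [hcycZ e (hC1 u hu b hb.1) he1] at hz
      obtain ⟨i, rfl⟩ := Subgroup.mem_zpowers_iff.1 hz
      rw [← conj_zpow]
      exact Z1.zpow_mem hle i
    obtain ⟨-, hcZ⟩ := htriv Z1 ⊥ hlZ (hbotn _) bot_le (fun z hz => by
      rw [Subgroup.mem_bot, (hZ1cen z hz x hxQ).eq, mul_inv_cancel_right, inv_mul_cancel])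
    have hcZ' : ∀ z ∈ Z1, π c * z * (π c)⁻¹ = z := fun z hz =>
      (inv_mul_eq_one.1 (Subgroup.mem_bot.1 (hcZ z hz))).symm
    obtain ⟨-, hcD⟩ := htriv D Z1 hDn hlZ hZ1D (fun d hd => hxU d hd.1)
    have hcpD : ∀ d ∈ D, π c ^ p * d * (π c ^ p)⁻¹ = d :=
      pow_fix (n := p) (fun z hz => hUp z (hZ1U hz)) hcZ' hcD
    have hcpU : ∀ a ∈ U, a⁻¹ * (π c ^ p * a * (π c ^ p)⁻¹) ∈ D := by
      intro a ha
      have hstep : ∀ k : ℕ, ∀ a ∈ U, a⁻¹ * (π c ^ k * a * (π c ^ k)⁻¹) ∈ D := by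
        intro k
        induction k with
        | zero => intro a _; simp
        | succ k ih =>
          intro a ha
          have h1 : π c ^ k * a * (π c ^ k)⁻¹ ∈ U := hUn.conj_mem a ha _
          have h2 := D.mul_mem (ih a ha) (hcUD _ h1)
          have e : a⁻¹ * (π c ^ k * a * (π c ^ k)⁻¹) * ((π c ^ k * a * (π c ^ k)⁻¹)⁻¹ *
              (π c * (π c ^ k * a * (π c ^ k)⁻¹) * (π c)⁻¹)) =
              a⁻¹ * (π c ^ (k + 1) * a * (π c ^ (k + 1))⁻¹) := by rw [pow_succ']; group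
          rwa [e] at h2
      exact hstep p a ha
    refine hckill 2 fun a ha => ?_
    have := pow_fix (n := p) (fun d (hd : d ∈ D) => hUp d hd.1) hcpD hcpU a ha
    rw [map_pow, pow_two, pow_mul]
    exact mul_inv_eq_iff_eq_mul.1 this
  have hQdec : ∀ q ∈ (Q : Subgroup G), ∃ v ∈ V, ∃ i : ℤ, q = v * x ^ i := fun q hq => by
    obtain ⟨b, hb, i, rfl⟩ := hdec q hq
    exact ⟨b, hBsV hb, i, rfl⟩
  -- `C_U(x) = Z1`
  have hCUx : ∀ u ∈ U, Commute u (π x) → u ∈ Z1 := by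
    intro u hu hux
    by_contra huZ
    obtain ⟨q, hq, hqe⟩ := hcam1 u hu huZ z0 hz0Z
    obtain ⟨v, hv, i, rfl⟩ := hQdec q hq
    refine hz0ne ?_
    rw [← hqe, commutatorElement_eq_one_iff_mul_comm, map_mul, map_zpow]
    exact (hUcomm u hu _ ⟨v, hv, rfl⟩).mul_right (hux.zpow_right i)
  have hU2 : Nat.card U = p ^ 2 := by
    let f : U →* Z1 :=
      { toFun := fun u => ⟨⁅(u : G ⧸ N), π x⁆, hC1 u u.2 x hxQ⟩
        map_one' := Subtype.ext (commutatorElement_one_left _)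
        map_mul' := fun a b => Subtype.ext (by
          change ⁅(a : G ⧸ N) * b, π x⁆ = ⁅(a : G ⧸ N), π x⁆ * ⁅(b : G ⧸ N), π x⁆
          have hab : Commute (a : G ⧸ N) ⁅(b : G ⧸ N), π x⁆ :=
            hUcomm _ a.2 _ (hZ1U (hC1 _ b.2 x hxQ))
          have hzz : Commute ⁅(b : G ⧸ N), π x⁆ ⁅(a : G ⧸ N), π x⁆ :=
            hUcomm _ (hZ1U (hC1 _ b.2 x hxQ)) _ (hZ1U (hC1 _ a.2 x hxQ))
          calc ⁅(a : G ⧸ N) * b, π x⁆ = (a : G ⧸ N) * ⁅(b : G ⧸ N), π x⁆ *
                (a : G ⧸ N)⁻¹ * ⁅(a : G ⧸ N), π x⁆ := by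
                simp only [commutatorElement_def]; group
            _ = ⁅(b : G ⧸ N), π x⁆ * ⁅(a : G ⧸ N), π x⁆ := by rw [hab.eq, mul_inv_cancel_right]
            _ = _ := hzz.eq) }
    have hker : f.ker = Z1.subgroupOf U := by
      ext u
      rw [MonoidHom.mem_ker, Subgroup.mem_subgroupOf, ← Subtype.coe_inj]
      change ⁅(u : G ⧸ N), π x⁆ = 1 ↔ _
      rw [commutatorElement_eq_one_iff_mul_comm]
      exact ⟨fun h => hCUx u u.2 h, fun h => (hZ1cen u h x hxQ).symm⟩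
    have hsur : f.range = ⊤ := by
      refine Subgroup.eq_top_of_card_eq _ ?_
      have hd := Subgroup.card_subgroup_dvd_card f.range
      rw [hcardZ1] at hd ⊢
      rcases hp.out.eq_one_or_self_of_dvd _ hd with h | h
      · exfalso
        refine hz0ne ?_
        have h2 : (⟨z0, hz0Z⟩ : Z1) ∈ f.range := ⟨⟨d0, hd0U⟩, rfl⟩
        rw [Subgroup.eq_bot_of_card_eq _ h, Subgroup.mem_bot] at h2
        exact congrArg Subtype.val h2
      · exact h
    have h1 := Subgroup.index_ker f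
    rw [hsur, Subgroup.card_top, hcardZ1, hker] at h1
    rw [← (Z1.subgroupOf U).card_mul_index, h1,
      Nat.card_congr (Subgroup.subgroupOfEquivOfLe hZ1U).toEquiv, hcardZ1, pow_two]
  -- back in `G`
  obtain ⟨v0, hv0V, hv0⟩ := hd0U
  have hv0Z : v0 ∉ Zs := fun h => hd0Z (hv0 ▸ ⟨v0, h, rfl⟩)
  set W := Subgroup.zpowers v0 ⊔ Zs with hW
  have hWV : W ≤ V := sup_le (Subgroup.zpowers_le.2 hv0V) hZV
  have hWab : ∀ a ∈ W, ∀ b ∈ W, Commute a b := by
    have hle : W ≤ Subgroup.centralizer (W : Set G) := by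
      refine sup_le ?_ (fun z hz => Subgroup.mem_centralizer_iff.2 fun g hg =>
        hZcen z hz g (hVQ (hWV hg)))
      refine Subgroup.le_centralizer_iff.1 (sup_le (Subgroup.le_centralizer _) ?_)
      exact fun z hz => Subgroup.mem_centralizer_iff.2 fun g hg =>
        hZcen z hz g (hVQ (Subgroup.zpowers_le.2 hv0V hg))
    exact fun a ha b hb => Subgroup.mem_centralizer_iff.1 (hle hb) a ha
  have hWeq : W = V := by
    refine le_antisymm hWV fun v hv => ?_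
    have hWπ : W.map π = U := by
      refine Subgroup.eq_of_le_of_card_ge (Subgroup.map_mono hWV) ?_
      rw [hU2]
      have hlt : Z1 < W.map π := lt_of_le_not_ge (Subgroup.map_mono le_sup_right) fun h =>
        hd0Z (h ⟨v0, Subgroup.mem_sup_left (Subgroup.mem_zpowers v0), hv0⟩)
      have hd : Nat.card (W.map π) ∣ p ^ 2 := hU2 ▸ Subgroup.card_dvd_of_le (Subgroup.map_mono hWV)
      obtain ⟨j, hj, hj'⟩ := (Nat.dvd_prime_pow hp.out).1 hd
      have hgt : Nat.card Z1 < Nat.card (W.map π) := by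
        by_contra h
        exact hlt.ne (Subgroup.eq_of_le_of_card_ge hlt.le (not_lt.1 h))
      rw [hcardZ1, hj'] at hgt
      have : j = 2 := by
        rcases (show j = 0 ∨ j = 1 ∨ j = 2 by omega) with h | h | h
        · rw [h, pow_zero] at hgt; have := hp.out.one_lt; omega
        · rw [h, pow_one] at hgt; omega
        · exact h
      rw [hj', this]
    obtain ⟨w, hw, hwv⟩ : π v ∈ W.map π := hWπ ▸ ⟨v, hv, rfl⟩
    have h1 : w⁻¹ * v ∈ N := QuotientGroup.eq.1 hwv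
    have := W.mul_mem hw ((le_sup_right : Zs ≤ W) (hNZ h1))
    rwa [mul_inv_cancel_left] at this
  have hVab : ∀ a ∈ V, ∀ b ∈ V, Commute a b := fun a ha b hb =>
    hWab a (hWeq.ge ha) b (hWeq.ge hb)
  set zz := ⁅v0, x⁆ with hzz
  have hzzZ : zz ∈ Zs := hZcomm v0 (hVQ hv0V) x hxQ
  have hzz1 : zz ≠ 1 := fun h => hz0ne (by
    rw [hz0, ← hv0, ← hπc, ← hzz, h, map_one])
  have hzzp : zz ^ p = 1 := by
    have hh := commutator_pow_left (v := v0) (x := x) (hZcen zz hzzZ x hxQ) p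
    rw [zpow_natCast, zpow_natCast] at hh
    rw [← hh, commutatorElement_eq_one_iff_mul_comm]
    exact (hVab v0 hv0V _ (hZV (hZpow x hxQ))).eq
  have hZsz : Zs = Subgroup.zpowers zz := by
    refine le_antisymm (fun z hz => ?_) (Subgroup.zpowers_le.2 hzzZ)
    obtain ⟨q, hq, rfl⟩ := hcam v0 (hVQ hv0V) hv0Z z hz
    obtain ⟨v, hv, i, rfl⟩ := hQdec q hq
    refine Subgroup.mem_zpowers_iff.2 ⟨i, ?_⟩
    have hcv : Commute v0 v := hVab v0 hv0V v hv
    have hzv : Commute v (zz ^ i) := (hZcen zz hzzZ v (hVQ hv)).zpow_right i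
    have hpl := commutator_pow_left (v := v0) (x := x) (hZcen zz hzzZ x hxQ) i
    simp only [commutatorElement_def] at hpl ⊢
    calc zz ^ i = v * zz ^ i * v⁻¹ := by rw [hzv.eq, mul_inv_cancel_right]
      _ = v * (v0 * x ^ i * v0⁻¹ * (x ^ i)⁻¹) * v⁻¹ := by rw [hpl]; rfl
      _ = (v * v0) * x ^ i * v0⁻¹ * (v * x ^ i)⁻¹ := by group
      _ = (v0 * v) * x ^ i * v0⁻¹ * (v * x ^ i)⁻¹ := by rw [hcv.eq]
      _ = v0 * (v * x ^ i) * v0⁻¹ * (v * x ^ i)⁻¹ := by group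
  have hcardZs : Nat.card Zs = p := by
    rw [hZsz, Nat.card_zpowers]; exact orderOf_eq_prime hzzp hzz1
  have hNbot : N = ⊥ := by
    by_contra hN0
    have hNeq : N = Zs := Subgroup.eq_of_le_of_card_ge hNZ (by
      rw [hcardZs]
      have hd : Nat.card N ∣ p := hcardZs ▸ Subgroup.card_dvd_of_le hNZ
      rcases hp.out.eq_one_or_self_of_dvd _ hd with h | h
      · exact absurd (Subgroup.eq_bot_of_card_eq _ h) hN0
      · exact h.ge)
    refine hZ1ne ?_
    rw [hZ1, ← hNeq, Subgroup.map_eq_bot_iff, hπ, QuotientGroup.ker_mk']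
  have hπinj : Function.Injective π := by
    rw [← MonoidHom.ker_eq_bot_iff, hπ, QuotientGroup.ker_mk', hNbot]
  have hVp' : ∀ v ∈ V, v ^ p = 1 := fun v hv => hπinj (by
    rw [map_pow, map_one]; exact hUp _ ⟨v, hv, rfl⟩)
  have hVc : Nat.card V = p ^ 2 := by
    rw [← hU2, hU, Subgroup.card_map_of_injective hπinj]
  have hxV : x ∉ V := fun h => hxB (by rw [(hμ1 x).2 h]; exact B.one_mem)
  have hQc : Nat.card (Q : Subgroup G) = p ^ 3 := by
    have hQbz : Qb = Subgroup.zpowers (μ x) := by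
      refine le_antisymm ?_ (Subgroup.zpowers_le.2 ⟨x, hxQ, rfl⟩)
      rintro _ ⟨q, hq, rfl⟩
      obtain ⟨v, hv, i, rfl⟩ := hQdec q hq
      rw [map_mul, (hμ1 v).2 hv, one_mul, map_zpow]
      exact Subgroup.zpow_mem_zpowers _ i
    have h1 : Nat.card Qb = p := by
      rw [hQbz, Nat.card_zpowers]
      exact orderOf_eq_prime (hQbp _ ⟨x, hxQ, rfl⟩) fun h => hxV ((hμ1 x).1 h)
    have h2 : (V.subgroupOf (Q : Subgroup G)).index = p := by
      rw [hQb, ← MonoidHom.domRestrict_range, ← Subgroup.index_ker, MonoidHom.ker_domRestrict,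
        hμ, QuotientGroup.ker_mk'] at h1
      exact h1
    rw [← (V.subgroupOf (Q : Subgroup G)).card_mul_index, h2,
      Nat.card_congr (Subgroup.subgroupOfEquivOfLe hVQ).toEquiv, hVc, ← pow_succ]
  rcases le_or_gt p 3 with hp3 | hp3
  · refine hD.small hp3 hQc (V.subgroupOf (Q : Subgroup G)) (fun z hz => hZV ⟨z, hz, rfl⟩) ?_
      (fun v hv => Subtype.ext (by simpa using hVp' _ hv))
    rw [Nat.card_congr (Subgroup.subgroupOfEquivOfLe hVQ).toEquiv, hVc]
  -- `p ≥ 5`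
  have hxZ : ∀ v ∈ V, Commute v x → v ∈ Zs := fun v hv hvx => by
    obtain ⟨z, hz, hze⟩ := hCUx (π v) ⟨v, hv, rfl⟩ (hvx.map π)
    exact hπinj hze ▸ hz
  set zl := l * zz * l⁻¹ with hzl
  have hzlV : zl ∈ V := (inferInstance : V.Normal).conj_mem zz (hZV hzzZ) l
  by_cases hlZ : zl ∈ Zs
  · have hlZ1 : π l ∈ Subgroup.normalizer (Z1 : Set (G ⧸ N)) := by
      refine CfsgLib.CoprimeAction.mem_normalizer_of_conj_mem ?_
      rintro _ ⟨z, hz, rfl⟩
      rw [hZsz] at hz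
      obtain ⟨i, rfl⟩ := Subgroup.mem_zpowers_iff.1 hz
      refine ⟨zl ^ i, Zs.zpow_mem hlZ i, ?_⟩
      rw [hzl, conj_zpow, map_mul, map_mul, map_inv]
    obtain ⟨-, hcZ⟩ := htriv Z1 ⊥ hlZ1 (hbotn _) bot_le (fun z hz => by
      rw [Subgroup.mem_bot, (hZ1cen z hz x hxQ).eq, mul_inv_cancel_right, inv_mul_cancel])
    have hcZ' : ∀ z ∈ Z1, π c * z * (π c)⁻¹ = z := fun z hz =>
      (inv_mul_eq_one.1 (Subgroup.mem_bot.1 (hcZ z hz))).symm
    obtain ⟨-, hcU'⟩ := htriv U Z1 (hUnorm _) hlZ1 hZ1U hxU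
    refine hckill 1 fun u hu => ?_
    have := pow_fix (n := p) (fun z hz => hUp z (hZ1U hz)) hcZ' hcU' u hu
    rw [pow_one, map_pow]
    exact mul_inv_eq_iff_eq_mul.1 this
  set y := l * x * l⁻¹ with hy
  set e2 := zl with he2
  set e1 := ⁅x, e2⁆ with he1
  have he1Z : e1 ∈ Zs := hZcomm x hxQ e2 (hVQ hzlV)
  have he1ne : e1 ≠ 1 := fun h => hlZ (hxZ e2 hzlV (commutatorElement_eq_one_iff_mul_comm.1 h).symm)
  have hxe1 : x * e1 * x⁻¹ = e1 := by rw [(hZcen e1 he1Z x hxQ).eq, mul_inv_cancel_right]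
  have hxe2 : x * e2 * x⁻¹ = e1 * e2 := by rw [he1, commutatorElement_def]; group
  have hye2 : y * e2 * y⁻¹ = e2 := by
    have h0 : x * zz * x⁻¹ = zz := by rw [(hZcen zz hzzZ x hxQ).eq, mul_inv_cancel_right]
    calc y * e2 * y⁻¹ = l * (x * zz * x⁻¹) * l⁻¹ := by rw [hy, hzl]; group
      _ = e2 := by rw [h0]
  obtain ⟨b, hb⟩ : ∃ b : ℤ, e1⁻¹ * (y * e1 * y⁻¹) = e2 ^ b := by
    set w := l⁻¹ * e1 * l with hw
    have hwV : w ∈ V := by
      have := (inferInstance : V.Normal).conj_mem e1 (hZV he1Z) l⁻¹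
      rwa [inv_inv] at this
    have hz : ⁅w⁻¹, x⁆ ∈ Zs := hZcomm _ ((Q : Subgroup G).inv_mem (hVQ hwV)) x hxQ
    rw [hZsz] at hz
    obtain ⟨i, hi⟩ := Subgroup.mem_zpowers_iff.1 hz
    refine ⟨i, ?_⟩
    rw [hzl, conj_zpow, hi, hy, hw, commutatorElement_def]
    group
  have hyb : ∀ n : ℕ, y ^ n * e1 * (y ^ n)⁻¹ = e1 * (e2 ^ b) ^ n := by
    intro n
    induction n with
    | zero => simp
    | succ n ih =>
      have h1 : y * (e2 ^ b) ^ n * y⁻¹ = (e2 ^ b) ^ n := by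
        rw [← conj_pow, ← conj_zpow, hye2]
      calc y ^ (n + 1) * e1 * (y ^ (n + 1))⁻¹ = y * (y ^ n * e1 * (y ^ n)⁻¹) * y⁻¹ := by
            rw [pow_succ']; group
        _ = (y * e1 * y⁻¹) * (y * (e2 ^ b) ^ n * y⁻¹) := by rw [ih]; group
        _ = e1 * (e2 ^ b) ^ (n + 1) := by
            rw [h1, pow_succ', ← mul_assoc, ← hb, mul_inv_cancel_left]
  have heb : e2 ^ b ≠ 1 := by
    intro h
    rw [h] at hb
    have h1 : y * e1 * y⁻¹ = e1 := (inv_mul_eq_one.1 hb).symm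
    set w := l⁻¹ * e1 * l with hw
    have hwV : w ∈ V := by
      have := (inferInstance : V.Normal).conj_mem e1 (hZV he1Z) l⁻¹
      rwa [inv_inv] at this
    have hwx : Commute w x := by
      have h2 : x * w * x⁻¹ = w := by
        calc x * w * x⁻¹ = l⁻¹ * (y * e1 * y⁻¹) * l := by rw [hy, hw]; group
          _ = w := by rw [h1]
      exact (mul_inv_eq_iff_eq_mul.1 h2).symm
    have hwZ : w ∈ Subgroup.zpowers zz := hZsz ▸ hxZ w hwV hwx
    obtain ⟨i, hi⟩ := Subgroup.mem_zpowers_iff.1 hwZ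
    have h3 : e1 = e2 ^ i := by
      rw [hzl, conj_zpow, hi, hw]; group
    have hcx : Commute x e1 := hZcen e1 he1Z x hxQ
    apply hlZ
    have hoe2 : orderOf e2 = p := orderOf_eq_prime (hVp' e2 hzlV) (fun h => by
      rw [h] at h3; exact he1ne (by rw [h3, one_zpow]))
    have hoe1 : orderOf e1 = p := orderOf_eq_prime (hVp' e1 (hZV he1Z)) he1ne
    have heq : Subgroup.zpowers e1 = Subgroup.zpowers e2 :=
      Subgroup.eq_of_le_of_card_ge (Subgroup.zpowers_le.2 (h3 ▸ Subgroup.zpow_mem_zpowers e2 i))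
        (by rw [Nat.card_zpowers, Nat.card_zpowers, hoe1, hoe2])
    exact Subgroup.zpowers_le.2 he1Z (heq.ge (Subgroup.mem_zpowers e2))
  have he2p : e2 ^ p = 1 := hVp' e2 hzlV
  obtain ⟨n, hn⟩ : ∃ n : ℕ, (e2 ^ b) ^ n = e2 := by
    have hmem : e2 ∈ Subgroup.zpowers (e2 ^ b) := by
      have he2ne : e2 ≠ 1 := fun h => heb (by rw [h, one_zpow])
      have : Subgroup.zpowers (e2 ^ b) = Subgroup.zpowers e2 :=
        Subgroup.eq_of_le_of_card_ge (Subgroup.zpowers_le.2 (Subgroup.zpow_mem_zpowers e2 b))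
          (by rw [Nat.card_zpowers, Nat.card_zpowers, orderOf_eq_prime he2p he2ne,
            orderOf_eq_prime (hVp' _ (V.zpow_mem hzlV b)) heb])
      exact this.ge (Subgroup.mem_zpowers e2)
    obtain ⟨n, hn⟩ := (isOfFinOrder_of_finite (e2 ^ b)).mem_powers_iff_mem_zpowers.2 hmem
    exact ⟨n, hn⟩
  letI : CommGroup V :=
    { (inferInstance : Group V) with
      mul_comm := fun a b => Subtype.ext (hVab a a.2 b b.2).eq }
  let φ : G →* MulAut V := MulAut.conjNormal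
  have hφ : ∀ (g : G) (v : V), ((φ g v : V) : G) = g * v * g⁻¹ := fun g v => rfl
  let E1 : V := ⟨e1, hZV he1Z⟩
  let E2 : V := ⟨e2, hzlV⟩
  have hgen : ∀ v : V, ∃ i j : ℤ, v = E1 ^ i * E2 ^ j := by
    intro v
    have hdis : Subgroup.zpowers e1 ⊓ Subgroup.zpowers e2 = ⊥ := by
      by_contra hd
      obtain ⟨⟨g, hg1, hg2⟩, hg⟩ := Subgroup.ne_bot_iff_exists_ne_one.1 hd
      have hg' : g ≠ 1 := fun h => hg (Subtype.ext h)
      have hgV : g ∈ V := Subgroup.zpowers_le.2 (hZV he1Z) hg1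
      have he2ne : e2 ≠ 1 := fun h => heb (by rw [h, one_zpow])
      have h2 : Subgroup.zpowers g = Subgroup.zpowers e2 :=
        Subgroup.eq_of_le_of_card_ge (Subgroup.zpowers_le.2 hg2)
          (by rw [Nat.card_zpowers, Nat.card_zpowers, orderOf_eq_prime (hVp' g hgV) hg',
            orderOf_eq_prime he2p he2ne])
      exact hlZ (Subgroup.zpowers_le.2 (Subgroup.zpowers_le.2 he1Z hg1)
        (h2.ge (Subgroup.mem_zpowers e2)))
    have hc : ∀ a ∈ Subgroup.zpowers e1, ∀ b ∈ Subgroup.zpowers e2, a * b = b * a :=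
      fun a ha b hb => (hVab a (Subgroup.zpowers_le.2 (hZV he1Z) ha) b
        (Subgroup.zpowers_le.2 hzlV hb)).eq
    have htop : Subgroup.zpowers e1 ⊔ Subgroup.zpowers e2 = V := by
      refine Subgroup.eq_of_le_of_card_ge (sup_le (Subgroup.zpowers_le.2 (hZV he1Z))
        (Subgroup.zpowers_le.2 hzlV)) ?_
      rw [CfsgLib.Minimal.card_sup_of_commute hc hdis, hVc, Nat.card_zpowers, Nat.card_zpowers,
        orderOf_eq_prime (hVp' e1 (hZV he1Z)) he1ne,
        orderOf_eq_prime he2p (fun h => heb (by rw [h, one_zpow])), pow_two]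
    obtain ⟨a, ⟨i, rfl⟩, b', ⟨j, rfl⟩, he⟩ :=
      CfsgLib.Minimal.mem_sup_of_commute hc (htop.ge v.2)
    exact ⟨i, j, Subtype.ext (by simpa [E1, E2] using he.symm)⟩
  have hm : p ∣ 2 * ((p - 1) / 2) + 1 := by
    have hodd : Odd p := hp.out.odd_of_ne_two (by omega)
    rw [Nat.two_mul_div_two_of_even (Nat.Odd.sub_odd hodd odd_one), Nat.sub_add_cancel hp.out.one_le]
  set y1 := y ^ n with hy1
  set m := (p - 1) / 2 with hmdef
  have hmain := conj_eq_pow_four (V := V) (fun v => Subtype.ext (by simpa using hVp' _ v.2))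
    hgen (φ x) (φ y1) (Subtype.ext (by rw [hφ]; exact hxe1))
    (Subtype.ext (by rw [hφ]; exact hxe2))
    (Subtype.ext (by rw [hφ]; change y1 * e1 * y1⁻¹ = e1 * e2; rw [hy1, hyb, hn]))
    (Subtype.ext (by
      rw [hφ]; change y1 * e2 * y1⁻¹ = e2
      have hcy : Commute y e2 := mul_inv_eq_iff_eq_mul.1 hye2
      rw [hy1, (hcy.pow_left n).eq, mul_inv_cancel_right])) hm
  simp only [← map_inv, ← map_pow, ← map_mul] at hmain
  set W0 := x * x * y1 ^ m * x * y1 * x⁻¹ with hW0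
  have hgV : W0 * x * (x ^ 4 * W0)⁻¹ ∈ V := by
    refine hCV (Subgroup.mem_centralizer_iff.2 fun v hv => ?_)
    have hid : φ (W0 * x * (x ^ 4 * W0)⁻¹) = 1 := by
      rw [map_mul φ (W0 * x), map_inv, hmain, mul_inv_cancel]
    have h1 := congrArg Subtype.val (DFunLike.congr_fun hid (⟨v, hv⟩ : V))
    rw [hφ, MulAut.one_apply] at h1
    exact (mul_inv_eq_iff_eq_mul.1 h1).symm
  -- push into `(G/V)/O_{p'}`, where `x` and its conjugate coincide
  let ψ : G →* (G ⧸ V) ⧸ Kb := (QuotientGroup.mk' Kb).comp μ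
  have hψV : ∀ g ∈ V, ψ g = 1 := fun g hg => by
    change QuotientGroup.mk' Kb (μ g) = 1
    rw [(hμ1 g).2 hg, map_one]
  have hψl : ψ l = 1 := (QuotientGroup.eq_one_iff _).2 hlK
  have hψy : ψ y1 = ψ x ^ n := by
    rw [hy1, map_pow, hy, map_mul, map_mul, map_inv, hψl, one_mul, inv_one, mul_one]
  have h3 : ψ x ^ 3 = 1 := by
    have h1 := hψV _ hgV
    rw [map_mul ψ (W0 * x), map_inv, mul_inv_eq_one, map_mul ψ W0 x, map_mul ψ (x ^ 4) W0, map_pow] at h1
    have hcomm : Commute (ψ W0) (ψ x) := by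
      simp only [hW0, map_mul, map_inv, map_pow, hψy]
      have := Commute.refl (ψ x)
      exact (((((this.mul_left this).mul_left ((this.pow_left n).pow_left m)).mul_left this).mul_left
        (this.pow_left n)).mul_left this.inv_left)
    rw [hcomm.eq, mul_left_inj, pow_succ' (ψ x) 3, left_eq_mul] at h1
    exact h1
  have hp1 : ψ x ^ p = 1 := by rw [← map_pow]; exact hψV _ (hZV (hZpow x hxQ))
  have hψx : ψ x = 1 := by
    have hd : orderOf (ψ x) ∣ Nat.gcd 3 p :=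
      Nat.dvd_gcd (orderOf_dvd_of_pow_eq_one h3) (orderOf_dvd_of_pow_eq_one hp1)
    rw [(Nat.coprime_primes Nat.prime_three hp.out).2 (by omega)] at hd
    exact orderOf_eq_one_iff.1 (Nat.dvd_one.1 hd)
  refine hxV ((hμ1 x).1 (hKbp _ ((QuotientGroup.eq_one_iff _).1 hψx) 1 ?_))
  rw [pow_one, ← map_pow, hμ1]
  exact hZV (hZpow x hxQ)

/-- A `p`-solvable group whose Sylow `p`-subgroups are abelian or have `Data` has `p`-length one. -/
theorem pLengthLE_one {G : Type*} [Group G] [Finite G] {p : ℕ} [hp : Fact p.Prime]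
    (hG : IsPSolvable p G) (Q : Sylow p G)
    (h : Subgroup.center (Q : Subgroup G) = ⊤ ∨ Data p (Q : Subgroup G)) : PLengthLE p 1 G := by
  apply CfsgLib.PSolvable.pLengthLE_of_pPrimePCore_quotient_coprime
  set K := pPrimeCore p G with hK
  let f := QuotientGroup.mk' K
  have hf : Function.Surjective f := QuotientGroup.mk'_surjective K
  let Qb : Sylow p (G ⧸ K) := Q.mapSurjective hf
  have hGb : IsPSolvable p (G ⧸ K) := CfsgLib.PSolvable.isPSolvable_quotient hG K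
  have hKb : pPrimeCore p (G ⧸ K) = ⊥ := pPrimeCore_quotient_pPrimeCore p
  have hdisj : Disjoint (Q : Subgroup G) K := by
    obtain ⟨n, hn⟩ := IsPGroup.iff_card.1 Q.isPGroup'
    refine Subgroup.disjoint_of_coprime_natCard ?_
    rw [hn]
    exact ((card_pPrimeCore_coprime p).symm).pow_left n
  have hinj : Function.Injective (f.domRestrict (Q : Subgroup G)) := by
    rw [← MonoidHom.ker_eq_bot_iff, MonoidHom.ker_domRestrict, QuotientGroup.ker_mk',
      Subgroup.subgroupOf_eq_bot]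
    exact hdisj.symm
  let e : (Q : Subgroup G) ≃* (Qb : Subgroup (G ⧸ K)) :=
    (MonoidHom.ofInjective hinj).trans (MulEquiv.subgroupCongr (MonoidHom.domRestrict_range _ _))
  have hQb : (Qb : Subgroup (G ⧸ K)) = pCore p (G ⧸ K) := by
    rcases h with h | h
    · refine le_antisymm (fun q hq => CfsgLib.PSolvable.centralizer_pCore_le hGb hKb
        (Subgroup.mem_centralizer_iff.2 fun v hv => ?_)) (pCore_le_sylow Qb)
      obtain ⟨a, ha⟩ := e.surjective ⟨v, pCore_le_sylow Qb hv⟩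
      obtain ⟨b, hb⟩ := e.surjective ⟨q, hq⟩
      have hab : a * b = b * a := Subgroup.mem_center_iff.1 (h ▸ Subgroup.mem_top b) a
      have := congrArg (fun t => ((e t : (Qb : Subgroup (G ⧸ K))) : G ⧸ K)) hab
      simpa [ha, hb] using this
    · exact sylow_eq_pCore hGb hKb Qb (Data.of_mulEquiv e h)
  have hidx : (pPrimePCore p G).index = (Qb : Subgroup (G ⧸ K)).index := by
    rw [hQb, ← Subgroup.index_comap_of_surjective (pCore p (G ⧸ K)) hf]
    rfl
  rw [hidx]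
  exact ((hp.out.coprime_iff_not_dvd).2 Qb.not_dvd_index).symm

end CfsgLib.Minimal.SchmidtPLength
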